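import Cfsg.Agent.H480.KillBound
import Cfsg.Agent.CpAutRuFive.Cert
import Cfsg.Agent.RuLat.Main

/-!
# Nilpotent minimal covers: `Ru` (helper480, S3925, S3926)
-/

set_option autoImplicit false
set_option maxRecDepth 100000
set_option exponentiation.threshold 5000

namespace Cfsg.Agent.H480.RuRow

open Subgroup
open Cfsg.Agent.SporadicB Cfsg.Agent.SporRec.TCUpperCert Cfsg.Agent.RuD.Letters Cfsg.Agent.KFacts.Ru.CentEng
  Cfsg.Agent.CpAutRuFive.Cert Cfsg.Agent.SporRec.R3.Kernel

noncomputable def chkEq (u v : List ℕ) : Bool :=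
  allL (fun b => Nat.beq (evalK u b) (evalK v b)) [0, 29, 580, 577]

theorem eq_of_chkEq {u v : List ℕ} (h : chkEq u v = true) : wprod ml u = (wprod ml v : RuOrder.H) := by
  have h1 := (allL_iff _ _).1 h
  apply eq_of_base
  intro b hb
  rw [evalK_eq, evalK_eq]
  simp only [List.mem_cons, List.not_mem_nil, or_false] at hb
  rcases hb with rfl | rfl | rfl | rfl
  · exact Nat.eq_of_beq_eq_true (h1 0 (by simp))
  · exact Nat.eq_of_beq_eq_true (h1 29 (by simp))
  · exact Nat.eq_of_beq_eq_true (h1 580 (by simp))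
  · exact Nat.eq_of_beq_eq_true (h1 577 (by simp))

theorem ne_of_eval {u v : List ℕ} (i : ℕ) (hi : i < 4060) (h : Nat.beq (evalK u i) (evalK v i) = false) :
    wprod ml u ≠ (wprod ml v : RuOrder.H) := by
  intro he
  have h1 := evalK_eq u ⟨i, hi⟩
  have h2 := evalK_eq v ⟨i, hi⟩
  rw [he, h2] at h1
  have h3 : evalK v i = evalK u i := h1
  rw [h3] at h
  simp at h

theorem cardB : Nat.card ↥(centralizer ({wprod ml wB} : Set RuOrder.H)) ≤ 300 := by
  have e : centralizer ({wprod ml wB} : Set RuOrder.H) = Cen [wB] := by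
    ext x
    rw [mem_centralizer_singleton_iff, mem_Cen]
    simp
  rw [e]
  exact card_B

theorem comm_word {u v : List ℕ} (h : chkEq (u ++ v) (v ++ u) = true) :
    (wprod ml u : RuOrder.H) * wprod ml v = wprod ml v * wprod ml u := by
  rw [← wprod_append, ← wprod_append]
  exact eq_of_chkEq h

theorem kill_h : Kill ↥RuOrder.H := by
  have hfin : Finite RuOrder.H := by
    have : Finite (Equiv.Perm (Fin 4060)) := inferInstance
    infer_instance
  have hf2 : Fact (Nat.Prime 2) := ⟨Nat.prime_two⟩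
  have hf3 : Fact (Nat.Prime 3) := ⟨Nat.prime_three⟩
  have hf5 : Fact (Nat.Prime 5) := ⟨by norm_num⟩
  have hz : orderOf (wprod ml wB : RuOrder.H) = 5 := by
    refine orderOf_eq_prime ?_ ?_
    · have h1 : wprod ml (wB ++ (wB ++ (wB ++ (wB ++ wB)))) = (wprod ml [] : RuOrder.H) :=
        eq_of_chkEq (by decide +kernel)
      rw [wprod_append, wprod_append, wprod_append, wprod_append, wprod_nil] at h1
      rw [← h1]
      simp only [pow_succ, pow_zero, one_mul, mul_assoc]
    · rw [← wprod_nil ml]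
      exact ne_of_eval 1 (by norm_num) (by decide +kernel)
  have hd : orderOf (wprod ml [4] : RuOrder.H) = 3 := by
    refine orderOf_eq_prime ?_ ?_
    · have h1 : wprod ml ([4] ++ ([4] ++ [4])) = (wprod ml [] : RuOrder.H) :=
        eq_of_chkEq (by decide +kernel)
      rw [wprod_append, wprod_append, wprod_nil] at h1
      rw [← h1]
      simp only [pow_succ, pow_zero, one_mul, mul_assoc]
    · rw [← wprod_nil ml]
      exact ne_of_eval 1 (by norm_num) (by decide +kernel)
  have hqi : (wprod ml [0] : RuOrder.H)⁻¹ = wprod ml [0] := by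
    apply inv_eq_of_mul_eq_one_left
    rw [← wprod_append, ← wprod_nil ml]
    exact eq_of_chkEq (by decide +kernel)
  have hdi : (wprod ml [4] : RuOrder.H)⁻¹ = wprod ml [8] := by
    apply inv_eq_of_mul_eq_one_left
    rw [← wprod_append, ← wprod_nil ml]
    exact eq_of_chkEq (by decide +kernel)
  have hc : (wprod ml [0] : RuOrder.H) * wprod ml [4] * (wprod ml [0])⁻¹ * (wprod ml [4])⁻¹ = wprod ml [0, 4, 0, 8] := by
    rw [hqi, hdi, ← wprod_append, ← wprod_append, ← wprod_append]
    rfl
  refine Kill.of_bound (r := 5) (m := 3) (by norm_num) (z := wprod ml wB) (d := wprod ml [4])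
    (a := wprod ml [0, 5, 4, 0, 5, 4]) (q := wprod ml [0]) hz hd (by norm_num)
    (comm_word (by decide +kernel)) (lt_of_le_of_lt cardB (by norm_num)) (comm_word (by decide +kernel)) ?_ ?_
    (comm_word (by decide +kernel)) ?_ ?_
  · have h1 : wprod ml ([0, 5, 4, 0, 5, 4] ++ ([0, 5, 4, 0, 5, 4] ++ ([0, 5, 4, 0, 5, 4] ++ ([0, 5, 4, 0, 5, 4] ++
        [0, 5, 4, 0, 5, 4])))) = (wprod ml [] : RuOrder.H) := eq_of_chkEq (by decide +kernel)
    rw [wprod_append, wprod_append, wprod_append, wprod_append, wprod_nil] at h1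
    rw [← h1]
    simp only [pow_succ, pow_zero, one_mul, mul_assoc]
  · rw [← wprod_append, ← wprod_append]
    exact ne_of_eval 0 (by norm_num) (by decide +kernel)
  · rw [hc, hd]
    have h2 : orderOf (wprod ml [0, 4, 0, 8] : RuOrder.H) = 2 := by
      refine orderOf_eq_prime ?_ ?_
      · have h1 : wprod ml ([0, 4, 0, 8] ++ [0, 4, 0, 8]) = (wprod ml [] : RuOrder.H) :=
          eq_of_chkEq (by decide +kernel)
        rw [wprod_append, wprod_nil] at h1
        rw [pow_two]
        exact h1
      · rw [← wprod_nil ml]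
        exact ne_of_eval 0 (by norm_num) (by decide +kernel)
    rw [h2]
    norm_num
  · rw [hc, ← wprod_append, ← wprod_append]
    exact ne_of_eval 0 (by norm_num) (by decide +kernel)

theorem kill_ru : Kill Cfsg.Spor.Ru := Kill.congr RuLat.Main.equiv.symm kill_h

end Cfsg.Agent.H480.RuRow
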