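import Cfsg.Agent.H480.Quot
import Cfsg.Agent.PLocal.CountSubgroups
import Cfsg.Agent.Characters.CNBasic

/-!
# Nilpotent minimal covers: reduction to almost simple groups with cyclic outer part (helper480, S3926)

* `NMC.quotient` : solvability of the proper quotients, by induction;
* `NMC.isCyclic_quotient` : a solvable quotient is cyclic if there is no nilpotent normal subgroup;
* `solvable_of_nmc` : the reduction.
-/

set_option autoImplicit false

namespace Cfsg.Agent.H480

open Subgroup
open scoped commutatorElement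

universe u

variable {G : Type u} [Group G]

theorem index_prime_of_coatom [Finite G] {K : Subgroup G} [K.Normal] (hK : IsCoatom K) : K.index.Prime := by
  have h1 : K.index ≠ 1 := fun h => hK.1 (index_eq_one.1 h)
  obtain ⟨r, hr, hri⟩ := Nat.exists_prime_and_dvd h1
  have hfr : Fact r.Prime := ⟨hr⟩
  obtain ⟨x, hx⟩ := exists_prime_orderOf_dvd_card' (G := G ⧸ K) r hri
  have h2 : K ≤ (zpowers x).comap (QuotientGroup.mk' K) := by
    intro k hk
    rw [mem_comap, QuotientGroup.mk'_apply, (QuotientGroup.eq_one_iff k).2 hk]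
    exact one_mem _
  have h3 : (zpowers x).comap (QuotientGroup.mk' K) ≠ K := by
    intro h
    obtain ⟨y, rfl⟩ := QuotientGroup.mk_surjective x
    have h4 : y ∈ (zpowers (y : G ⧸ K)).comap (QuotientGroup.mk' K) := mem_zpowers _
    rw [h] at h4
    rw [(QuotientGroup.eq_one_iff y).2 h4, orderOf_one] at hx
    exact hr.one_lt.ne hx
  have h5 : (zpowers x).comap (QuotientGroup.mk' K) = ⊤ := hK.2 _ (lt_of_le_of_ne h2 (Ne.symm h3))
  have h6 : zpowers x = ⊤ := by
    rw [eq_top_iff]
    intro y _
    obtain ⟨z, rfl⟩ := QuotientGroup.mk_surjective y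
    have h7 : z ∈ (zpowers x).comap (QuotientGroup.mk' K) := by rw [h5]; exact mem_top z
    exact h7
  have h7 : Nat.card (G ⧸ K) = r := by
    rw [← hx, ← Nat.card_zpowers, h6, card_top]
  rw [Subgroup.index, h7]
  exact hr

theorem nilpotent_map {H : Type*} [Group H] {A : Subgroup G} (hA : Group.IsNilpotent ↥A) (f : G →* H) :
    Group.IsNilpotent ↥(A.map f) :=
  Group.nilpotent_of_surjective (h := hA) (f.subgroupMap A) (f.subgroupMap_surjective A)

namespace NMC

variable {𝓐 : Finset (Subgroup G)}

/-- the index of a member is at most the number of members -/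
theorem exists_index_le (h : NMC 𝓐) : ∃ A ∈ 𝓐, A.index ≤ 𝓐.card := by
  classical
  obtain ⟨i, hi, -, h2⟩ := Subgroup.exists_index_le_card_of_leftCoset_cover (s := 𝓐) (H := fun A => A)
    (g := fun _ => (1 : G)) (by
      rw [Set.eq_univ_iff_forall]
      intro g
      obtain ⟨A, hA, hg⟩ := h.cov.2 g
      simp only [Set.mem_iUnion]
      exact ⟨A, hA, by simpa using hg⟩)
  exact ⟨i, hi, h2⟩

open Classical in
/-- a nonnilpotent quotient inherits a nilpotent minimal cover -/
theorem quotient [Finite G] (h : NMC 𝓐) (N : Subgroup G) [N.Normal] (hN : ¬ Group.IsNilpotent (G ⧸ N)) :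
    ∃ 𝓑 : Finset (Subgroup (G ⧸ N)), NMC 𝓑 := by
  have hcov : IsCov (𝓐.image (fun A => A.map (QuotientGroup.mk' N))) := by
    constructor
    · intro B hB
      obtain ⟨A, hA, rfl⟩ := Finset.mem_image.1 hB
      intro htop
      apply hN
      have h1 := nilpotent_map (h.nil A hA) (QuotientGroup.mk' N)
      rw [htop] at h1
      exact Group.isNilpotent_top.1 h1
    · intro g
      obtain ⟨x, rfl⟩ := QuotientGroup.mk_surjective g
      obtain ⟨A, hA, hx⟩ := h.cov.2 x
      exact ⟨_, Finset.mem_image_of_mem _ hA, ⟨x, hx, rfl⟩⟩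
  refine ⟨_, hcov, ?_, ?_⟩
  · intro 𝓑 hB
    have h1 : IsCov (𝓑.image (fun B => B.comap (QuotientGroup.mk' N))) := by
      constructor
      · intro A hA
        obtain ⟨B, hBB, rfl⟩ := Finset.mem_image.1 hA
        intro htop
        apply hB.1 B hBB
        rw [eq_top_iff]
        intro y _
        obtain ⟨x, rfl⟩ := QuotientGroup.mk_surjective y
        have h2 : x ∈ B.comap (QuotientGroup.mk' N) := by rw [htop]; exact mem_top x
        exact h2
      · intro g
        obtain ⟨B, hBB, hg⟩ := hB.2 (g : G ⧸ N)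
        exact ⟨_, Finset.mem_image_of_mem _ hBB, hg⟩
    have h2 := h.min _ h1
    have h3 : (𝓑.image (fun B => B.comap (QuotientGroup.mk' N))).card ≤ 𝓑.card := Finset.card_image_le
    have h4 : (𝓐.image (fun A => A.map (QuotientGroup.mk' N))).card ≤ 𝓐.card := Finset.card_image_le
    omega
  · intro B hB
    obtain ⟨A, hA, rfl⟩ := Finset.mem_image.1 hB
    exact nilpotent_map (h.nil A hA) _

open Classical in
/-- no quotient of order `p ^ 2` which is not cyclic -/
theorem not_sq [Finite G] (h : NMC 𝓐) (hF : ∀ N : Subgroup G, N.Normal → Group.IsNilpotent ↥N → N = ⊥) (N : Subgroup G)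
    [hN : N.Normal] (hnc : ¬ IsCyclic (G ⧸ N)) {p : ℕ} (hp : p.Prime) (hi : N.index = p ^ 2) : False := by
  have hfp : Fact p.Prime := ⟨hp⟩
  have hcount := PLocal.CountSubgroups.card_normal_index_prime_of_le N hi hnc
  -- the cover
  have hfin : {M : Subgroup G | N ≤ M ∧ M.index = p}.Finite := Set.toFinite _
  have hcov : IsCov hfin.toFinset := by
    constructor
    · intro M hM
      rw [Set.Finite.mem_toFinset] at hM
      intro htop
      have h1 := hM.2
      rw [htop, index_top] at h1
      exact hp.one_lt.ne h1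
    · intro g
      -- a subgroup of order `p` of the quotient
      have hex : ∀ x : G ⧸ N, orderOf x = p → ∃ M ∈ hfin.toFinset, ∀ y : G, (y : G ⧸ N) ∈ zpowers x → y ∈ M := by
        intro x hx
        refine ⟨(zpowers x).comap (QuotientGroup.mk' N), ?_, fun y hy => hy⟩
        rw [Set.Finite.mem_toFinset]
        constructor
        · intro k hk
          rw [mem_comap, QuotientGroup.mk'_apply, (QuotientGroup.eq_one_iff k).2 hk]
          exact one_mem _
        · rw [index_comap_of_surjective _ (QuotientGroup.mk'_surjective N)]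
          have h1 := Subgroup.card_mul_index (zpowers x)
          rw [Nat.card_zpowers, hx, ← Subgroup.index, hi, pow_two] at h1
          exact Nat.eq_of_mul_eq_mul_left hp.pos h1
      have h2 : orderOf (g : G ⧸ N) ∣ p ^ 2 := by
        rw [← hi]
        exact orderOf_dvd_natCard _
      obtain ⟨k, hk, hk2⟩ := (Nat.dvd_prime_pow hp).1 h2
      have hk3 : k ≠ 2 := by
        rintro rfl
        apply hnc
        refine isCyclic_of_orderOf_eq_card (g : G ⧸ N) ?_
        rw [hk2, ← hi]
        rfl
      have hk4 : k = 0 ∨ k = 1 := by omega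
      rcases hk4 with rfl | rfl
      · rw [pow_zero, orderOf_eq_one_iff] at hk2
        obtain ⟨x, hx⟩ := exists_prime_orderOf_dvd_card' (G := G ⧸ N) p (by
          change p ∣ N.index
          rw [hi]
          exact dvd_pow_self p two_ne_zero)
        obtain ⟨M, hM, hM2⟩ := hex x hx
        exact ⟨M, hM, hM2 g (by rw [hk2]; exact one_mem _)⟩
      · rw [pow_one] at hk2
        obtain ⟨M, hM, hM2⟩ := hex _ hk2
        exact ⟨M, hM, hM2 g (mem_zpowers _)⟩
  have hcard : hfin.toFinset.card = p + 1 := by
    rw [← hcount, Nat.subtype_card hfin.toFinset]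
    intro M
    rw [Set.Finite.mem_toFinset]
    exact Iff.rfl
  have h1 := h.min _ hcov
  obtain ⟨A, hA, hAi⟩ := h.exists_index_le
  have h2 : A.normalCore = ⊥ := hF _ inferInstance (H480.nilpotent_of_le A.normalCore_le (h.nil A hA))
  have h3 : A.normalCore.index ∣ A.index.factorial := by
    rw [normalCore_eq_ker, index_ker, index_eq_card, ← Nat.card_perm]
    exact card_subgroup_dvd_card (MulAction.toPermHom G (G ⧸ A)).range
  rw [h2, index_bot] at h3
  have h4 : p ^ 2 ∣ (p + 1).factorial := by
    have h5 : N.index ∣ Nat.card G := N.index_dvd_card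
    rw [hi] at h5
    exact h5.trans (h3.trans (Nat.factorial_dvd_factorial (by omega)))
  have h5 : (p + 1).factorial = (p + 1) * (p * (p - 1).factorial) := by
    rw [Nat.factorial_succ]
    congr 1
    exact (Nat.mul_factorial_pred hp.ne_zero).symm
  rw [h5, pow_two, mul_left_comm] at h4
  have h6 : p ∣ (p + 1) * (p - 1).factorial := Nat.dvd_of_mul_dvd_mul_left hp.pos h4
  rcases hp.dvd_mul.1 h6 with h7 | h7
  · have h8 := (Nat.dvd_add_right (dvd_refl p)).1 h7
    exact hp.one_lt.ne' (Nat.dvd_one.1 h8)
  · have h8 := hp.dvd_factorial.1 h7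
    have := hp.one_lt
    omega

/-- A solvable quotient of a group with a nilpotent minimal cover and without nilpotent normal subgroups is
cyclic. -/
theorem isCyclic_quotient [Finite G] (h : NMC 𝓐) (hF : ∀ N : Subgroup G, N.Normal → Group.IsNilpotent ↥N → N = ⊥)
    (N₀ : Subgroup G) [hN₀ : N₀.Normal] (hsol : Group.IsSolvable (G ⧸ N₀)) : IsCyclic (G ⧸ N₀) := by
  have key : ∀ N : Subgroup G, N₀ ≤ N → ∀ _ : N.Normal, IsCyclic (G ⧸ N) := by
    intro N
    induction N using WellFoundedGT.induction with
    | _ N ih =>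
      intro hle hN
      by_contra hnc
      have hsolN : Group.IsSolvable (G ⧸ N) := by
        have hs : Function.Surjective (QuotientGroup.map N₀ N (MonoidHom.id G) hle) := by
          intro y
          obtain ⟨x, rfl⟩ := QuotientGroup.mk_surjective y
          exact ⟨(x : G ⧸ N₀), rfl⟩
        exact Group.isSolvable_of_surjective hs
      have hq : ∀ M : Subgroup (G ⧸ N), ∀ _ : M.Normal, M ≠ ⊥ → IsCyclic ((G ⧸ N) ⧸ M) := by
        intro M hM hM1
        have h1 : N < M.comap (QuotientGroup.mk' N) := by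
          refine lt_of_le_of_ne ?_ ?_
          · intro k hk
            rw [mem_comap, QuotientGroup.mk'_apply, (QuotientGroup.eq_one_iff k).2 hk]
            exact one_mem _
          · intro heq
            apply hM1
            rw [eq_bot_iff]
            intro x hx
            obtain ⟨y, rfl⟩ := QuotientGroup.mk_surjective x
            have h2 : y ∈ M.comap (QuotientGroup.mk' N) := hx
            rw [← heq] at h2
            rw [mem_bot]
            exact (QuotientGroup.eq_one_iff y).2 h2
        have h2 := ih _ h1 (hle.trans h1.le) inferInstance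
        have hs : Function.Surjective (QuotientGroup.map (M.comap (QuotientGroup.mk' N)) M
            (QuotientGroup.mk' N) le_rfl) := by
          intro y
          obtain ⟨x, rfl⟩ := QuotientGroup.mk_surjective y
          obtain ⟨z, rfl⟩ := QuotientGroup.mk_surjective x
          exact ⟨(z : G ⧸ _), rfl⟩
        exact isCyclic_of_surjective _ hs
      by_cases hna : ∀ a b : G ⧸ N, a * b = b * a
      · -- abelian quotient
        let cg : CommGroup (G ⧸ N) := { (inferInstance : Group (G ⧸ N)) with mul_comm := hna }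
        obtain ⟨p, hp, hcard⟩ := card_eq_sq (Q := G ⧸ N) hnc (fun M hM => hq M inferInstance hM)
        exact h.not_sq hF N hnc hp hcard
      · obtain ⟨E, D, hEn, hE1, hD, hB⟩ := exists_fit hsolN hna hq
        set π := QuotientGroup.mk' N with hπ
        have hKD : D.comap π ≠ ⊤ := by
          intro htop
          apply hD
          rw [eq_top_iff]
          intro y _
          obtain ⟨x, rfl⟩ := QuotientGroup.mk_surjective y
          have h2 : x ∈ D.comap π := by rw [htop]; exact mem_top x
          exact h2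
        have h1 : ∀ x ∈ E.comap π, x ∉ N → ∀ A : Subgroup G, Group.IsNilpotent ↥A → x ∈ A → A ≤ D.comap π := by
          intro x hx hxN A hA hxA a ha
          exact hB (A.map π) (nilpotent_map hA π) (π x) ⟨x, hxA, rfl⟩ hx (fun h1 => hxN (by
            rwa [← MonoidHom.mem_ker, hπ, QuotientGroup.ker_mk'] at h1)) ⟨a, ha, rfl⟩
        -- an element
        obtain ⟨⟨e, he⟩, he1⟩ := Subgroup.ne_bot_iff_exists_ne_one.1 hE1
        obtain ⟨e, rfl⟩ := QuotientGroup.mk_surjective e
        have heN : e ∉ N := fun h2 => he1 (Subtype.ext ((QuotientGroup.eq_one_iff e).2 h2))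
        obtain ⟨A, hA, heA⟩ := h.cov.2 e
        have hAD := h1 e he heN A (h.nil A hA) heA
        have h2 : ∀ x ∈ E.comap π, x ∉ N → x ∈ A := by
          intro x hx hxN
          obtain ⟨B, hBA, hxB⟩ := h.cov.2 x
          rw [h.eq_of_le hA hBA hKD hAD (h1 x hx hxN B (h.nil B hBA) hxB)]
          exact hxB
        have h3 : E.comap π ≤ A := by
          intro x hx
          by_cases hxN : x ∈ N
          · have h4 : x * e ∈ A := h2 _ (mul_mem hx he) (fun h5 => heN ((N.mul_mem_cancel_left hxN).1 h5))
            have h5 := A.mul_mem h4 (A.inv_mem heA)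
            rwa [mul_inv_cancel_right] at h5
          · exact h2 x hx hxN
        have h4 := hF (E.comap π) inferInstance (H480.nilpotent_of_le h3 (h.nil A hA))
        have h5 : e ∈ E.comap π := he
        rw [h4, mem_bot] at h5
        exact heN (by rw [h5]; exact N.one_mem)
  exact key N₀ le_rfl hN₀

end NMC

/-- **The reduction**: if no almost simple group with cyclic outer part has a nilpotent minimal cover, every finite
group with a nilpotent minimal cover is solvable. -/
theorem solvable_of_nmc
    (hAS : ∀ (G : Type u) [Group G] [Finite G] (S : Subgroup G) (_ : S.Normal), IsSimpleGroup ↥S →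
      ¬ IsMulCommutative ↥S → centralizer (S : Set G) = ⊥ → IsCyclic (G ⧸ S) →
      ∀ 𝓐 : Finset (Subgroup G), ¬ NMC 𝓐) :
    ∀ (n : ℕ) (G : Type u) [Group G] [Finite G], Nat.card G = n → ∀ 𝓐 : Finset (Subgroup G), NMC 𝓐 →
      Group.IsSolvable G := by
  intro n
  induction n using Nat.strong_induction_on with
  | _ n ih =>
  intro G _ _ hn 𝓐 h
  by_contra hns
  -- proper quotients are solvable
  have hquot : ∀ N : Subgroup G, ∀ _ : N.Normal, N ≠ ⊥ → Group.IsSolvable (G ⧸ N) := by
    intro N hN hN1
    by_cases hnil : Group.IsNilpotent (G ⧸ N)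
    · exact inferInstance
    · obtain ⟨𝓑, hB⟩ := h.quotient N hnil
      refine ih (Nat.card (G ⧸ N)) ?_ (G ⧸ N) rfl 𝓑 hB
      have h1 := Subgroup.card_mul_index N
      rw [← hn, ← h1, ← Subgroup.index]
      have h2 : 1 < Nat.card ↥N := by
        rw [Finite.one_lt_card_iff_nontrivial, Subgroup.nontrivial_iff_ne_bot]
        exact hN1
      exact lt_mul_of_one_lt_left (Nat.pos_of_ne_zero N.index_ne_zero_of_finite) h2
  have hF : ∀ N : Subgroup G, N.Normal → Group.IsNilpotent ↥N → N = ⊥ := by
    intro N hN hNn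
    by_contra hne
    have h1 := hquot N hN hne
    have h2 : Group.IsSolvable ↥N := inferInstance
    exact hns (Group.isSolvable_of_ker_le_range N.subtype (QuotientGroup.mk' N) (by
      rw [QuotientGroup.ker_mk', N.range_subtype]))
  -- a minimal normal subgroup
  have hnt : (⊤ : Subgroup G) ≠ ⊥ := by
    intro htb
    apply hns
    exact Group.isSolvable_of_top_eq_bot _ htb
  obtain ⟨R, ⟨hRn, hR1⟩, hRmin⟩ : ∃ R : Subgroup G, (R.Normal ∧ R ≠ ⊥) ∧
      ∀ M : Subgroup G, M.Normal → M ≠ ⊥ → M ≤ R → M = R := by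
    obtain ⟨R, hR⟩ := (Set.toFinite {M : Subgroup G | M.Normal ∧ M ≠ ⊥}).exists_minimal
      ⟨⊤, inferInstance, hnt⟩
    exact ⟨R, hR.1, fun M hM hM1 hMR => le_antisymm hMR (hR.2 ⟨hM, hM1⟩ hMR)⟩
  have hcyc : IsCyclic (G ⧸ R) := h.isCyclic_quotient hF R (hquot R hRn hR1)
  have hcR : commutator G ≤ R := by
    have hc' : IsMulCommutative (G ⧸ R) := IsCyclic.isMulCommutative
    rw [_root_.commutator_def, commutator_le]
    intro a _ b _
    rw [← QuotientGroup.eq_one_iff]
    rw [show ((⁅a, b⁆ : G) : G ⧸ R) = ⁅(a : G ⧸ R), (b : G ⧸ R)⁆ from rfl,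
      commutatorElement_eq_one_iff_mul_comm]
    exact hc'.is_comm.comm _ _
  -- a minimal normal subgroup of `R`
  have hntR : (⊤ : Subgroup ↥R) ≠ ⊥ := by
    intro htb
    apply hR1
    rw [eq_bot_iff]
    intro x hx
    have h1 : (⟨x, hx⟩ : ↥R) ∈ (⊤ : Subgroup ↥R) := mem_top _
    rw [htb, mem_bot] at h1
    rw [mem_bot]
    exact congrArg Subtype.val h1
  obtain ⟨S, ⟨hSn, hS1⟩, hSmin⟩ : ∃ S : Subgroup ↥R, (S.Normal ∧ S ≠ ⊥) ∧
      ∀ M : Subgroup ↥R, M.Normal → M ≠ ⊥ → M ≤ S → M = S := by
    obtain ⟨R', hR'⟩ := (Set.toFinite {M : Subgroup ↥R | M.Normal ∧ M ≠ ⊥}).exists_minimal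
      ⟨⊤, inferInstance, hntR⟩
    exact ⟨R', hR'.1, fun M hM hM1 hMR => le_antisymm hMR (hR'.2 ⟨hM, hM1⟩ hMR)⟩
  set T : Subgroup G := S.map R.subtype with hT
  have hTR : T ≤ R := by
    rintro _ ⟨x, -, rfl⟩
    exact x.2
  have hmemT : ∀ x : ↥R, (x : G) ∈ T ↔ x ∈ S := by
    intro x
    constructor
    · rintro ⟨y, hy, hxy⟩
      rw [← Subtype.ext hxy]
      exact hy
    · intro hx
      exact ⟨x, hx, rfl⟩
  have hRT : R ≤ normalizer (T : Set G) := by
    intro g hg
    rw [mem_normalizer_iff]
    intro x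
    constructor
    · intro hx
      have h1 := hSn.conj_mem ⟨x, hTR hx⟩ ((hmemT ⟨x, hTR hx⟩).1 hx) ⟨g, hg⟩
      exact (hmemT (⟨g, hg⟩ * ⟨x, hTR hx⟩ * ⟨g, hg⟩⁻¹)).2 h1
    · intro hx
      have h0 : g * x * g⁻¹ ∈ R := hTR hx
      have h1 := hSn.conj_mem ⟨_, h0⟩ ((hmemT ⟨_, h0⟩).1 hx) ⟨g⁻¹, R.inv_mem hg⟩
      have h2 := (hmemT _).2 h1
      have h3 : g⁻¹ * (g * x * g⁻¹) * g⁻¹⁻¹ = x := by group
      rw [← h3]
      exact h2
  have hT1 : T ≠ ⊥ := by
    intro hb
    apply hS1
    rw [eq_bot_iff]
    intro x hx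
    have h1 : (x : G) ∈ T := (hmemT x).2 hx
    rw [hb, mem_bot] at h1
    rw [mem_bot]
    exact Subtype.ext h1
  -- `T` is normal in `G`
  have hTtop : normalizer (T : Set G) = ⊤ := by
    by_contra hne
    obtain ⟨K, hK, hMK⟩ := (eq_top_or_exists_le_coatom (normalizer (T : Set G))).resolve_left hne
    have hKn : K.Normal := by
      refine _root_.Subgroup.Normal.of_commutator_le _ ?_
      exact hcR.trans (hRT.trans hMK)
    have hr := index_prime_of_coatom hK
    obtain ⟨r, hri⟩ : ∃ r, r = K.index := ⟨_, rfl⟩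
    rw [← hri] at hr
    have hfr : Fact r.Prime := ⟨hr⟩
    -- `T` is not an `r`-group
    have hTr : ¬ IsPGroup r ↥T := by
      intro hTr
      have h1 : IsPGroup r ↥(normalClosure (T : Set G)) := by
        obtain ⟨P, hP⟩ := (IsPGroup.of_bot (p := r) (G := ↥R)).exists_le_sylow
        have h2 : normalClosure (T : Set G) ≤ (P : Subgroup ↥R).map R.subtype := by
          rw [normalClosure, closure_le]
          intro x hx
          rw [Group.mem_conjugatesOfSet_iff] at hx
          obtain ⟨t, ht, hc⟩ := hx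
          obtain ⟨g, hg⟩ := isConj_iff.1 hc
          -- the conjugate of `S`
          let Sg : Subgroup ↥R := (T.map (MulAut.conj g).toMonoidHom).subgroupOf R
          have hSgn : Sg.Normal := ⟨by
            intro y hy c
            rw [mem_subgroupOf, mem_conj] at hy ⊢
            have h3 : g⁻¹ * c * g ∈ R := by
              have := hRn.conj_mem c c.2 g⁻¹
              rwa [inv_inv] at this
            have h4 := (mem_normalizer_iff.1 (hRT h3) (g⁻¹ * y * g)).1 hy
            have h5 : g⁻¹ * c * g * (g⁻¹ * y * g) * (g⁻¹ * c * g)⁻¹ = g⁻¹ * ((c * y * c⁻¹ : ↥R) : G) * g := by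
              push_cast
              group
            rw [← h5]
            exact h4⟩
          have hSgp : IsPGroup r ↥Sg := by
            have h3 : IsPGroup r ↥(T.map (MulAut.conj g).toMonoidHom) := hTr.map _
            exact h3.comap_of_injective R.subtype R.subtype_injective
          have h3 : Sg ≤ (P : Subgroup ↥R) := by
            obtain ⟨P', hP'⟩ := hSgp.exists_le_sylow
            obtain ⟨c, rfl⟩ := MulAction.exists_smul_eq ↥R P' P
            intro y hy
            have h4 : c⁻¹ * y * c⁻¹⁻¹ ∈ Sg := hSgn.conj_mem y hy c⁻¹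
            have h5 := hP' h4
            rw [Sylow.smul_def, Sylow.pointwise_smul_def] 
            rw [Subgroup.mem_pointwise_smul_iff_inv_smul_mem]
            simpa using h5
          have hxR : x ∈ R := by
            rw [← hg]
            exact hRn.conj_mem t (hTR ht) g
          refine ⟨⟨x, hxR⟩, h3 ?_, rfl⟩
          rw [mem_subgroupOf, mem_conj]
          change g⁻¹ * x * g ∈ T
          rw [← hg]
          simpa [mul_assoc] using ht
        exact (P.isPGroup'.map R.subtype).to_le h2
      have h2 : normalClosure (T : Set G) = ⊥ := hF _ inferInstance h1.isNilpotent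
      apply hT1
      rw [eq_bot_iff, ← h2]
      exact le_normalClosure
    -- an element of prime order different from `r`
    obtain ⟨y, hyT, hy1, hyr⟩ : ∃ y ∈ T, y ≠ 1 ∧ (orderOf y).Coprime r := by
      by_contra hno
      apply hTr
      intro y
      obtain ⟨k, m, hm, hkm⟩ := Nat.exists_eq_pow_mul_and_not_dvd (orderOf_pos (y : G)).ne' r hr.ne_one
      refine ⟨k, Subtype.ext ?_⟩
      by_contra h1
      refine hno ⟨(y : G) ^ r ^ k, T.pow_mem y.2 _, by simpa using h1, ?_⟩
      have h2 : ((y : G) ^ r ^ k) ^ m = 1 := by rw [← pow_mul, ← hkm, pow_orderOf_eq_one]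
      exact Nat.Coprime.coprime_dvd_left (orderOf_dvd_of_pow_eq_one h2)
        (((Nat.Prime.coprime_iff_not_dvd hr).2 hm).symm)
    obtain ⟨g, hgK, -, hgy⟩ := h.exists_outside hF K hr hri.symm hy1 hyr
    apply hgK
    apply hMK
    -- `T ∩ T^g` is nontrivial
    let M : Subgroup ↥R := S ⊓ (T.map (MulAut.conj g).toMonoidHom).subgroupOf R
    have hMn : M.Normal := ⟨by
      intro x hx c
      rw [mem_inf] at hx ⊢
      refine ⟨hSn.conj_mem x hx.1 c, ?_⟩
      have hx2 := hx.2
      rw [mem_subgroupOf, mem_conj] at hx2 ⊢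
      have h3 : g⁻¹ * c * g ∈ R := by
        have := hRn.conj_mem c c.2 g⁻¹
        rwa [inv_inv] at this
      have h4 := (mem_normalizer_iff.1 (hRT h3) (g⁻¹ * x * g)).1 hx2
      have h5 : g⁻¹ * c * g * (g⁻¹ * x * g) * (g⁻¹ * c * g)⁻¹ = g⁻¹ * ((c * x * c⁻¹ : ↥R) : G) * g := by
        push_cast
        group
      rw [← h5]
      exact h4⟩
    have hM1 : M ≠ ⊥ := by
      intro hb
      have h1 : (⟨y, hTR hyT⟩ : ↥R) ∈ M := by
        rw [mem_inf]
        refine ⟨(hmemT ⟨y, hTR hyT⟩).1 hyT, ?_⟩
        rw [mem_subgroupOf, mem_conj]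
        have h2 : g⁻¹ * y * g = y := by
          rw [mul_assoc, ← hgy, inv_mul_cancel_left]
        change g⁻¹ * y * g ∈ T
        rw [h2]
        exact hyT
      rw [hb, mem_bot] at h1
      exact hy1 (congrArg Subtype.val h1)
    have hMS := hSmin M hMn hM1 inf_le_left
    have hle : T ≤ T.map (MulAut.conj g).toMonoidHom := by
      intro x hx
      have h1 : (⟨x, hTR hx⟩ : ↥R) ∈ M := by
        rw [hMS]
        exact (hmemT ⟨x, hTR hx⟩).1 hx
      exact (mem_inf.1 h1).2
    have heq : T = T.map (MulAut.conj g).toMonoidHom := by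
      refine Subgroup.eq_of_le_of_card_ge hle ?_
      exact (Nat.card_congr (MulEquiv.subgroupMap (MulAut.conj g) T).toEquiv).ge
    rw [mem_normalizer_iff]
    intro x
    constructor
    · intro hx
      rw [heq, mem_conj]
      simpa [mul_assoc] using hx
    · intro hx
      rw [heq, mem_conj] at hx
      simpa [mul_assoc] using hx
  have hTn : T.Normal := normalizer_eq_top_iff.1 hTtop
  have hTeq : T = R := hRmin T hTn hT1 hTR
  have hStop : S = ⊤ := by
    rw [eq_top_iff]
    intro x _
    apply (hmemT x).1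
    rw [hTeq]
    exact x.2
  have hRs : IsSimpleGroup ↥R := by
    have hnt' : Nontrivial ↥R := (Subgroup.nontrivial_iff_ne_bot R).2 hR1
    refine ⟨fun M hM => ?_⟩
    by_cases hM1 : M = ⊥
    · exact Or.inl hM1
    · exact Or.inr ((hSmin M hM hM1 (by rw [hStop]; exact le_top)).trans hStop)
  have hRna : ¬ IsMulCommutative ↥R := by
    intro hc
    apply hR1
    refine hF R hRn ?_
    let cg : CommGroup ↥R := { (inferInstance : Group ↥R) with mul_comm := hc.is_comm.comm }
    exact (CommGroup.isNilpotent : Group.IsNilpotent ↥R)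
  have hRc : centralizer (R : Set G) = ⊥ := by
    have h1 : (centralizer (R : Set G)) ⊓ R = ⊥ := by
      by_contra hne
      have h2 := hRmin _ (inferInstance : ((centralizer (R : Set G)) ⊓ R).Normal) hne inf_le_right
      apply hRna
      refine ⟨⟨fun a b => ?_⟩⟩
      have h3 : (a : G) ∈ (centralizer (R : Set G)) ⊓ R := by rw [h2]; exact a.2
      have h4 := (mem_inf.1 h3).1
      rw [mem_centralizer_iff] at h4
      exact Subtype.ext (h4 b b.2).symm
    refine hF _ inferInstance ?_
    have h2 : ∀ a ∈ centralizer (R : Set G), ∀ b ∈ centralizer (R : Set G), a * b = b * a := by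
      intro a ha b hb
      have h3 : ⁅a, b⁆ ∈ (centralizer (R : Set G)) ⊓ R := by
        refine mem_inf.2 ⟨?_, hcR (commutator_mem_commutator (mem_top a) (mem_top b))⟩
        rw [commutatorElement_def]
        exact mul_mem (mul_mem (mul_mem ha hb) (inv_mem ha)) (inv_mem hb)
      rw [h1, mem_bot, commutatorElement_eq_one_iff_mul_comm] at h3
      exact h3
    let cg : CommGroup ↥(centralizer (R : Set G)) :=
      { (inferInstance : Group ↥(centralizer (R : Set G))) with
        mul_comm := fun a b => Subtype.ext (h2 a a.2 b b.2) }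
    exact (CommGroup.isNilpotent : Group.IsNilpotent ↥(centralizer (R : Set G)))
  exact hAS G R hRn hRs hRna hRc hcyc 𝓐 h

end Cfsg.Agent.H480
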