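import Cfsg.Agent.H480.Row

/-!
# The action of `G` on a normal subgroup isomorphic to `S` (helper480, S3925, S3926)
-/

set_option autoImplicit false

namespace Cfsg.Agent.H480

open Subgroup

universe u v

section

variable {S : Type v} [Group S] {G : Type u} [Group G] {K : Subgroup G} [K.Normal] (f : S ≃* ↥K)

/-- the conjugation action, transported to `S` -/
def act : G →* MulAut S := (MulAut.congr f.symm).toMonoidHom.comp MulAut.conjNormal

theorem act_coe (s : S) : act f (f s : G) = MulAut.conj s := by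
  ext t
  change f.symm (MulAut.conjNormal (f s : G) (f t)) = _
  rw [MulEquiv.symm_apply_eq]
  apply Subtype.ext
  rw [MulAut.conjNormal_apply, MulAut.conj_apply]
  simp

theorem coe_act (g : G) (s : S) : (f (act f g s) : G) = g * f s * g⁻¹ := by
  change (f (f.symm (MulAut.conjNormal g (f s))) : G) = _
  rw [MulEquiv.apply_symm_apply, MulAut.conjNormal_apply]

theorem act_injective (hc : centralizer (K : Set G) = ⊥) : Function.Injective (act f) := by
  rw [injective_iff_map_eq_one]
  intro g hg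
  have h1 : g ∈ centralizer (K : Set G) := by
    rw [mem_centralizer_iff]
    intro k hk
    obtain ⟨s, hs⟩ := f.surjective ⟨k, hk⟩
    have h2 := coe_act f g s
    rw [hg, MulAut.one_apply, hs] at h2
    exact (eq_mul_inv_iff_mul_eq.1 h2)
  rwa [hc, mem_bot] at h1

theorem act_mem (hc : centralizer (K : Set G) = ⊥) {g : G} {s : S} (h : act f g = MulAut.conj s) : g ∈ K := by
  have h1 : g = (f s : G) := act_injective f hc (by rw [h, act_coe])
  rw [h1]
  exact (f s).2

theorem act_mem_iff (hc : centralizer (K : Set G) = ⊥) {g : G} : g ∈ K ↔ ∃ s, act f g = MulAut.conj s := by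
  constructor
  · intro hg
    obtain ⟨s, hs⟩ := f.surjective ⟨g, hg⟩
    refine ⟨s, ?_⟩
    rw [← act_coe f, hs]
  · rintro ⟨s, h⟩
    exact act_mem f hc h

theorem act_comm {g : G} {s : S} (h : g * (f s : G) = (f s : G) * g) : act f g s = s := by
  apply f.injective
  apply Subtype.ext
  rw [coe_act, h, mul_inv_cancel_right]

end

/-- a normal subgroup of prime index in a group with a cyclic quotient -/
theorem exists_index_of_cyclic {G : Type u} [Group G] [Finite G] (K : Subgroup G) [hK : K.Normal] (hc : IsCyclic (G ⧸ K))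
    {r : ℕ} (hr : r.Prime) (hrd : r ∣ K.index) : ∃ N : Subgroup G, N.Normal ∧ K ≤ N ∧ N.index = r := by
  have hcc : ∀ a b : G ⧸ K, a * b = b * a := by
    have := IsCyclic.isMulCommutative (α := G ⧸ K)
    exact this.is_comm.comm
  let cg : CommGroup (G ⧸ K) := { (inferInstance : Group (G ⧸ K)) with mul_comm := hcc }
  have h1 := IsCyclic.index_powMonoidHom_range (G := G ⧸ K) r
  refine ⟨(powMonoidHom (α := G ⧸ K) r).range.comap (QuotientGroup.mk' K), inferInstance, ?_, ?_⟩
  · intro k hk
    rw [mem_comap, QuotientGroup.mk'_apply, (QuotientGroup.eq_one_iff k).2 hk]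
    exact one_mem _
  · rw [index_comap_of_surjective _ (QuotientGroup.mk'_surjective K), h1]
    exact Nat.gcd_eq_right hrd

theorem NMC.congr {G : Type*} {H : Type*} [Group G] [Group H] [Finite G] {𝓐 : Finset (Subgroup G)} (h : NMC 𝓐)
    (e : G ≃* H) : ∃ 𝓑 : Finset (Subgroup H), NMC 𝓑 := by
  classical
  have hm : ∀ A : Subgroup G, A.map e.toMonoidHom = ⊤ → A = ⊤ := by
    intro A hA
    rw [eq_top_iff]
    intro x _
    have h1 : e x ∈ A.map e.toMonoidHom := by rw [hA]; exact mem_top _
    obtain ⟨y, hy, hxy⟩ := h1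
    rw [← e.injective hxy]
    exact hy
  refine ⟨𝓐.image (fun A => A.map e.toMonoidHom), ⟨⟨?_, ?_⟩, ?_, ?_⟩⟩
  · intro B hB
    obtain ⟨A, hA, rfl⟩ := Finset.mem_image.1 hB
    exact fun h1 => h.cov.1 A hA (hm A h1)
  · intro g
    obtain ⟨A, hA, hg⟩ := h.cov.2 (e.symm g)
    exact ⟨_, Finset.mem_image_of_mem _ hA, ⟨_, hg, e.apply_symm_apply g⟩⟩
  · intro 𝓑 hB
    have h1 := h.min (𝓑.image (fun B => B.comap e.toMonoidHom)) ⟨by
      intro A hA
      obtain ⟨B, hBB, rfl⟩ := Finset.mem_image.1 hA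
      intro h1
      apply hB.1 B hBB
      rw [eq_top_iff]
      intro x _
      have h2 : e.symm x ∈ B.comap e.toMonoidHom := by rw [h1]; exact mem_top _
      have h3 : e (e.symm x) ∈ B := h2
      rwa [e.apply_symm_apply] at h3, by
      intro g
      obtain ⟨B, hBB, hg⟩ := hB.2 (e g)
      exact ⟨_, Finset.mem_image_of_mem _ hBB, hg⟩⟩
    have h2 : (𝓐.image (fun A => A.map e.toMonoidHom)).card ≤ 𝓐.card := Finset.card_image_le
    have h3 : (𝓑.image (fun B => B.comap e.toMonoidHom)).card ≤ 𝓑.card := Finset.card_image_le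
    omega
  · intro B hB
    obtain ⟨A, hA, rfl⟩ := Finset.mem_image.1 hB
    exact Group.nilpotent_of_surjective (h := h.nil A hA) (e.toMonoidHom.subgroupMap A)
      (e.toMonoidHom.subgroupMap_surjective A)

/-- in an almost simple group there is no nilpotent normal subgroup -/
theorem no_nilpotent_normal {G : Type u} [Group G] [Finite G] (K : Subgroup G) [hK : K.Normal] (hs : IsSimpleGroup ↥K)
    (hna : ¬ IsMulCommutative ↥K) (hc : centralizer (K : Set G) = ⊥) (N : Subgroup G) (hN : N.Normal)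
    (hNn : Group.IsNilpotent ↥N) : N = ⊥ := by
  have h1 : (N.subgroupOf K) = ⊥ ∨ (N.subgroupOf K) = ⊤ := by
    have : (N.subgroupOf K).Normal := inferInstance
    exact this.eq_bot_or_eq_top
  rcases h1 with h1 | h1
  · rw [eq_bot_iff, ← hc]
    intro n hn
    rw [mem_centralizer_iff]
    intro k hk
    have h2 : k * n * k⁻¹ * n⁻¹ ∈ N ⊓ K := by
      refine ⟨N.mul_mem (hN.conj_mem n hn k) (N.inv_mem hn), ?_⟩
      have h3 := K.mul_mem hk (hK.conj_mem k⁻¹ (K.inv_mem hk) n)
      have h4 : k * n * k⁻¹ * n⁻¹ = k * (n * k⁻¹ * n⁻¹) := by group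
      rw [h4]
      exact h3
    have h3 : (⟨k * n * k⁻¹ * n⁻¹, h2.2⟩ : ↥K) ∈ N.subgroupOf K := h2.1
    rw [h1, mem_bot] at h3
    have h4 : k * n * k⁻¹ * n⁻¹ = 1 := congrArg Subtype.val h3
    exact mul_inv_eq_iff_eq_mul.1 (mul_inv_eq_one.1 h4)
  · exfalso
    have h2 : K ≤ N := by rwa [subgroupOf_eq_top] at h1
    have h3 := nilpotent_of_le h2 hNn
    have h4 : center ↥K = ⊥ ∨ center ↥K = ⊤ := (inferInstance : (center ↥K).Normal).eq_bot_or_eq_top
    rcases h4 with h4 | h4
    · exact Group.IsNilpotent.center_ne_bot ↥K h4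
    · exact hna ⟨⟨fun a b => ((mem_center_iff (G := ↥K)).1 (by rw [h4]; exact mem_top b) a)⟩⟩

end Cfsg.Agent.H480
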