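import Cfsg.Agent.Mrg.Omega.ML.LieRow.Bld
import Cfsg.Agent.H480.Cov

/-!
# Nilpotent minimal covers: groups of Lie type of rank at least two (helper480, S3925, S3926)

`K` is a simple normal subgroup of `H`, seen through its building (`Sys`, `HAct`, any characteristic); `x` is a regular
unipotent element. If some nonempty proper set of nodes is invariant under `H`, then `H` has no nilpotent minimal
cover.
-/

set_option autoImplicit false
set_option linter.unusedSectionVars false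

namespace Cfsg.Agent.H480.Fr

open Cfsg.Agent.Tits.Core Cfsg.Agent.Tits.Core.Bldg Cfsg.Agent.Tits.Exchange Cfsg.Agent.Tits
open Cfsg.Agent.FixBN Cfsg.Agent.FixBN.Cox Cfsg.Agent.UGT.U2.FOne Cfsg.Agent.ZN
open Cfsg.Agent.Omega.ML.LieRow Subgroup

variable {I : Type*} {M : CoxeterMatrix I} {W : Type*} [Group W] {cs : CoxeterSystem M W} {C : Type*}
  {Δ : Bldg cs C}

local prefix:100 "ℓ" => cs.length

section

variable {G : Type*} [Group G] [MulAction G C] {p : ℕ}

/-- An element which fixes `c` and no chamber adjacent to `c` fixes no other chamber. -/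
theorem fix_unique (S : Sys Δ G p) {c : C} {x : G} (hx : x • c = c)
    (hreg : ∀ i y, Δ.δ c y = cs.simple i → x • y ≠ y) {y : C} (hy : x • y = y) : y = c := by
  by_contra hne
  have h1 : Δ.δ c y ≠ 1 := fun h => hne ((Δ.eq_one c y).1 h).symm
  obtain ⟨i, hi⟩ := cs.exists_leftDescent_of_ne_one h1
  have hi' : ℓ (cs.simple i * Δ.δ c y) < ℓ (Δ.δ c y) := hi
  obtain ⟨z, hcz, hzy⟩ := exists_first Δ hi'
  apply hreg i z hcz
  have h2 : Δ.δ c (x • z) = cs.simple i := by
    conv_lhs => rw [← hx]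
    rw [S.iso, hcz]
  have h3 : Δ.δ (x • z) y = cs.simple i * Δ.δ c y := by
    conv_lhs => rw [← hy]
    rw [S.iso, hzy]
  by_contra hzz
  have h4 : Δ.δ z (x • z) = cs.simple i := Δ.δ_eq_of_mem_Pan (Or.inr hcz) (Or.inr h2) (fun h => hzz h.symm)
  have h5 : Δ.δ y (x • z) = Δ.δ y z * cs.simple i := by
    apply Δ.step_lt y z (x • z) i h4
    rw [Δ.symm z y, hzy, mul_inv_rev, cs.inv_simple, mul_assoc, cs.simple_mul_simple_self, mul_one, cs.length_inv]
    have h6 := cs.length_inv (cs.simple i * Δ.δ c y)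
    rw [mul_inv_rev, cs.inv_simple] at h6
    rw [h6]
    exact hi'
  rw [Δ.symm z y, hzy, Δ.symm (x • z) y, h3] at h5
  have h7 : (1 : W) = cs.simple i := by
    apply mul_left_cancel (a := (cs.simple i * Δ.δ c y)⁻¹)
    rw [mul_one]
    exact h5
  have h8 := cs.length_simple i
  rw [← h7, cs.length_one] at h8
  omega

end

variable {H : Type*} [Group H] {K : Subgroup H} [MulAction K C] (A : HAct Δ K) {p : ℕ} (S : Sys Δ K p)

include A S

/-- All nilpotent subgroups of `H` which contain the regular unipotent element `x` fix `c`. -/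
theorem fix_of_nilpotent [K.Normal] [Finite H] [hp : Fact p.Prime] {c : C} {x : K} (hx : x ∈ S.U c)
    (hreg : ∀ i y, Δ.δ c y = cs.simple i → x • y ≠ y) {D : Subgroup H} (hD : Group.IsNilpotent ↥D)
    (hxD : (x : H) ∈ D) {a : H} (ha : a ∈ D) : A.θ a c = c := by
  have hxc : x • c = c := S.fix c x hx
  obtain ⟨P⟩ : Nonempty (Sylow p ↥D) := inferInstance
  have hPn : (P : Subgroup ↥D).Normal := by
    have := (Group.isNilpotent_of_finite_tfae (G := ↥D)).out 0 3
    exact this.1 hD p hp P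
  have hel : ∀ b : ↥D, (∃ i : ℕ, b ^ p ^ i = 1) → b ∈ (P : Subgroup ↥D) := by
    rintro b ⟨i, hi⟩
    have h2 : IsPGroup p ↥(zpowers b) := by
      rw [IsPGroup]
      rintro ⟨c, hc⟩
      obtain ⟨n, rfl⟩ := mem_zpowers_iff.1 hc
      exact ⟨i, Subtype.ext (by
        have h3 : (b ^ n) ^ p ^ i = (b ^ p ^ i) ^ n := by
          rw [← zpow_natCast, ← zpow_natCast, ← zpow_mul, ← zpow_mul, mul_comm]
        simpa [hi] using h3)⟩
    obtain ⟨Q, hQ⟩ := h2.exists_le_sylow
    have hQP : Q = P := by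
      have hss := Sylow.unique_of_normal P hPn
      exact (hss.uniq Q).trans (hss.uniq P).symm
    rw [← hQP]
    exact hQ (mem_zpowers b)
  -- the `p`-part of `D ∩ K`
  set Q : Subgroup K := ((P : Subgroup ↥D).map D.subtype).subgroupOf K with hQ
  have hQp : IsPGroup p Q := (P.isPGroup'.map D.subtype).comap_of_injective _ K.subtype_injective
  obtain ⟨d, hd⟩ := S.exists_fix Q hQp
  have hxQ : x ∈ Q := by
    rw [hQ, mem_subgroupOf]
    obtain ⟨i, hi⟩ := S.isP c ⟨x, hx⟩
    have hi' : (x : H) ^ p ^ i = 1 := by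
      have := congrArg (fun z : ↥(S.U c) => ((z : K) : H)) hi
      simpa using this
    exact ⟨⟨(x : H), hxD⟩, hel _ ⟨i, Subtype.ext (by simpa using hi')⟩, rfl⟩
  have hdc : d = c := fix_unique S hxc hreg (hd x hxQ)
  subst hdc
  -- `a` normalises `Q`
  have h1 : x • A.θ a d = A.θ a d := by
    have h2 : (MulAut.conjNormal a⁻¹ x : K) ∈ Q := by
      rw [hQ, mem_subgroupOf] at hxQ ⊢
      obtain ⟨y, hy, hyx⟩ := hxQ
      have h3 := hPn.conj_mem y hy ⟨a⁻¹, D.inv_mem ha⟩
      refine ⟨_, h3, ?_⟩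
      rw [MulAut.conjNormal_apply, ← hyx]
      simp
    have h3 := hd _ h2
    have h4 : A.θ a ((MulAut.conjNormal a⁻¹ x : K) • d) = x • A.θ a d := by
      rw [← A.θ_K, ← A.θ_K, ← A.θ_mul, ← A.θ_mul, MulAut.conjNormal_apply]
      congr 1
      group
    rw [← h4, h3]
  exact fix_unique S hxc hreg h1

/-- **Groups of Lie type with a nonempty proper invariant set of nodes have no nilpotent minimal cover.** -/
theorem not_nmc [K.Normal] [Finite H] [hp : Fact p.Prime] [F : OppRes.Cox cs] (hth : Δ.Thick) {c : C} {x : K}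
    (hx : x ∈ S.U c) (hreg : ∀ i y, Δ.δ c y = cs.simple i → x • y ≠ y) {J : Set I} (hJ : A.Inv J)
    (hJn : J.Nonempty) (hJu : J ≠ Set.univ) {𝓐 : Finset (Subgroup H)} (h : NMC 𝓐) : False := by
  have hne : Nonempty C := ⟨c⟩
  set R := HAct.Stb J hJ c with hR
  have hRtop : R ≠ ⊤ := by
    intro htop
    apply hJu
    rw [Set.eq_univ_iff_forall]
    intro i
    obtain ⟨y, -, -, hy, -⟩ := hth c i
    obtain ⟨g, hg⟩ := exists_smul_top S hth c y
    have h1 : (g : H) ∈ R := by rw [htop]; trivial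
    rw [hR, HAct.mem_Stb, A.θ_K, hg, hy] at h1
    exact mem_of_simple_mem h1
  have hle : ∀ D : Subgroup H, Group.IsNilpotent ↥D → (x : H) ∈ D → D ≤ R := by
    intro D hD hxD a ha
    rw [hR, HAct.mem_Stb, fix_of_nilpotent A S hx hreg hD hxD ha, OppRes.delta_self]
    exact one_mem _
  have hnil := h.nilpotent_of_le hRtop hle
  obtain ⟨i, hi⟩ := hJn
  obtain ⟨y, -, -, hy, -⟩ := hth c i
  obtain ⟨g, hg⟩ := exists_smul_top S hth c y
  have hgR : (g : H) ∈ R := by
    rw [hR, HAct.mem_Stb, A.θ_K, hg, hy]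
    exact Cfsg.Agent.Tits.Exchange.simple_mem_WJ cs hi
  have h1 : ∀ a ∈ closure (cjs R (x : H)), A.θ a c = c := fun a ha =>
    fix_of_nilpotent A S hx hreg hnil (subset_closure (mem_cjs_self R _)) ha
  have h2 := h1 ((g : H)⁻¹ * x * (g : H)) (subset_closure ⟨(g : H)⁻¹, R.inv_mem hgR, by group⟩)
  have h3 : (g : H)⁻¹ * x * (g : H) = ((g⁻¹ * x * g : K) : H) := by simp
  rw [h3, A.θ_K, mul_smul, mul_smul, hg] at h2
  have h4 : x • y = y := by
    rw [inv_smul_eq_iff] at h2
    rw [h2, hg]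
  exact hreg i y hy h4

end Cfsg.Agent.H480.Fr
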