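import Cfsg.Agent.H480.Cov
import Cfsg.Agent.Characters.CNBasic

/-!
# Criteria excluding nilpotent minimal covers (helper480, S3925, S3926)

`Kill S` : there are `z` of prime order `r` and an `r'`-element `d` commuting with `z`, such that all elements of
order `r` commuting with `z` and `d` are powers of `z`, and the `C(z)`-conjugates of `d` do not generate a nilpotent
group.  (For `r = 2`: `z` is the only involution of `C(z) ∩ C(d)`.)

* `NMC.not_kill` : no finite group `G` with `Z(G) = 1` and with a normal subgroup `S` with `Kill S` has a nilpotent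
  minimal cover;
* `Kill.congr` : invariance under isomorphisms;
* `Kill.of_inv` : the criterion for involutions, with simple conditions for the last part.
-/

set_option autoImplicit false

namespace Cfsg.Agent.H480

open Subgroup

/-- the kill condition -/
def Kill (S : Type*) [Group S] : Prop :=
  ∃ (r : ℕ) (z d : S), r.Prime ∧ orderOf z = r ∧ (orderOf d).Coprime r ∧ z * d = d * z ∧
    (∀ x : S, orderOf x = r → x * z = z * x → x * d = d * x → x ∈ zpowers z) ∧
    ¬ Group.IsNilpotent ↥(closure (cjs (centralizer ({z} : Set S)) d))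

variable {G : Type*} [Group G]

/-- **No nilpotent minimal cover** if `S` is normal in `G` with `Kill S`. -/
theorem NMC.not_kill [Finite G] {𝓐 : Finset (Subgroup G)} (h : NMC 𝓐) (hZ : center G = ⊥) (S : Subgroup G)
    [hS : S.Normal] (hk : Kill ↥S) : False := by
  obtain ⟨r, z, d, hr, hz, hd, hzd, hx, hnil⟩ := hk
  have hfr : Fact r.Prime := ⟨hr⟩
  have hz1 : (z : G) ≠ 1 := by
    intro h1
    have h2 : z = 1 := Subtype.ext h1
    rw [h2, orderOf_one] at hz
    exact hr.one_lt.ne hz
  have hzc : centralizer ({(z : G)} : Set G) ≠ ⊤ := by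
    intro htop
    have h1 : (z : G) ∈ center G := by
      rw [mem_center_iff]
      intro g
      have h2 : g ∈ centralizer ({(z : G)} : Set G) := by rw [htop]; exact mem_top g
      exact mem_centralizer_singleton_iff.1 h2
    rw [hZ, mem_bot] at h1
    exact hz1 h1
  have h1 := h.nilpotent_of_pair hr (z := (z : G)) (d := (d : G))
    ⟨1, by rw [pow_one, ← hz, ← orderOf_coe]; exact pow_orderOf_eq_one _⟩ hzc
    (by rw [orderOf_coe]; exact hd) (congrArg Subtype.val hzd) (by
      intro D hD hzD hDd x hxD
      -- `D ∩ S` meets the centre of `D`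
      obtain ⟨w, hw, hw1, hwc⟩ := Characters.CNBasic.exists_mem_center_of_normal D hD (D ⊓ S)
        (hD.to_le inf_le_left) (by
          intro hb
          have h2 : (z : G) ∈ D ⊓ S := ⟨hzD, z.2⟩
          rw [hb, mem_bot] at h2
          exact hz1 h2) (fun t ht d' hd' => ⟨D.mul_mem (D.mul_mem ht hd'.1) (D.inv_mem ht),
            hS.conj_mem d' hd'.2 t⟩)
      -- a power of order `r`
      obtain ⟨k, hk⟩ := hD ⟨w, hw.1⟩
      have hk' : w ^ r ^ k = 1 := by simpa using congrArg Subtype.val hk
      have hor : r ∣ orderOf w := by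
        obtain ⟨j, -, hj⟩ := (Nat.dvd_prime_pow hr).1 (orderOf_dvd_of_pow_eq_one hk')
        rcases Nat.eq_zero_or_pos j with h0 | h0
        · rw [h0, pow_zero, orderOf_eq_one_iff] at hj
          exact absurd hj hw1
        · rw [hj]
          exact dvd_pow_self r h0.ne'
      obtain ⟨m, hm⟩ := hor
      have hm0 : m ≠ 0 := by
        rintro rfl
        rw [mul_zero] at hm
        exact (orderOf_eq_zero_iff.1 hm) (isOfFinOrder_of_finite w)
      have hv : orderOf (w ^ m) = r := by
        rw [orderOf_pow, hm, Nat.gcd_eq_right (Dvd.intro_left r rfl),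
          Nat.mul_div_cancel _ (Nat.pos_of_ne_zero hm0)]
      have hvS : w ^ m ∈ S := S.pow_mem hw.2 m
      have hvc : ∀ t ∈ D, t * w ^ m = w ^ m * t := fun t ht => ((show Commute t w from hwc t ht).pow_right m).eq
      have h3 := hx ⟨w ^ m, hvS⟩ (by rw [← orderOf_coe]; exact hv)
        (Subtype.ext (hvc z hzD).symm) (Subtype.ext (by
          have h4 := hDd (w ^ m) (D.pow_mem hw.1 m)
          exact h4))
      -- `z` is a power of `w ^ m`
      obtain ⟨i, hi⟩ := mem_zpowers_iff.1 h3
      have h4 : z ∈ zpowers (⟨w ^ m, hvS⟩ : ↥S) := by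
        have h5 : zpowers (⟨w ^ m, hvS⟩ : ↥S) = zpowers z := by
          refine Subgroup.eq_of_le_of_card_ge (zpowers_le.2 h3) ?_
          rw [Nat.card_zpowers, Nat.card_zpowers, hz, ← orderOf_coe]
          exact hv.ge
        rw [h5]
        exact mem_zpowers z
      obtain ⟨j, hj⟩ := mem_zpowers_iff.1 h4
      have h5 : (z : G) = (w ^ m) ^ j := by
        rw [← hj]
        simp
      rw [h5]
      exact ((show Commute x (w ^ m) from hvc x hxD).zpow_right j).eq)
  -- transfer to `S`
  apply hnil
  have h2 : (closure (cjs (centralizer ({z} : Set ↥S)) d)).map S.subtype ≤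
      closure (cjs (centralizer ({(z : G)} : Set G)) (d : G)) := by
    rw [map_le_iff_le_comap, closure_le]
    rintro _ ⟨m, hm, rfl⟩
    refine subset_closure ⟨(m : G), ?_, rfl⟩
    rw [mem_centralizer_singleton_iff] at hm ⊢
    exact congrArg Subtype.val hm
  have h3 := H480.nilpotent_of_le h2 h1
  exact Group.nilpotent_of_mulEquiv (_h := h3)
    ((closure (cjs (centralizer ({z} : Set ↥S)) d)).equivMapOfInjective S.subtype S.subtype_injective).symm

/-- Invariance under isomorphisms. -/
theorem Kill.congr {S T : Type*} [Group S] [Group T] (e : S ≃* T) (h : Kill S) : Kill T := by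
  obtain ⟨r, z, d, hr, hz, hd, hzd, hx, hnil⟩ := h
  refine ⟨r, e z, e d, hr, by rw [MulEquiv.orderOf_eq]; exact hz, by rw [MulEquiv.orderOf_eq]; exact hd,
    by rw [← map_mul, hzd, map_mul], ?_, ?_⟩
  · intro x hxr hxz hxd
    have h1 := hx (e.symm x) (by rw [MulEquiv.orderOf_eq]; exact hxr)
      (e.injective (by simpa using hxz)) (e.injective (by simpa using hxd))
    obtain ⟨i, hi⟩ := mem_zpowers_iff.1 h1
    refine mem_zpowers_iff.2 ⟨i, ?_⟩
    rw [← map_zpow, hi, MulEquiv.apply_symm_apply]
  · intro hn
    apply hnil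
    have h2 : (closure (cjs (centralizer ({z} : Set S)) d)).map e.toMonoidHom ≤
        closure (cjs (centralizer ({e z} : Set T)) (e d)) := by
      rw [map_le_iff_le_comap, closure_le]
      rintro _ ⟨m, hm, rfl⟩
      refine subset_closure ⟨e m, ?_, by simp⟩
      rw [mem_centralizer_singleton_iff] at hm ⊢
      rw [← map_mul, hm, map_mul]
    have h3 := nilpotent_of_le h2 hn
    exact Group.nilpotent_of_mulEquiv (_h := h3)
      ((closure (cjs (centralizer ({z} : Set S)) d)).equivMapOfInjective e.toMonoidHom e.injective).symm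

/-- A nilpotent group containing the `C(z)`-conjugates of `d`: an element `q` of `C(z)` such that `[q, d]` has order
prime to that of `d` and does not commute with `d`. -/
theorem not_nilpotent_of_commutator {S : Type*} [Group S] {C : Subgroup S} {d q : S} (hq : q ∈ C)
    (hcop : (orderOf (q * d * q⁻¹ * d⁻¹)).Coprime (orderOf d))
    (hne : (q * d * q⁻¹ * d⁻¹) * d ≠ d * (q * d * q⁻¹ * d⁻¹)) : ¬ Group.IsNilpotent ↥(closure (cjs C d)) := by
  intro hn
  apply hne
  have hd : d ∈ closure (cjs C d) := subset_closure (mem_cjs_self C d)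
  have h1 : q * d * q⁻¹ ∈ closure (cjs C d) := subset_closure ⟨q, hq, rfl⟩
  have h2 : q * d * q⁻¹ * d⁻¹ ∈ closure (cjs C d) := mul_mem h1 (inv_mem hd)
  have h3 : Commute (⟨_, h2⟩ : ↥(closure (cjs C d))) ⟨d, hd⟩ :=
    Lib.NilpotentCoprime.commute_of_coprime_orderOf (by
      rw [← orderOf_coe, ← orderOf_coe]
      exact hcop)
  exact congrArg Subtype.val h3.eq

/-- If the conjugates of `d` generate a nilpotent group, elements of coprime order in it commute; a convenient form:
a subgroup `X` of the group generated by the conjugates which is not nilpotent. -/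
theorem not_nilpotent_of_le {S : Type*} [Group S] {C X : Subgroup S} {d : S} (hX : X ≤ closure (cjs C d))
    (hn : ¬ Group.IsNilpotent ↥X) : ¬ Group.IsNilpotent ↥(closure (cjs C d)) :=
  fun h => hn (nilpotent_of_le hX h)

/-- **The criterion for involutions.** -/
theorem Kill.of_inv {S : Type*} [Group S] {z d : S} (hz : orderOf z = 2) (hd : Odd (orderOf d))
    (hzd : z * d = d * z) (hx : ∀ x : S, x * x = 1 → x * z = z * x → x * d = d * x → x = 1 ∨ x = z)
    (hnil : ¬ Group.IsNilpotent ↥(closure (cjs (centralizer ({z} : Set S)) d))) : Kill S := by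
  refine ⟨2, z, d, Nat.prime_two, hz, hd.coprime_two_right, hzd, ?_, hnil⟩
  intro x hx2 hxz hxd
  have h1 : x * x = 1 := by
    rw [← pow_two, ← hx2, pow_orderOf_eq_one]
  rcases hx x h1 hxz hxd with h2 | h2
  · rw [h2, orderOf_one] at hx2
    exact absurd hx2 (by norm_num)
  · rw [h2]
    exact mem_zpowers z

end Cfsg.Agent.H480
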