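import Cfsg.Agent.H480.KillNil

/-!
# Nilpotent minimal covers: a criterion with a bound on the order of the centralizer (helper480, S3925, S3926)
-/

set_option autoImplicit false

namespace Cfsg.Agent.H480

open Subgroup

/-- `C(z) ∩ C(d)` not divisible by `r ^ 2` -/
theorem Kill.of_inf {S : Type*} [Group S] [Finite S] {r : ℕ} (hr : r.Prime) {z d q : S} (hz : orderOf z = r)
    (hdr : (orderOf d).Coprime r) (hzd : z * d = d * z)
    (h2 : ¬ r ^ 2 ∣ Nat.card ↥(centralizer ({z} : Set S) ⊓ centralizer ({d} : Set S)))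
    (hq : q * z = z * q) (hcop : (orderOf (q * d * q⁻¹ * d⁻¹)).Coprime (orderOf d))
    (hne : (q * d * q⁻¹ * d⁻¹) * d ≠ d * (q * d * q⁻¹ * d⁻¹)) : Kill S := by
  refine ⟨r, z, d, hr, hz, hdr, hzd, ?_, not_nilpotent_of_commutator (mem_centralizer_singleton_iff.2 hq) hcop hne⟩
  intro x hx hxz hxd
  have hzK : z ∈ centralizer ({z} : Set S) ⊓ centralizer ({d} : Set S) :=
    ⟨mem_centralizer_singleton_iff.2 rfl, mem_centralizer_singleton_iff.2 hzd⟩
  have hxK : x ∈ centralizer ({z} : Set S) ⊓ centralizer ({d} : Set S) :=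
    ⟨mem_centralizer_singleton_iff.2 hxz, mem_centralizer_singleton_iff.2 hxd⟩
  have h3 := mem_zpowers_of_sq (S := ↥(centralizer ({z} : Set S) ⊓ centralizer ({d} : Set S))) hr h2
    (z := ⟨z, hzK⟩) (x := ⟨x, hxK⟩) (by rw [← orderOf_coe]; exact hz) (by rw [← orderOf_coe]; exact hx)
    (Subtype.ext hxz)
  obtain ⟨i, hi⟩ := mem_zpowers_iff.1 h3
  exact mem_zpowers_iff.2 ⟨i, congrArg Subtype.val hi⟩

/-- a bound for the order of `C(z)` -/
theorem Kill.of_bound {S : Type*} [Group S] [Finite S] {r m : ℕ} (hr : r.Prime) {z d a q : S} (hz : orderOf z = r)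
    (hdm : orderOf d = m) (hdr : m.Coprime r) (hzd : z * d = d * z)
    (hcard : Nat.card ↥(centralizer ({z} : Set S)) < r * (r ^ 2 * m))
    (haz : a * z = z * a) (har : a ^ r = 1) (had : a * d ≠ d * a)
    (hq : q * z = z * q) (hcop : (orderOf (q * d * q⁻¹ * d⁻¹)).Coprime (orderOf d))
    (hne : (q * d * q⁻¹ * d⁻¹) * d ≠ d * (q * d * q⁻¹ * d⁻¹)) : Kill S := by
  refine Kill.of_inf hr hz (by rw [hdm]; exact hdr) hzd ?_ hq hcop hne
  intro hdvd
  have hfr : Fact r.Prime := ⟨hr⟩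
  set K := centralizer ({z} : Set S) ⊓ centralizer ({d} : Set S) with hK
  have hdK : d ∈ K := ⟨mem_centralizer_singleton_iff.2 hzd.symm, mem_centralizer_singleton_iff.2 rfl⟩
  have h1 : m ∣ Nat.card ↥K := by
    rw [← hdm]
    exact Subgroup.orderOf_dvd_natCard K hdK
  have h2 : r ^ 2 * m ∣ Nat.card ↥K := Nat.Coprime.mul_dvd_of_dvd_of_dvd (Nat.Coprime.pow_left 2 hdr.symm) hdvd h1
  have ha1 : a ≠ 1 := by
    rintro rfl
    exact had (by rw [one_mul, mul_one])
  have hao : orderOf a = r := orderOf_eq_prime har ha1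
  -- powers of `a` not commuting with `d`
  have hpow : ∀ i : ℤ, a ^ i ∈ K → a ^ i = 1 := by
    intro i hi
    by_contra hne1
    have h3 : orderOf (a ^ i) = r := orderOf_eq_prime (by
      rw [← zpow_natCast, ← zpow_mul, mul_comm, zpow_mul, zpow_natCast, har, one_zpow]) hne1
    have h4 : zpowers (a ^ i) = zpowers a := by
      apply eq_of_le_of_card_ge
      · rw [zpowers_le]
        exact zpow_mem (mem_zpowers a) i
      · rw [Nat.card_zpowers, Nat.card_zpowers, h3, hao]
    have h5 : a ∈ zpowers (a ^ i) := by rw [h4]; exact mem_zpowers a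
    have h7 : a ∈ K := (zpowers_le.2 hi) h5
    exact had (mem_centralizer_singleton_iff.1 h7.2)
  -- the products `a ^ i k`
  let f : Fin r × ↥K → ↥(centralizer ({z} : Set S)) := fun p => ⟨a ^ (p.1 : ℕ) * p.2,
    mul_mem (pow_mem (mem_centralizer_singleton_iff.2 haz) _) p.2.2.1⟩
  have hf : Function.Injective f := by
    rintro ⟨i, k⟩ ⟨j, l⟩ h
    have h3 : a ^ (i : ℕ) * (k : S) = a ^ (j : ℕ) * (l : S) := congrArg Subtype.val h
    have h4 : a ^ ((i : ℤ) - (j : ℤ)) = (l : S) * (k : S)⁻¹ := by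
      rw [sub_eq_neg_add, zpow_add, zpow_neg, zpow_natCast, zpow_natCast]
      calc (a ^ (j : ℕ))⁻¹ * a ^ (i : ℕ) = (a ^ (j : ℕ))⁻¹ * (a ^ (i : ℕ) * k) * (k : S)⁻¹ := by group
        _ = (l : S) * (k : S)⁻¹ := by rw [h3]; group
    have h5 : a ^ ((i : ℤ) - (j : ℤ)) = 1 := hpow _ (by rw [h4]; exact mul_mem l.2 (inv_mem k.2))
    have h6 := orderOf_dvd_iff_zpow_eq_one.2 h5
    rw [hao] at h6
    have h7 : i = j := by
      have hi := i.2
      have hj := j.2
      apply Fin.ext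
      obtain ⟨c, hc⟩ := h6
      have h8 : c = 0 := by
        by_contra hc0
        have h9 : (r : ℤ) ≤ |(i : ℤ) - (j : ℤ)| := by
          rw [hc, abs_mul, Nat.abs_cast]
          have : (1 : ℤ) ≤ |c| := Int.one_le_abs hc0
          nlinarith [hr.pos]
        rw [le_abs] at h9
        omega
      rw [h8, mul_zero] at hc
      omega
    subst h7
    rw [sub_self, zpow_zero] at h4
    have h8 : (l : S) = k := by
      rw [eq_comm, mul_inv_eq_one] at h4
      exact h4
    exact Prod.ext rfl (Subtype.ext h8.symm)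
  have h3 := Nat.card_le_card_of_injective f hf
  rw [Nat.card_prod, Nat.card_eq_fintype_card (α := Fin r), Fintype.card_fin] at h3
  have h4 : r ^ 2 * m ≤ Nat.card ↥K := Nat.le_of_dvd Nat.card_pos h2
  have h5 : r * (r ^ 2 * m) ≤ r * Nat.card ↥K := Nat.mul_le_mul_left r h4
  omega

end Cfsg.Agent.H480
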