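import Cfsg.Agent.H480.KillSq

/-!
# Nilpotent minimal covers: a prime dividing the order once, nonnilpotent centralizer (helper480, S3925, S3926)
-/

set_option autoImplicit false

namespace Cfsg.Agent.H480

open Subgroup

/-- a group in which all `r'`-elements have nilpotent normal closure and all `r`-elements are central is nilpotent -/
theorem nilpotent_of_closures {H : Type*} [Group H] [Finite H] {r : ℕ} (hr : r.Prime)
    (h1 : ∀ d : H, (orderOf d).Coprime r → Group.IsNilpotent ↥(normalClosure ({d} : Set H)))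
    (h2 : ∀ x : H, (∃ k, x ^ r ^ k = 1) → x ∈ center H) : Group.IsNilpotent H := by
  refine ((Group.isNilpotent_of_finite_tfae (G := H)).out 0 3).2 ?_
  intro p hp P
  constructor
  intro d hd g
  obtain ⟨k, hk⟩ := P.isPGroup' ⟨d, hd⟩
  have hk' : d ^ p ^ k = 1 := by simpa using congrArg Subtype.val hk
  by_cases hpr : p = r
  · subst hpr
    have h3 := h2 d ⟨k, hk'⟩
    have h4 : g * d * g⁻¹ = d := by
      rw [mem_center_iff.1 h3 g]
      group
    rw [h4]
    exact hd
  · have hcop : (orderOf d).Coprime r :=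
      Nat.Coprime.coprime_dvd_left (orderOf_dvd_of_pow_eq_one hk')
        (Nat.Coprime.pow_left k ((Nat.coprime_primes hp.out hr).2 hpr))
    set N := normalClosure ({d} : Set H) with hN
    have hNn : N.Normal := inferInstance
    have hnil := h1 d hcop
    obtain ⟨Q⟩ : Nonempty (Sylow p ↥N) := inferInstance
    have hQn : (Q : Subgroup ↥N).Normal := by
      have := (Group.isNilpotent_of_finite_tfae (G := ↥N)).out 0 3
      exact this.1 hnil p hp Q
    have hel : ∀ b : ↥N, (∃ i : ℕ, b ^ p ^ i = 1) → b ∈ (Q : Subgroup ↥N) := by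
      rintro b ⟨i, hi⟩
      have h2 : IsPGroup p ↥(zpowers b) := by
        rw [IsPGroup]
        rintro ⟨c, hc⟩
        obtain ⟨n, rfl⟩ := mem_zpowers_iff.1 hc
        exact ⟨i, Subtype.ext (by
          have h3 : (b ^ n) ^ p ^ i = (b ^ p ^ i) ^ n := by
            rw [← zpow_natCast, ← zpow_natCast, ← zpow_mul, ← zpow_mul, mul_comm]
          simpa [hi] using h3)⟩
      obtain ⟨Q', hQ'⟩ := h2.exists_le_sylow
      have hQQ : Q' = Q := by
        have hss := Sylow.unique_of_normal Q hQn
        exact (hss.uniq Q').trans (hss.uniq Q).symm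
      rw [← hQQ]
      exact hQ' (mem_zpowers b)
    -- the image of `Q` is a normal `p`-subgroup
    have hQc : (Q : Subgroup ↥N).Characteristic := Sylow.characteristic_of_normal Q hQn
    have hQm : ((Q : Subgroup ↥N).map N.subtype).Normal := ConjAct.normal_of_characteristic_of_normal
    have hQp : IsPGroup p ↥((Q : Subgroup ↥N).map N.subtype) := Q.isPGroup'.map _
    obtain ⟨P', hP'⟩ := hQp.exists_le_sylow
    obtain ⟨u, hu⟩ := MulAction.exists_smul_eq H P' P
    have hle : ∀ x ∈ (Q : Subgroup ↥N).map N.subtype, x ∈ (P : Subgroup H) := by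
      intro x hx
      have h3 := hQm.conj_mem x hx u⁻¹
      have h4 := hP' h3
      rw [← hu, Sylow.coe_subgroup_smul]
      refine ⟨_, h4, ?_⟩
      simp [mul_assoc]
    apply hle
    have hdN : d ∈ N := subset_normalClosure (Set.mem_singleton d)
    have hgd : g * d * g⁻¹ ∈ N := hNn.conj_mem d hdN g
    refine ⟨⟨_, hgd⟩, hel _ ⟨k, Subtype.ext ?_⟩, rfl⟩
    rw [SubmonoidClass.coe_pow, OneMemClass.coe_one]
    change (g * d * g⁻¹) ^ p ^ k = 1
    rw [conj_pow, hk', mul_one, mul_inv_cancel]

/-- **A prime dividing the order once**, with a nonnilpotent centralizer. -/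
theorem Kill.of_nonnil {S : Type*} [Group S] [Finite S] {r : ℕ} (hr : r.Prime) (h2 : ¬ r ^ 2 ∣ Nat.card S) {z : S}
    (hz : orderOf z = r) (hn : ¬ Group.IsNilpotent ↥(centralizer ({z} : Set S))) : Kill S := by
  by_contra hk
  apply hn
  have hfr : Fact r.Prime := ⟨hr⟩
  refine nilpotent_of_closures hr ?_ ?_
  · intro d hdr
    have hdc : (d : S) * z = z * d := mem_centralizer_singleton_iff.1 d.2
    have h1 : Group.IsNilpotent ↥(closure (cjs (centralizer ({z} : Set S)) (d : S))) := by
      by_contra h
      exact hk ⟨r, z, d, hr, hz, by rw [orderOf_coe]; exact hdr, hdc.symm,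
        fun x hx hxz _ => mem_zpowers_of_sq hr h2 hz hx hxz, h⟩
    have h3 : (normalClosure ({d} : Set ↥(centralizer ({z} : Set S)))).map (centralizer ({z} : Set S)).subtype ≤
        closure (cjs (centralizer ({z} : Set S)) (d : S)) := by
      rw [map_le_iff_le_comap, normalClosure, closure_le]
      intro x hx
      obtain ⟨y, hy, hxy⟩ := Group.mem_conjugatesOfSet_iff.1 hx
      rw [Set.mem_singleton_iff] at hy
      subst hy
      obtain ⟨c, rfl⟩ := isConj_iff.1 hxy
      exact subset_closure ⟨c, c.2, by simp⟩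
    have h4 := nilpotent_of_le h3 h1
    exact Group.nilpotent_of_mulEquiv (_h := h4) ((normalClosure ({d} : Set
      ↥(centralizer ({z} : Set S)))).equivMapOfInjective _ (centralizer ({z} : Set S)).subtype_injective).symm
  · rintro ⟨x, hx⟩ ⟨k, hk⟩
    have hxk : x ^ r ^ k = 1 := by simpa using congrArg Subtype.val hk
    have hxz : x * z = z * x := mem_centralizer_singleton_iff.1 hx
    -- the order of `x` is `1` or `r`
    obtain ⟨m, -, hm⟩ := (Nat.dvd_prime_pow hr).1 (orderOf_dvd_of_pow_eq_one hxk)
    have hm2 : m < 2 := by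
      by_contra h
      apply h2
      exact (pow_dvd_pow r (not_lt.1 h)).trans (hm ▸ orderOf_dvd_natCard x)
    have hmem : x ∈ zpowers z := by
      rcases Nat.eq_zero_or_pos m with h0 | h0
      · rw [h0, pow_zero, orderOf_eq_one_iff] at hm
        rw [hm]
        exact one_mem _
      · have h1 : m = 1 := by omega
        rw [h1, pow_one] at hm
        exact mem_zpowers_of_sq hr h2 hz hm hxz
    rw [mem_center_iff]
    rintro ⟨g, hg⟩
    apply Subtype.ext
    obtain ⟨i, hi⟩ := mem_zpowers_iff.1 hmem
    have hgz : Commute g z := mem_centralizer_singleton_iff.1 hg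
    change g * x = x * g
    rw [← hi]
    exact (hgz.zpow_right i).eq

/-- the version with a subgroup `X` of the centralizer -/
theorem Kill.of_nonnil_le {S : Type*} [Group S] [Finite S] {r : ℕ} (hr : r.Prime) (h2 : ¬ r ^ 2 ∣ Nat.card S) {z : S}
    (hz : orderOf z = r) {X : Subgroup S} (hX : ∀ x ∈ X, x * z = z * x) (hn : ¬ Group.IsNilpotent ↥X) : Kill S :=
  Kill.of_nonnil hr h2 hz fun h => hn (nilpotent_of_le (fun x hx => mem_centralizer_singleton_iff.2 (hX x hx)) h)

/-- a prime dividing the order once, centralizer of squarefree order and not commutative -/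
theorem Kill.of_squarefree {S : Type*} [Group S] [Finite S] {r : ℕ} (hr : r.Prime) (h2 : ¬ r ^ 2 ∣ Nat.card S) {z : S}
    (hz : orderOf z = r) (hsf : Squarefree (Nat.card ↥(centralizer ({z} : Set S))))
    (hn : ∃ x ∈ centralizer ({z} : Set S), ∃ y ∈ centralizer ({z} : Set S), x * y ≠ y * x) : Kill S := by
  refine Kill.of_nonnil hr h2 hz fun h => ?_
  obtain ⟨x, hx, y, hy, hxy⟩ := hn
  apply hxy
  have : Group.IsNilpotent ↥(centralizer ({z} : Set S)) := h
  have : IsZGroup ↥(centralizer ({z} : Set S)) := IsZGroup.of_squarefree hsf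
  have hcyc : IsCyclic ↥(centralizer ({z} : Set S)) := inferInstance
  have h1 := (IsCyclic.isMulCommutative (α := ↥(centralizer ({z} : Set S)))).is_comm.comm ⟨x, hx⟩ ⟨y, hy⟩
  exact congrArg Subtype.val h1

/-- the version for an embedded group -/
theorem Kill.of_emb {S T : Type*} [Group S] [Group T] [Finite S] (f : T →* S) (hf : Function.Injective f) {r : ℕ}
    (hr : r.Prime) (h2 : ¬ r ^ 2 ∣ Nat.card S) {z : T} (hz : orderOf z = r)
    (hn : ¬ Group.IsNilpotent ↥(centralizer ({z} : Set T))) : Kill S := by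
  refine Kill.of_nonnil_le hr h2 (z := f z) (by rw [orderOf_injective f hf, hz])
    (X := (centralizer ({z} : Set T)).map f) ?_ ?_
  · rintro _ ⟨x, hx, rfl⟩
    rw [← map_mul, ← map_mul, mem_centralizer_singleton_iff.1 hx]
  · intro h
    exact hn (Group.nilpotent_of_mulEquiv (_h := h)
      ((centralizer ({z} : Set T)).equivMapOfInjective f hf).symm)

/-- nonnilpotent: squarefree order, not commutative -/
theorem not_nilpotent_of_squarefree {G : Type*} [Group G] [Finite G] (hsf : Squarefree (Nat.card G))
    (hn : ∃ x y : G, x * y ≠ y * x) : ¬ Group.IsNilpotent G := by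
  intro h
  obtain ⟨x, y, hxy⟩ := hn
  apply hxy
  have : IsZGroup G := IsZGroup.of_squarefree hsf
  have hcyc : IsCyclic G := inferInstance
  exact (IsCyclic.isMulCommutative (α := G)).is_comm.comm x y

end Cfsg.Agent.H480
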