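import Cfsg.Agent.H480.Kill
import Cfsg.Agent.BpSpor.Cen

/-!
# Nilpotent minimal covers: criteria for `Kill` (helper480, S3925, S3926)

* `Kill.of_sq` : `z` of order `r`, `r ^ 2 ∤ |S|`, commuting with `a`, `b` which generate a nonnilpotent group;
* `Kill.of_dihedral` : the same with `b` an involution inverting `a`;
* `Kill.of_quot` : `C(z)` with a homomorphism with kernel `⟨z⟩`;
* `Kill.of_two_quot` : `C(z)`, `z` an involution, with a homomorphism whose kernel is a 2-group.
-/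

set_option autoImplicit false

namespace Cfsg.Agent.H480

open Subgroup

variable {S : Type*} [Group S]

theorem mem_zpowers_of_sq [Finite S] {r : ℕ} (hr : r.Prime) (h2 : ¬ r ^ 2 ∣ Nat.card S) {z x : S}
    (hz : orderOf z = r) (hx : orderOf x = r) (hxz : x * z = z * x) : x ∈ zpowers z := by
  have hfr : Fact r.Prime := ⟨hr⟩
  by_contra hn
  apply h2
  -- the group generated by `x` and `z`
  have hcop : zpowers x ⊓ zpowers z = ⊥ := by
    have h1 : Nat.card ↥(zpowers x ⊓ zpowers z) ∣ r := by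
      have h3 : Nat.card ↥(zpowers x) = r := by rw [Nat.card_zpowers, hx]
      rw [← h3]
      exact card_dvd_of_le inf_le_left
    rcases (Nat.dvd_prime hr).1 h1 with h3 | h3
    · exact (card_eq_one).1 h3
    · exfalso
      apply hn
      have h4 : zpowers x ⊓ zpowers z = zpowers x :=
        eq_of_le_of_card_ge inf_le_left (by rw [Nat.card_zpowers, hx, h3])
      have h5 : x ∈ zpowers x ⊓ zpowers z := by rw [h4]; exact mem_zpowers x
      exact h5.2
  have hcm : ∀ (a : zpowers x) (b : zpowers z), Commute (a : S) (b : S) := by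
    rintro ⟨a, ha⟩ ⟨b, hb⟩
    obtain ⟨i, rfl⟩ := mem_zpowers_iff.1 ha
    obtain ⟨j, rfl⟩ := mem_zpowers_iff.1 hb
    exact ((show Commute x z from hxz).zpow_left i).zpow_right j
  let f : ↥(zpowers x) × ↥(zpowers z) →* S :=
    (zpowers x).subtype.noncommCoprod (zpowers z).subtype (fun a b => hcm a b)
  have hf : Function.Injective f := by
    rw [injective_iff_map_eq_one]
    rintro ⟨a, b⟩ hab
    have h3 : (a : S) * (b : S) = 1 := hab
    have h4 : (a : S) ∈ zpowers x ⊓ zpowers z := by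
      refine ⟨a.2, ?_⟩
      rw [eq_inv_of_mul_eq_one_left h3]
      exact (zpowers z).inv_mem b.2
    rw [hcop, mem_bot] at h4
    have h5 : (b : S) = 1 := by rw [h4, one_mul] at h3; exact h3
    exact Prod.ext (Subtype.ext h4) (Subtype.ext h5)
  have h6 := card_dvd_of_injective f hf
  rw [Nat.card_prod, Nat.card_zpowers, Nat.card_zpowers, hx, hz] at h6
  rw [pow_two]
  exact h6

/-- **A prime dividing the order once**, with a nonnilpotent centralizer. -/
theorem Kill.of_sq [Finite S] {r : ℕ} (hr : r.Prime) (h2 : ¬ r ^ 2 ∣ Nat.card S) {z a b : S} (hz : orderOf z = r)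
    (hza : z * a = a * z) (hzb : z * b = b * z) (hb : (orderOf b).Coprime r)
    (hcop : (orderOf (a * b * a⁻¹ * b⁻¹)).Coprime (orderOf b))
    (hne : (a * b * a⁻¹ * b⁻¹) * b ≠ b * (a * b * a⁻¹ * b⁻¹)) : Kill S := by
  refine ⟨r, z, b, hr, hz, hb, hzb, fun x hx hxz _ => mem_zpowers_of_sq hr h2 hz hx hxz, ?_⟩
  exact not_nilpotent_of_commutator (q := a) (mem_centralizer_singleton_iff.2 hza.symm) hcop hne

/-- the dihedral case -/
theorem Kill.of_dihedral [Finite S] {r : ℕ} (hr : r.Prime) (hr2 : r ≠ 2) (h2 : ¬ r ^ 2 ∣ Nat.card S) {z a b : S}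
    (hz : orderOf z = r) (hza : z * a = a * z) (hzb : z * b = b * z) (hb : b * b = 1) (hab : b * a * b = a⁻¹)
    (ha : Odd (orderOf a)) (ha1 : a ≠ 1) : Kill S := by
  have hb1 : b ≠ 1 := by
    rintro rfl
    rw [one_mul, mul_one] at hab
    have h3 : a ^ 2 = 1 := by
      rw [pow_two]
      calc a * a = a * a⁻¹ := by rw [← hab]
        _ = 1 := mul_inv_cancel a
    have h4 := orderOf_dvd_of_pow_eq_one h3
    have h5 : orderOf a = 1 := by
      rcases (Nat.dvd_prime Nat.prime_two).1 h4 with h | h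
      · exact h
      · rw [h] at ha
        exact absurd ha (by decide)
    exact ha1 (orderOf_eq_one_iff.1 h5)
  have hbo : orderOf b = 2 := by
    have : Fact (Nat.Prime 2) := ⟨Nat.prime_two⟩
    exact orderOf_eq_prime (by rw [pow_two, hb]) hb1
  have hbi : b⁻¹ = b := inv_eq_of_mul_eq_one_right hb
  have e : a * b * a⁻¹ * b⁻¹ = a ^ 2 := by
    have h3 : b * a⁻¹ * b = a := by
      have h4 := congrArg (·⁻¹) hab
      simp only [mul_inv_rev, inv_inv, hbi] at h4
      rw [mul_assoc]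
      exact h4
    rw [hbi, mul_assoc, mul_assoc, ← mul_assoc b, h3, pow_two]
  have ho : Odd (orderOf (a ^ 2)) := ha.of_dvd_nat (orderOf_pow_dvd 2)
  refine Kill.of_sq hr h2 hz hza hzb ?_ ?_ ?_
  · rw [hbo]
    exact (Nat.coprime_primes Nat.prime_two hr).2 (Ne.symm hr2)
  · rw [e, hbo]
    exact ho.coprime_two_right
  · rw [e]
    intro h3
    have h4 : b * a ^ 2 * b = (a ^ 2)⁻¹ := by
      calc b * a ^ 2 * b = (b * a * b) * (b * a * b) := by
            rw [pow_two]
            calc b * (a * a) * b = b * a * (1 * a) * b := by rw [one_mul]; group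
              _ = b * a * (b * b * a) * b := by rw [hb]
              _ = _ := by group
        _ = (a ^ 2)⁻¹ := by rw [hab, pow_two, mul_inv_rev]
    rw [← h3, mul_assoc, hb, mul_one] at h4
    have h5 : (a ^ 2) ^ 2 = 1 := by
      rw [pow_two (a ^ 2)]
      calc a ^ 2 * a ^ 2 = a ^ 2 * (a ^ 2)⁻¹ := by rw [← h4]
        _ = 1 := mul_inv_cancel _
    rw [← pow_mul] at h5
    have h6 : orderOf a ∣ 2 ^ 2 := orderOf_dvd_of_pow_eq_one h5
    have h7 : orderOf a = 1 := Nat.Coprime.eq_one_of_dvd (ha.coprime_two_right.pow_right 2) h6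
    exact ha1 (orderOf_eq_one_iff.1 h7)

/-- **A centralizer with a homomorphism with kernel `⟨z⟩`.** -/
theorem Kill.of_quot {L : Type*} [Group L] [Finite S] {r : ℕ} (hr : r.Prime) {z : S} (hz : orderOf z = r)
    (π : ↥(centralizer ({z} : Set S)) →* L) (hker : ∀ c, π c = 1 → (c : S) ∈ zpowers z) {σ : L} (hσ : σ ∈ π.range)
    (hσr : (orderOf σ).Coprime r) (hC : ∀ y : L, y ^ r = 1 → y * σ = σ * y → y = 1)
    (hnil : ¬ Group.IsNilpotent ↥(closure (cjs π.range σ))) : Kill S := by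
  obtain ⟨d0, rfl⟩ := hσ
  set n := orderOf (π d0) with hn
  have hn0 : 0 < n := orderOf_pos_iff.2 (MonoidHom.isOfFinOrder π (isOfFinOrder_of_finite d0))
  obtain ⟨k, hk1, hk2⟩ := Nat.chineseRemainder hσr 1 0
  have hkd : π (d0 ^ k) = π d0 := by
    rw [map_pow]
    conv_rhs => rw [← pow_one (π d0)]
    exact pow_eq_pow_iff_modEq.2 hk1
  have hd0 : (d0 : S) ^ (n * r) = 1 := by
    have h1 : π (d0 ^ n) = 1 := by rw [map_pow, hn, pow_orderOf_eq_one]
    have h2 := hker _ h1
    obtain ⟨i, hi⟩ := mem_zpowers_iff.1 h2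
    rw [pow_mul]
    have h3 : ((d0 ^ n : ↥(centralizer ({z} : Set S))) : S) = (d0 : S) ^ n := by simp
    rw [h3] at hi
    rw [← hi, ← zpow_natCast, ← zpow_mul, mul_comm, zpow_mul, zpow_natCast, ← hz, pow_orderOf_eq_one, one_zpow]
  have hkr : r ∣ k := (Nat.modEq_zero_iff_dvd).1 hk2
  have hdn : ((d0 ^ k : ↥(centralizer ({z} : Set S))) : S) ^ n = 1 := by
    obtain ⟨m, hm⟩ := hkr
    have h3 : ((d0 ^ k : ↥(centralizer ({z} : Set S))) : S) = (d0 : S) ^ k := by simp
    rw [h3, ← pow_mul, hm]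
    have h4 : r * m * n = (n * r) * m := by ring
    rw [h4, pow_mul, hd0, one_pow]
  refine ⟨r, z, ((d0 ^ k : ↥(centralizer ({z} : Set S))) : S), hr, hz, ?_, ?_, ?_, ?_⟩
  · exact Nat.Coprime.coprime_dvd_left (orderOf_dvd_of_pow_eq_one hdn) hσr
  · exact (mem_centralizer_singleton_iff.1 (d0 ^ k).2).symm
  · intro x hx hxz hxd
    have h1 : (⟨x, mem_centralizer_singleton_iff.2 hxz⟩ : ↥(centralizer ({z} : Set S))) ^ r = 1 := by
      apply Subtype.ext
      simp [← hx, pow_orderOf_eq_one]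
    refine hker ⟨x, mem_centralizer_singleton_iff.2 hxz⟩ (hC _ ?_ ?_)
    · rw [← map_pow, h1, map_one]
    · rw [← hkd, ← map_mul, ← map_mul]
      exact congrArg π (Subtype.ext hxd)
  · intro hnl
    apply hnil
    set D := closure (cjs (centralizer ({z} : Set S)) ((d0 ^ k : ↥(centralizer ({z} : Set S))) : S)) with hD
    have hDC : D ≤ centralizer ({z} : Set S) := by
      rw [hD, closure_le]
      rintro _ ⟨m, hm, rfl⟩
      exact mul_mem (mul_mem hm (d0 ^ k).2) (inv_mem hm)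
    let g : ↥D →* L := π.comp (Subgroup.inclusion hDC)
    have h1 : closure (cjs π.range (π d0)) ≤ g.range := by
      rw [closure_le]
      rintro _ ⟨_, ⟨m, rfl⟩, rfl⟩
      refine ⟨⟨(m : S) * ((d0 ^ k : ↥(centralizer ({z} : Set S))) : S) * (m : S)⁻¹,
        subset_closure ⟨m, m.2, rfl⟩⟩, ?_⟩
      have h2 : (Subgroup.inclusion hDC ⟨(m : S) * ((d0 ^ k : ↥(centralizer ({z} : Set S))) : S) * (m : S)⁻¹,
        subset_closure ⟨m, m.2, rfl⟩⟩ : ↥(centralizer ({z} : Set S))) = m * d0 ^ k * m⁻¹ := by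
        apply Subtype.ext
        simp
      change π _ = _
      rw [h2, map_mul, map_mul, hkd, map_inv]
    have h3 : Group.IsNilpotent ↥g.range :=
      Group.nilpotent_of_surjective (h := hnl) g.rangeRestrict g.rangeRestrict_surjective
    exact nilpotent_of_le h1 h3

/-- `d` of order coprime to the 2-group `N` which it normalises; if the conjugates of `d` by `N` generate a nilpotent
group, `d` centralises `N` -/
theorem comm_of_nilpotent_cjs {C N : Subgroup S} {d : S} (hNC : N ≤ C) (hN : IsPGroup 2 N)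
    (hdN : ∀ q ∈ N, d * q * d⁻¹ ∈ N) (hd : Odd (orderOf d)) (hnil : Group.IsNilpotent ↥(closure (cjs C d))) {q : S}
    (hq : q ∈ N) : q * d = d * q := by
  have hfin : IsOfFinOrder d := by
    rw [← orderOf_pos_iff]
    exact hd.pos
  have hqc : q * d * q⁻¹ * d⁻¹ ∈ N := by
    have h1 := N.mul_mem hq (hdN q⁻¹ (inv_mem hq))
    have e : q * (d * q⁻¹ * d⁻¹) = q * d * q⁻¹ * d⁻¹ := by group
    rwa [e] at h1
  have hpow : ∀ w ∈ N, ∃ k : ℕ, w ^ 2 ^ k = 1 := by
    intro w hw
    obtain ⟨k, hk⟩ := hN ⟨w, hw⟩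
    exact ⟨k, by simpa using congrArg Subtype.val hk⟩
  have hcomm : (q * d * q⁻¹ * d⁻¹) * d = d * (q * d * q⁻¹ * d⁻¹) := by
    have hd' : d ∈ closure (cjs C d) := subset_closure (mem_cjs_self C d)
    have h1 : q * d * q⁻¹ ∈ closure (cjs C d) := subset_closure ⟨q, hNC hq, rfl⟩
    have h2 : q * d * q⁻¹ * d⁻¹ ∈ closure (cjs C d) := mul_mem h1 (inv_mem hd')
    obtain ⟨k, hk⟩ := hpow _ hqc
    have h3 : Commute (⟨_, h2⟩ : ↥(closure (cjs C d))) ⟨d, hd'⟩ := by
      refine Lib.NilpotentCoprime.commute_of_pow_eq_one (m := 2 ^ k) (n := orderOf d)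
        (Nat.Coprime.pow_left k hd.coprime_two_left) (Subtype.ext ?_) (Subtype.ext ?_)
      · simpa using hk
      · simp [pow_orderOf_eq_one]
    exact congrArg Subtype.val h3.eq
  -- `c = [q, d]` commutes with `d`, so `q d ^ n q⁻¹ = c ^ n d ^ n`
  set c := q * d * q⁻¹ * d⁻¹ with hc
  have h1 : q * d * q⁻¹ = c * d := by rw [hc]; group
  have h2 : q * d ^ orderOf d * q⁻¹ = c ^ orderOf d * d ^ orderOf d := by
    rw [← conj_pow, h1]
    exact (show Commute c d from hcomm).mul_pow _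
  rw [pow_orderOf_eq_one, mul_one, mul_one, mul_inv_cancel] at h2
  have h3 : c = 1 := by
    obtain ⟨k, hk⟩ := hpow c hqc
    have h4 : orderOf c ∣ 2 ^ k := orderOf_dvd_of_pow_eq_one hk
    have h5 : orderOf c ∣ orderOf d := orderOf_dvd_of_pow_eq_one h2.symm
    have h6 : orderOf c = 1 := Nat.Coprime.eq_one_of_dvd
      (Nat.Coprime.coprime_dvd_left h5 (hd.coprime_two_right.pow_right k)) h4
    exact orderOf_eq_one_iff.1 h6
  rw [h3, one_mul] at h1
  calc q * d = q * d * q⁻¹ * q := by group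
    _ = d * q := by rw [h1]

/-- **An involution centralizer with a homomorphism whose kernel is a 2-group.** -/
theorem Kill.of_two_quot {L : Type*} [Group L] [Finite S] {z : S} (hz : orderOf z = 2)
    (π : ↥(centralizer ({z} : Set S)) →* L) {n p : ℕ} (hp : p.Prime) (hp2 : p ≠ 2) (hker : Nat.card π.ker = 2 ^ n)
    {σ : L} (hσ : σ ∈ π.range) (hσp : orderOf σ = p) (hC : ∀ y : L, y ^ 2 = 1 → y * σ = σ * y → y = 1)
    (hnum : ∀ i < n, 2 ^ n ≡ 2 ^ i [MOD p] → i ≤ 1)
    (hcen : ∀ c : ↥(centralizer ({z} : Set S)), (∀ k ∈ π.ker, c * k = k * c) → π c = 1) : Kill S := by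
  have hfp : Fact p.Prime := ⟨hp⟩
  obtain ⟨d0, hd0⟩ := hσ
  -- the kernel as a subgroup of `S`
  set N : Subgroup S := π.ker.map (centralizer ({z} : Set S)).subtype with hN
  have hNcard : Nat.card N = 2 ^ n := by
    rw [hN, card_map_of_injective (centralizer ({z} : Set S)).subtype_injective, hker]
  have hNC : N ≤ centralizer ({z} : Set S) := by
    rintro _ ⟨k, hk, rfl⟩
    exact k.2
  have hNp : IsPGroup 2 N := IsPGroup.of_card hNcard
  -- an element of order `p` above `σ`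
  have hcop : p.Coprime (2 ^ n) := (Nat.Coprime.pow_right n ((Nat.coprime_primes hp Nat.prime_two).2 hp2))
  obtain ⟨k, hk1, hk2⟩ := Nat.chineseRemainder hcop 1 0
  have hkσ : π (d0 ^ k) = σ := by
    rw [map_pow, hd0]
    conv_rhs => rw [← pow_one σ]
    refine pow_eq_pow_iff_modEq.2 ?_
    rw [hσp]
    exact hk1
  obtain ⟨d, hd⟩ : ∃ d : ↥(centralizer ({z} : Set S)), d = d0 ^ k := ⟨_, rfl⟩
  rw [← hd] at hkσ
  have hdp : d ^ p = 1 := by
    have h1 : d0 ^ p ∈ π.ker := by
      rw [MonoidHom.mem_ker, map_pow, hd0, ← hσp, pow_orderOf_eq_one]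
    have h2 : (d0 ^ p) ^ 2 ^ n = 1 := by
      have h3 := pow_card_eq_one' (G := ↥π.ker) (x := ⟨d0 ^ p, h1⟩)
      rw [hker] at h3
      exact congrArg Subtype.val h3
    obtain ⟨m, hm⟩ := (Nat.modEq_zero_iff_dvd).1 hk2
    rw [hd, ← pow_mul, hm]
    have h4 : 2 ^ n * m * p = p * 2 ^ n * m := by ring
    rw [h4, pow_mul, pow_mul, h2, one_pow]
  have hdo : orderOf d = p := by
    have h1 : orderOf d ∣ p := orderOf_dvd_of_pow_eq_one hdp
    rcases (Nat.dvd_prime hp).1 h1 with h2 | h2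
    · exfalso
      rw [orderOf_eq_one_iff] at h2
      rw [h2, map_one] at hkσ
      rw [← hkσ, orderOf_one] at hσp
      exact hp.one_lt.ne hσp
    · exact h2
  have hdS : orderOf (d : S) = p := by rw [orderOf_coe, hdo]
  have hdN : ∀ q ∈ N, (d : S) * q * (d : S)⁻¹ ∈ N := by
    rintro _ ⟨q, hq, rfl⟩
    have h1 : d * q * d⁻¹ ∈ π.ker := (inferInstance : π.ker.Normal).conj_mem q hq d
    exact ⟨_, h1, by simp⟩
  have hodd : Odd (orderOf (d : S)) := by
    rw [hdS]
    exact hp.odd_of_ne_two hp2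
  have hnc : ¬ ∀ y ∈ N, (d : S) * y = y * d := by
    intro hall
    have h1 : π d = 1 := hcen d (fun k hk => Subtype.ext (hall _ ⟨k, hk, rfl⟩))
    rw [hkσ] at h1
    rw [h1, orderOf_one] at hσp
    exact hp.one_lt.ne hσp
  obtain ⟨i, hi, hi2, hi3⟩ := BpSpor.Cen.exists_fix hNcard hdS hdN hnc
  have hi1 : i ≤ 1 := hnum i hi hi3
  have hz1 : z ≠ 1 := by
    rintro rfl
    rw [orderOf_one] at hz
    exact absurd hz (by norm_num)
  have hzc : z ∈ centralizer ({z} : Set S) := mem_centralizer_singleton_iff.2 rfl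
  have hker2 : ∀ x : S, (hx : x ∈ centralizer ({z} : Set S)) → x ^ 2 = 1 → x * d = d * x → x ∈ N := by
    intro x hx hx2 hxd
    refine ⟨⟨x, hx⟩, ?_, rfl⟩
    change π ⟨x, hx⟩ = 1
    apply hC
    · rw [← map_pow]
      have h1 : (⟨x, hx⟩ : ↥(centralizer ({z} : Set S))) ^ 2 = 1 := Subtype.ext (by simpa using hx2)
      rw [h1, map_one]
    · rw [← hkσ, ← map_mul, ← map_mul]
      exact congrArg π (Subtype.ext hxd)
  have hzd : z * (d : S) = d * z := (mem_centralizer_singleton_iff.1 d.2).symm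
  have hz2 : z ^ 2 = 1 := by rw [← hz, pow_orderOf_eq_one]
  have hzN : z ∈ N ⊓ centralizer ({(d : S)} : Set S) :=
    ⟨hker2 z hzc hz2 hzd, mem_centralizer_singleton_iff.2 hzd⟩
  refine ⟨2, z, d, Nat.prime_two, hz, ?_, hzd, ?_, ?_⟩
  · exact hodd.coprime_two_right
  · intro x hx hxz hxd
    have hx2 : x ^ 2 = 1 := by rw [← hx, pow_orderOf_eq_one]
    have h1 : x ∈ N ⊓ centralizer ({(d : S)} : Set S) :=
      ⟨hker2 x (mem_centralizer_singleton_iff.2 hxz) hx2 hxd, mem_centralizer_singleton_iff.2 hxd⟩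
    have h2 : zpowers z = N ⊓ centralizer ({(d : S)} : Set S) := by
      refine eq_of_le_of_card_ge (zpowers_le.2 hzN) ?_
      rw [hi2, Nat.card_zpowers, hz]
      exact (Nat.pow_le_pow_right (by norm_num) hi1).trans (by norm_num)
    rw [h2]
    exact h1
  · intro hnl
    exact hnc fun y hy => (comm_of_nilpotent_cjs hNC hNp hdN hodd hnl hy).symm

end Cfsg.Agent.H480
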