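import Cfsg.Agent.H480.Row

/-!
# Nilpotent minimal covers: groups with two-transitive action of odd outer order (helper480, S3925, S3926)

* `fix_pair` : `x` of odd prime order `r` with exactly two fixed points on `Ω`, `|Ω| ≡ 2 (mod r)`, such that the
  `2`-elements commuting with `x` fix one of them: all nilpotent subgroups containing `x` do.
* `not_nmc_of_pair` : no nilpotent minimal cover.
-/

set_option autoImplicit false
set_option linter.unusedSectionVars false

namespace Cfsg.Agent.H480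

open Subgroup

universe u v

/-- the `p`-part and the `p'`-part of an element -/
theorem exists_parts {G : Type*} [Group G] [Finite G] (g : G) {p : ℕ} (hp : p.Prime) :
    ∃ s t : ℕ, g = g ^ s * g ^ t ∧ (∃ k : ℕ, (g ^ s) ^ p ^ k = 1) ∧ (orderOf (g ^ t)).Coprime p := by
  obtain ⟨k, m, hm, hkm⟩ := Nat.exists_eq_pow_mul_and_not_dvd (orderOf_pos g).ne' p hp.ne_one
  have hcop : (p ^ k).Coprime m := Nat.Coprime.pow_left k ((Nat.Prime.coprime_iff_not_dvd hp).2 hm)
  obtain ⟨s, hs1, hs2⟩ := Nat.chineseRemainder hcop 1 0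
  obtain ⟨t, ht1, ht2⟩ := Nat.chineseRemainder hcop 0 1
  refine ⟨s, t, ?_, ⟨k, ?_⟩, ?_⟩
  · rw [← pow_add]
    have h1 : s + t ≡ 1 [MOD orderOf g] := by
      rw [hkm]
      refine (Nat.modEq_and_modEq_iff_modEq_mul hcop).1 ⟨?_, ?_⟩
      · simpa using hs1.add ht1
      · simpa using hs2.add ht2
    exact (pow_eq_self (pow_orderOf_eq_one g) h1).symm
  · rw [← pow_mul]
    obtain ⟨c, hc⟩ := (Nat.modEq_zero_iff_dvd).1 hs2
    rw [hc, show m * c * p ^ k = (p ^ k * m) * c by ring, ← hkm, pow_mul, pow_orderOf_eq_one, one_pow]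
  · obtain ⟨c, hc⟩ := (Nat.modEq_zero_iff_dvd).1 ht1
    have h1 : (g ^ t) ^ m = 1 := by
      rw [← pow_mul, hc, show p ^ k * c * m = (p ^ k * m) * c by ring, ← hkm, pow_mul, pow_orderOf_eq_one, one_pow]
    exact Nat.Coprime.coprime_dvd_left (orderOf_dvd_of_pow_eq_one h1) ((Nat.Prime.coprime_iff_not_dvd hp).2 hm).symm

section

variable {G : Type*} [Group G] [Finite G] {Ω : Type*} [Finite Ω] [MulAction G Ω]

theorem fix_pair {r : ℕ} [hr : Fact r.Prime] (hr2 : r ≠ 2) (hΩ : Nat.card Ω ≡ 2 [MOD r]) {x : G}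
    (hx : orderOf x = r) {a b : Ω} (hfix : ∀ c : Ω, x • c = c → c = a ∨ c = b) (hab : a ≠ b)
    (hC : ∀ g : G, (∃ k : ℕ, g ^ 2 ^ k = 1) → g * x = x * g → g • a = a)
    {A : Subgroup G} (hA : Group.IsNilpotent ↥A) (hxA : x ∈ A) {g : G} (hg : g ∈ A) : g • a = a := by
  obtain ⟨P⟩ : Nonempty (Sylow r ↥A) := inferInstance
  have hPn : (P : Subgroup ↥A).Normal := by
    have := (Group.isNilpotent_of_finite_tfae (G := ↥A)).out 0 3
    exact this.1 hA r hr P
  have hel : ∀ b : ↥A, (∃ i : ℕ, b ^ r ^ i = 1) → b ∈ (P : Subgroup ↥A) := by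
    rintro b ⟨i, hi⟩
    have h2 : IsPGroup r ↥(zpowers b) := by
      rw [IsPGroup]
      rintro ⟨c, hc⟩
      obtain ⟨n, rfl⟩ := mem_zpowers_iff.1 hc
      exact ⟨i, Subtype.ext (by
        have h3 : (b ^ n) ^ r ^ i = (b ^ r ^ i) ^ n := by
          rw [← zpow_natCast, ← zpow_natCast, ← zpow_mul, ← zpow_mul, mul_comm]
        simpa [hi] using h3)⟩
    obtain ⟨Q, hQ⟩ := h2.exists_le_sylow
    have hQP : Q = P := by
      have hss := Sylow.unique_of_normal P hPn
      exact (hss.uniq Q).trans (hss.uniq P).symm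
    rw [← hQP]
    exact hQ (mem_zpowers b)
  set Q : Subgroup G := (P : Subgroup ↥A).map A.subtype with hQ
  have hQp : IsPGroup r Q := P.isPGroup'.map A.subtype
  have hmemQ : ∀ y ∈ A, (∃ i : ℕ, y ^ r ^ i = 1) → y ∈ Q := by
    rintro y hy ⟨i, hi⟩
    exact ⟨⟨y, hy⟩, hel _ ⟨i, Subtype.ext (by simpa using hi)⟩, rfl⟩
  have hxQ : x ∈ Q := hmemQ x hxA ⟨1, by rw [pow_one, ← hx, pow_orderOf_eq_one]⟩
  -- the fixed points of `Q`
  have hcard := hQp.card_modEq_card_fixedPoints Ω
  have hsub : MulAction.fixedPoints Q Ω ⊆ {a, b} := by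
    intro c hc
    exact hfix c (hc ⟨x, hxQ⟩)
  have hfin : ({a, b} : Set Ω).Finite := Set.toFinite _
  have hle : Nat.card (MulAction.fixedPoints Q Ω) ≤ 2 := by
    have h1 := Set.ncard_le_ncard hsub hfin
    rw [Set.ncard_pair hab] at h1
    exact h1
  have hr3 : 3 ≤ r := by
    have := hr.1.two_le
    omega
  have h2 : Nat.card (MulAction.fixedPoints Q Ω) = 2 := by
    have h3 : Nat.card (MulAction.fixedPoints Q Ω) ≡ 2 [MOD r] := hcard.symm.trans hΩ
    have h4 := h3
    rw [Nat.ModEq, Nat.mod_eq_of_lt (by omega), Nat.mod_eq_of_lt (by omega)] at h4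
    exact h4
  have heq : MulAction.fixedPoints Q Ω = {a, b} := by
    refine Set.eq_of_subset_of_ncard_le hsub ?_ hfin
    rw [Set.ncard_pair hab]
    exact h2.ge
  have haQ : a ∈ MulAction.fixedPoints Q Ω := by rw [heq]; exact Set.mem_insert _ _
  have hbQ : b ∈ MulAction.fixedPoints Q Ω := by rw [heq]; exact Set.mem_insert_of_mem _ rfl
  have hxa : x • a = a := haQ ⟨x, hxQ⟩
  have hxb : x • b = b := hbQ ⟨x, hxQ⟩
  -- the parts of `g`
  obtain ⟨s, t, hst, hs, ht⟩ := exists_parts g hr.1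
  have h5 : g ^ s • a = a := haQ ⟨g ^ s, hmemQ _ (A.pow_mem hg s) hs⟩
  have hcomm : ∀ y ∈ A, (orderOf y).Coprime r → y * x = x * y := by
    intro y hy hyr
    have h3 : Commute (⟨y, hy⟩ : ↥A) ⟨x, hxA⟩ :=
      Lib.NilpotentCoprime.commute_of_coprime_orderOf (by
        rw [← orderOf_coe, ← orderOf_coe]
        change (orderOf y).Coprime (orderOf x)
        rw [hx]
        exact hyr)
    exact congrArg Subtype.val h3.eq
  have h6 : ∀ y ∈ A, (orderOf y).Coprime r → y • a = a := by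
    intro y hy hyr
    obtain ⟨s', t', hst', hs', ht'⟩ := exists_parts y Nat.prime_two
    have hcop : ∀ n : ℕ, (orderOf (y ^ n)).Coprime r := fun n =>
      Nat.Coprime.coprime_dvd_left (orderOf_pow_dvd n) hyr
    have h7 : y ^ s' • a = a := hC _ hs' (hcomm _ (A.pow_mem hy _) (hcop s'))
    have h8 : y ^ t' • a = a := by
      set h := y ^ t' with hh
      have hhx := hcomm _ (A.pow_mem hy t') (hcop t')
      rw [← hh] at hhx
      have h9 : x • (h • a) = h • a := by rw [← mul_smul, ← hhx, mul_smul, hxa]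
      have h10 : x • (h • b) = h • b := by rw [← mul_smul, ← hhx, mul_smul, hxb]
      rcases hfix _ h9 with h11 | h11
      · exact h11
      · exfalso
        have h12 : h • b = a := by
          rcases hfix _ h10 with h13 | h13
          · exact h13
          · exact absurd (MulAction.injective h (h11.trans h13.symm)) hab
        have h14 : ∀ n : ℕ, h ^ (2 * n) • b = b := by
          intro n
          induction n with
          | zero => simp
          | succ n ih =>
            rw [mul_add, mul_one, pow_add, mul_smul, pow_two, mul_smul, h12, h11, ih]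
        have hodd : Odd (orderOf h) := by
          rw [← Nat.not_even_iff_odd, even_iff_two_dvd]
          exact (Nat.Prime.coprime_iff_not_dvd Nat.prime_two).1 ht'.symm
        obtain ⟨n, hn⟩ := hodd
        have h15 : h ^ (2 * n) • (h • a) = a := by
          rw [← mul_smul, ← pow_succ, ← hn, pow_orderOf_eq_one, one_smul]
        rw [h11, h14] at h15
        exact hab h15.symm
    rw [hst', mul_smul, h8, h7]
  rw [hst, mul_smul, h6 _ (A.pow_mem hg t) ht, h5]

/-- **No nilpotent minimal cover.** -/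
theorem not_nmc_of_pair {r : ℕ} [hr : Fact r.Prime] (hr2 : r ≠ 2) (hΩ : Nat.card Ω ≡ 2 [MOD r]) {x : G}
    (hx : orderOf x = r) {a b : Ω} (hfix : ∀ c : Ω, x • c = c → c = a ∨ c = b) (hab : a ≠ b)
    (hC : ∀ g : G, (∃ k : ℕ, g ^ 2 ^ k = 1) → g * x = x * g → g • a = a) (htop : ∃ g : G, g • a ≠ a)
    {u : G} (hu : u • a = a) (hcop : (orderOf (u * x * u⁻¹ * x⁻¹)).Coprime r)
    (hne : (u * x * u⁻¹ * x⁻¹) * x ≠ x * (u * x * u⁻¹ * x⁻¹)) {𝓐 : Finset (Subgroup G)} (h : NMC 𝓐) : False := by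
  have h1 : MulAction.stabilizer G a ≠ ⊤ := by
    intro ht
    obtain ⟨g, hg⟩ := htop
    apply hg
    have : g ∈ MulAction.stabilizer G a := by rw [ht]; exact mem_top g
    exact this
  refine not_nilpotent_of_commutator (C := MulAction.stabilizer G a) hu (by rw [hx]; exact hcop) hne
    (h.nilpotent_of_le h1 ?_)
  intro A hA hxA g hg
  exact fix_pair hr2 hΩ hx hfix hab hC hA hxA hg

end

/-- an element of prime order with exactly two fixed points -/
theorem card_modEq_two {G : Type*} [Group G] [Finite G] {Ω : Type*} [Finite Ω] [MulAction G Ω] {r : ℕ}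
    [hr : Fact r.Prime] {x : G} (hx : orderOf x = r) {a b : Ω} (hab : a ≠ b)
    (hfix : ∀ c : Ω, x • c = c ↔ c = a ∨ c = b) : Nat.card Ω ≡ 2 [MOD r] := by
  have hp : IsPGroup r (zpowers x) := IsPGroup.of_card (n := 1) (by rw [Nat.card_zpowers, hx, pow_one])
  have h1 := hp.card_modEq_card_fixedPoints Ω
  have h2 : MulAction.fixedPoints (zpowers x) Ω = {a, b} := by
    ext c
    constructor
    · intro hc
      exact (hfix c).1 (hc ⟨x, mem_zpowers x⟩)
    · intro hc
      have h3 : x • c = c := (hfix c).2 hc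
      rintro ⟨y, hy⟩
      have h4 : zpowers x ≤ MulAction.stabilizer G c := by
        rw [zpowers_le]
        exact h3
      exact h4 hy
  have h3 : Nat.card (MulAction.fixedPoints (zpowers x) Ω) = 2 := by
    change Set.ncard (MulAction.fixedPoints (zpowers x) Ω) = 2
    rw [h2, Set.ncard_pair hab]
  rw [h3] at h1
  exact h1

/-- data on the Sylow `p`-subgroups -/
def Pair (p r : ℕ) (S : Type*) [Group S] : Prop :=
  r ≠ 2 ∧ ∃ (x u : S) (P Q : Sylow p S), orderOf x = r ∧ P ≠ Q ∧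
    (∀ R : Sylow p S, x ∈ normalizer ((R : Subgroup S) : Set S) ↔ R = P ∨ R = Q) ∧
    (∀ g : S, (∃ k : ℕ, g ^ 2 ^ k = 1) → g * x = x * g → g ∈ normalizer ((P : Subgroup S) : Set S)) ∧
    u ∈ normalizer ((P : Subgroup S) : Set S) ∧ (orderOf (u * x * u⁻¹ * x⁻¹)).Coprime r ∧
    (u * x * u⁻¹ * x⁻¹) * x ≠ x * (u * x * u⁻¹ * x⁻¹)

theorem Pair.not_nmc {S : Type v} [Group S] [Finite S] {p r : ℕ} [hp : Fact p.Prime] [hr : Fact r.Prime]
    (h : Pair p r S) {G : Type u} [Group G] [Finite G] {K : Subgroup G} [K.Normal] (f : S ≃* ↥K)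
    (h2 : ∀ g : G, (∃ k : ℕ, g ^ 2 ^ k = 1) → g ∈ K) {𝓐 : Finset (Subgroup G)} (hA : NMC 𝓐) : False := by
  obtain ⟨hr2, x, u, P, Q, hx, hPQ, hfix, hC, hu, hcop, hne⟩ := h
  let φ : G →* MulAut S := (MulAut.congr f.symm).toMonoidHom.comp MulAut.conjNormal
  have hφ : ∀ s : S, φ (f s : G) = MulAut.conj s := by
    intro s
    ext t
    change f.symm (MulAut.conjNormal (f s : G) (f t)) = _
    rw [MulEquiv.symm_apply_eq]
    apply Subtype.ext
    rw [MulAut.conjNormal_apply, MulAut.conj_apply]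
    simp
  let _ : MulAction G (Sylow p S) := MulAction.compHom _ φ
  have hsm : ∀ (s : S) (R : Sylow p S), (f s : G) • R = s • R := by
    intro s R
    change φ (f s : G) • R = s • R
    rw [hφ]
    rfl
  have hsm' : ∀ (s : S) (R : Sylow p S), (f s : G) • R = R ↔ s ∈ normalizer ((R : Subgroup S) : Set S) := by
    intro s R
    rw [hsm]
    exact Sylow.smul_eq_iff_mem_normalizer
  have hinj : ∀ a b : S, (f a : G) = (f b : G) → a = b := fun a b hab => f.injective (Subtype.ext hab)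
  have hord : ∀ a : S, orderOf (f a : G) = orderOf a := by
    intro a
    rw [orderOf_coe, MulEquiv.orderOf_eq]
  have hcomm : (f u : G) * (f x : G) * (f u : G)⁻¹ * (f x : G)⁻¹ = (f (u * x * u⁻¹ * x⁻¹) : G) := by
    simp
  have hcard : Nat.card (Sylow p S) ≡ 2 [MOD r] :=
    card_modEq_two (G := G) (x := (f x : G)) (by rw [hord]; exact hx) hPQ (fun R => (hsm' x R).trans (hfix R))
  refine not_nmc_of_pair (Ω := Sylow p S) hr2 hcard (x := (f x : G)) (by rw [hord]; exact hx) (a := P) (b := Q)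
    (fun R hR => (hfix R).1 ((hsm' x R).1 hR)) hPQ ?_ ?_ (u := (f u : G)) ((hsm' u P).2 hu)
    (by rw [hcomm, hord]; exact hcop) ?_ hA
  · intro g hg hgx
    have hgK := h2 g hg
    obtain ⟨s, hs⟩ := f.surjective ⟨g, hgK⟩
    have hgs : g = (f s : G) := by rw [hs]
    rw [hgs, hsm']
    obtain ⟨k, hk⟩ := hg
    refine hC s ⟨k, ?_⟩ ?_
    · apply hinj
      rw [map_pow, SubgroupClass.coe_pow, ← hgs, hk, map_one, coe_one]
    · apply hinj
      rw [map_mul, map_mul, coe_mul, coe_mul, ← hgs, hgx]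
  · obtain ⟨s, hs⟩ := MulAction.exists_smul_eq S P Q
    refine ⟨(f s : G), ?_⟩
    rw [hsm, hs]
    exact hPQ.symm
  · rw [hcomm]
    intro h3
    apply hne
    apply hinj
    rw [map_mul f _ x, map_mul f x, coe_mul, coe_mul, h3]

/-- The data in groups with a split `(B, N)`-pair of rank one. -/
theorem pair_of_bn {S : Type*} [Group S] [Finite S] {p r : ℕ} [hp : Fact p.Prime] [hr : Fact r.Prime]
    (P : Sylow p S) (T : Subgroup S) (w x : S) (hTP : T ≤ normalizer ((P : Subgroup S) : Set S))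
    (hdis : ∀ t ∈ T, t ∈ (P : Subgroup S) → t = 1)
    (hbr : ∀ g : S, (∃ a ∈ (P : Subgroup S), ∃ t ∈ T, g = a * t) ∨
      (∃ a ∈ (P : Subgroup S), ∃ b ∈ (P : Subgroup S), ∃ t ∈ T, g = a * w * (b * t)))
    (hint : ∀ a ∈ (P : Subgroup S), w⁻¹ * a * w ∈ normalizer ((P : Subgroup S) : Set S) → a = 1)
    (hwn : w⁻¹ * x * w ∈ T) (hwN : w ∉ normalizer ((P : Subgroup S) : Set S))
    (hx : orderOf x = r) (hr2 : r ≠ 2) (hrp : r ≠ p) (hxT : x ∈ T) (hxc : ∀ t ∈ T, t * x = x * t)
    (hcx : ∀ a ∈ (P : Subgroup S), x * a = a * x → a = 1) (hwx : w⁻¹ * x * w ≠ x)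
    (hne : ∃ u ∈ (P : Subgroup S), u ≠ 1) : Pair p r S := by
  have hPN : (P : Subgroup S) ≤ normalizer ((P : Subgroup S) : Set S) := le_normalizer
  have hxP : ∀ a ∈ (P : Subgroup S), x * a * x⁻¹ ∈ (P : Subgroup S) := fun a ha =>
    (mem_normalizer_iff.1 (hTP hxT) a).1 ha
  have hconj : ∀ (g : S) (R : Sylow p S), x ∈ normalizer (((g • R : Sylow p S) : Subgroup S) : Set S) ↔
      g⁻¹ * x * g ∈ normalizer ((R : Subgroup S) : Set S) := by
    intro g R
    have hs : ∀ (h : S) (R : Sylow p S), h ∈ normalizer ((R : Subgroup S) : Set S) ↔ h • R = R :=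
      fun h R => Sylow.smul_eq_iff_mem_normalizer.symm
    rw [hs, hs, mul_smul, mul_smul, inv_smul_eq_iff]
  obtain ⟨u, huP, hu1⟩ := hne
  refine ⟨hr2, x, u, P, w • P, hx, ?_, ?_, ?_, hPN huP, ?_, ?_⟩
  · intro h
    exact hwN (Sylow.smul_eq_iff_mem_normalizer.1 h.symm)
  · intro R
    constructor
    · intro hR
      obtain ⟨g, rfl⟩ := MulAction.exists_smul_eq S P R
      rcases hbr g with ⟨a, ha, t, ht, rfl⟩ | ⟨a, ha, b, hb, t, ht, rfl⟩
      · left
        exact Sylow.smul_eq_iff_mem_normalizer.2 (mul_mem (hPN ha) (hTP ht))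
      · right
        have h1 : (b * t) • P = P := Sylow.smul_eq_iff_mem_normalizer.2 (mul_mem (hPN hb) (hTP ht))
        rw [mul_smul, h1] at hR ⊢
        rw [hconj] at hR
        -- `a` commutes with `x`
        have h2 : (a * w)⁻¹ * x * (a * w) = (w⁻¹ * (a⁻¹ * (x * a * x⁻¹)) * w) * (w⁻¹ * x * w) := by group
        rw [h2] at hR
        have h3 := (mul_mem_cancel_right (hTP hwn)).1 hR
        have h4 := hint _ (mul_mem (inv_mem ha) (hxP a ha)) h3
        have h5 : x * a = a * x := by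
          have h6 := inv_mul_eq_one.1 h4
          rw [eq_mul_inv_iff_mul_eq] at h6
          exact h6.symm
        rw [hcx a ha h5, one_mul]
    · rintro (rfl | rfl)
      · exact hTP hxT
      · rw [hconj]
        exact hTP hwn
  · intro g _ hgx
    rcases hbr g with ⟨a, ha, t, ht, rfl⟩ | ⟨a, ha, b, hb, t, ht, rfl⟩
    · exact mul_mem (hPN ha) (hTP ht)
    · exfalso
      -- `a = 1`
      have h0 : x ∈ normalizer ((((a * w) • P : Sylow p S) : Subgroup S) : Set S) := by
        have h1 : (b * t) • P = P := Sylow.smul_eq_iff_mem_normalizer.2 (mul_mem (hPN hb) (hTP ht))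
        have h2 : (a * w) • P = (a * w * (b * t)) • P := by rw [mul_smul (a * w), h1]
        rw [h2, hconj]
        have h3 : (a * w * (b * t))⁻¹ * x * (a * w * (b * t)) = x := by
          rw [mul_assoc _ x, ← hgx]
          group
        rw [h3]
        exact hTP hxT
      have ha1 : a = 1 := by
        rw [hconj] at h0
        have h2 : (a * w)⁻¹ * x * (a * w) = (w⁻¹ * (a⁻¹ * (x * a * x⁻¹)) * w) * (w⁻¹ * x * w) := by group
        rw [h2] at h0
        have h3 := (mul_mem_cancel_right (hTP hwn)).1 h0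
        have h4 := hint _ (mul_mem (inv_mem ha) (hxP a ha)) h3
        have h5 : x * a = a * x := by
          have h6 := inv_mul_eq_one.1 h4
          rw [eq_mul_inv_iff_mul_eq] at h6
          exact h6.symm
        exact hcx a ha h5
      subst ha1
      rw [one_mul] at hgx
      -- `b x b⁻¹ = w⁻¹ x w`
      have h1 : w⁻¹ * x * w = b * x * b⁻¹ := by
        have h2 : w * (b * t) * x = w * (b * x) * t := by
          rw [mul_assoc w, mul_assoc b t x, hxc t ht]
          group
        rw [h2] at hgx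
        have h3 : w * (b * x) = x * w * b := by
          apply mul_right_cancel (b := t)
          rw [hgx]
          group
        rw [eq_mul_inv_iff_mul_eq, mul_assoc, mul_assoc, ← mul_assoc x, ← h3]
        group
      have h2 : (w⁻¹ * x * w) * x⁻¹ ∈ (P : Subgroup S) := by
        rw [h1]
        have h3 : b * x * b⁻¹ * x⁻¹ = b * (x * b⁻¹ * x⁻¹) := by group
        rw [h3]
        exact mul_mem hb (hxP _ (inv_mem hb))
      exact hwx (mul_inv_eq_one.1 (hdis _ (mul_mem hwn (inv_mem hxT)) h2))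
  · have h1 : u * x * u⁻¹ * x⁻¹ ∈ (P : Subgroup S) := by
      rw [show u * x * u⁻¹ * x⁻¹ = u * (x * u⁻¹ * x⁻¹) by group]
      exact mul_mem huP (hxP _ (inv_mem huP))
    obtain ⟨k, hk⟩ := P.isPGroup' ⟨_, h1⟩
    have h2 : (u * x * u⁻¹ * x⁻¹) ^ p ^ k = 1 := by simpa using congrArg Subtype.val hk
    exact Nat.Coprime.coprime_dvd_left (orderOf_dvd_of_pow_eq_one h2)
      (Nat.Coprime.pow_left k ((Nat.coprime_primes hp.1 hr.1).2 hrp.symm))
  · intro h
    have h1 : u * x * u⁻¹ * x⁻¹ ∈ (P : Subgroup S) := by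
      rw [show u * x * u⁻¹ * x⁻¹ = u * (x * u⁻¹ * x⁻¹) by group]
      exact mul_mem huP (hxP _ (inv_mem huP))
    have h2 := hcx _ h1 h.symm
    have h3 : u * x = x * u := by
      have h4 := mul_inv_eq_one.1 h2
      rw [mul_inv_eq_iff_eq_mul] at h4
      exact h4
    exact hu1 (hcx u huP h3.symm)

end Cfsg.Agent.H480
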