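import Cfsg.Agent.H480.Conj
import Cfsg.Agent.H480.RankOne

/-!
# Nilpotent minimal covers: a prime dividing the order exactly once (helper480, S3925, S3926)
-/

set_option autoImplicit false

namespace Cfsg.Agent.H480

open Subgroup

/-- the `p`-elements of a nilpotent subgroup containing an element `x` of order `p` are powers of `x`, if `p ^ 2` does
not divide the order -/
theorem mem_zpowers_of_nilpotent {G : Type*} [Group G] [Finite G] {p : ℕ} (hp : p.Prime) {x : G} (hx : orderOf x = p)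
    (hpp : ¬ p ^ 2 ∣ Nat.card G) {A : Subgroup G} (hA : Group.IsNilpotent ↥A) (hxA : x ∈ A) {y : G} (hy : y ∈ A)
    (hyp : ∃ k : ℕ, y ^ p ^ k = 1) : y ∈ zpowers x := by
  have hfp : Fact p.Prime := ⟨hp⟩
  obtain ⟨P⟩ : Nonempty (Sylow p ↥A) := inferInstance
  have hPn : (P : Subgroup ↥A).Normal := by
    have := (Group.isNilpotent_of_finite_tfae (G := ↥A)).out 0 3
    exact this.1 hA p hfp P
  have hel : ∀ b : ↥A, (∃ i : ℕ, b ^ p ^ i = 1) → b ∈ (P : Subgroup ↥A) := by
    rintro b ⟨i, hi⟩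
    have h2 : IsPGroup p ↥(zpowers b) := by
      rw [IsPGroup]
      rintro ⟨c, hc⟩
      obtain ⟨n, rfl⟩ := mem_zpowers_iff.1 hc
      exact ⟨i, Subtype.ext (by
        have h3 : (b ^ n) ^ p ^ i = (b ^ p ^ i) ^ n := by
          rw [← zpow_natCast, ← zpow_natCast, ← zpow_mul, ← zpow_mul, mul_comm]
        simpa [hi] using h3)⟩
    obtain ⟨Q, hQ⟩ := h2.exists_le_sylow
    have hQP : Q = P := by
      have hss := Sylow.unique_of_normal P hPn
      exact (hss.uniq Q).trans (hss.uniq P).symm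
    rw [← hQP]
    exact hQ (mem_zpowers b)
  have hxP : (⟨x, hxA⟩ : ↥A) ∈ (P : Subgroup ↥A) :=
    hel _ ⟨1, Subtype.ext (by
      have h0 : x ^ p = 1 := by rw [← hx, pow_orderOf_eq_one]
      simpa using h0)⟩
  have hyP : (⟨y, hy⟩ : ↥A) ∈ (P : Subgroup ↥A) := by
    obtain ⟨k, hk⟩ := hyp
    exact hel _ ⟨k, Subtype.ext (by simpa using hk)⟩
  -- the order of `P`
  have hPc : Nat.card (P : Subgroup ↥A) = p := by
    obtain ⟨n, hn⟩ := (IsPGroup.iff_card).1 P.isPGroup'
    have h1 : Nat.card (P : Subgroup ↥A) ∣ Nat.card G :=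
      (Subgroup.card_subgroup_dvd_card _).trans (Subgroup.card_subgroup_dvd_card A)
    have hn2 : n < 2 := by
      by_contra h
      apply hpp
      refine dvd_trans (pow_dvd_pow p (not_lt.1 h)) ?_
      rw [← hn]
      exact h1
    have hn0 : n ≠ 0 := by
      rintro rfl
      rw [pow_zero] at hn
      have h2 : (⟨x, hxA⟩ : ↥A) = 1 := by
        have h3 := (Subgroup.card_eq_one (H := (P : Subgroup ↥A))).1 hn
        rw [h3, mem_bot] at hxP
        exact hxP
      have h3 : x = 1 := congrArg Subtype.val h2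
      rw [h3, orderOf_one] at hx
      exact hp.one_lt.ne hx
    have h4 : n = 1 := by omega
    rw [hn, h4, pow_one]
  have hPz : (P : Subgroup ↥A) = zpowers ⟨x, hxA⟩ := by
    symm
    refine Subgroup.eq_of_le_of_card_ge (zpowers_le.2 hxP) ?_
    rw [hPc, Nat.card_zpowers, ← hx]
    exact (orderOf_coe (⟨x, hxA⟩ : ↥A)).le
  rw [hPz] at hyP
  obtain ⟨n, hn⟩ := mem_zpowers_iff.1 hyP
  refine mem_zpowers_iff.2 ⟨n, ?_⟩
  have h5 := congrArg Subtype.val hn
  simpa using h5

/-- a nilpotent subgroup containing `x` centralises `x` -/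
theorem comm_of_nilpotent {G : Type*} [Group G] [Finite G] {p : ℕ} (hp : p.Prime) {x : G} (hx : orderOf x = p)
    (hpp : ¬ p ^ 2 ∣ Nat.card G) {A : Subgroup G} (hA : Group.IsNilpotent ↥A) (hxA : x ∈ A) {y : G} (hy : y ∈ A) :
    y * x = x * y := by
  obtain ⟨s, t, hst, hs, ht⟩ := exists_parts y hp
  have h1 : y ^ s * x = x * y ^ s := by
    obtain ⟨n, hn⟩ := mem_zpowers_iff.1 (mem_zpowers_of_nilpotent hp hx hpp hA hxA (A.pow_mem hy s) hs)
    rw [← hn]
    exact ((Commute.refl x).zpow_left n).eq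
  have h2 : y ^ t * x = x * y ^ t := by
    have h3 : Commute (⟨y ^ t, A.pow_mem hy t⟩ : ↥A) ⟨x, hxA⟩ :=
      Lib.NilpotentCoprime.commute_of_coprime_orderOf (by
        rw [← orderOf_coe, ← orderOf_coe]
        change (orderOf (y ^ t)).Coprime (orderOf x)
        rw [hx]
        exact ht)
    exact congrArg Subtype.val h3.eq
  rw [hst, mul_assoc, h2, ← mul_assoc, h1, mul_assoc]

/-- **A prime dividing the order once**: `C(x)` in a proper subgroup `M` in which `⟨x⟩` is not normal. -/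
theorem NMC.not_of_prime {G : Type*} [Group G] [Finite G] {𝓐 : Finset (Subgroup G)} (h : NMC 𝓐) {p : ℕ}
    (hp : p.Prime) {x : G} (hx : orderOf x = p) (hpp : ¬ p ^ 2 ∣ Nat.card G) {M : Subgroup G} (hM : M ≠ ⊤)
    (hC : ∀ g, g * x = x * g → g ∈ M) {m : G} (hm : m ∈ M) (hmx : m * x * m⁻¹ ∉ zpowers x) : False := by
  have h1 := h.nilpotent_of_le hM (x := x) (fun A hA hxA g hg =>
    hC g (comm_of_nilpotent hp hx hpp hA hxA hg))
  apply hmx
  refine mem_zpowers_of_nilpotent hp hx hpp h1 (subset_closure (mem_cjs_self M x))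
    (subset_closure ⟨m, hm, rfl⟩) ⟨1, ?_⟩
  rw [pow_one, conj_pow, ← hx, pow_orderOf_eq_one]
  group

universe u v

/-- the criterion for automorphism groups: all automorphisms fixing `x` leave the proper subgroup `Y` invariant, and
`⟨x⟩` is not normal in `Y` -/
theorem NMC.not_of_prime_aut {S : Type v} [Group S] [Finite S] {G : Type u} [Group G] [Finite G]
    {K : Subgroup G} [hK : K.Normal] (hs : IsSimpleGroup ↥K) (hc : centralizer (K : Set G) = ⊥) (f : S ≃* ↥K)
    {𝓐 : Finset (Subgroup G)} (h : NMC 𝓐) {p : ℕ} (hp : p.Prime) {x : S} (hx : orderOf x = p)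
    (hpp : ¬ p ^ 2 ∣ Nat.card (MulAut S)) (Y : Subgroup S) (hYt : Y ≠ ⊤)
    (hC : ∀ α : MulAut S, α x = x → ∀ y ∈ Y, α y ∈ Y) {m : S} (hm : m ∈ Y) (hmx : m * x * m⁻¹ ∉ zpowers x) :
    False := by
  have hstab : ∀ α : MulAut S, (∀ y ∈ Y, α y ∈ Y) → ∀ y, α y ∈ Y → y ∈ Y := by
    intro α hα y hy
    have h1 : Y.map (α : S ≃* S).toMonoidHom = Y := by
      refine Subgroup.eq_of_le_of_card_ge ?_ ?_
      · rintro _ ⟨y, hy, rfl⟩
        exact hα y hy
      · exact (Nat.card_congr (Y.equivMapOfInjective _ (α : S ≃* S).injective).toEquiv).le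
    rw [← h1] at hy
    obtain ⟨z, hz, hzy⟩ := hy
    rw [← (α : S ≃* S).injective hzy]
    exact hz
  let M : Subgroup G :=
    { carrier := {g | ∀ y ∈ Y, act f g y ∈ Y}
      mul_mem' := by
        intro a b ha hb y hy
        rw [map_mul, MulAut.mul_apply]
        exact ha _ (hb y hy)
      one_mem' := by
        intro y hy
        rw [map_one, MulAut.one_apply]
        exact hy
      inv_mem' := by
        intro a ha y hy
        refine hstab (act f a) ha _ ?_
        rw [map_inv, MulAut.apply_inv_self]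
        exact hy }
  have hMmem : ∀ g, g ∈ M ↔ ∀ y ∈ Y, act f g y ∈ Y := fun g => Iff.rfl
  have hYM : ∀ y ∈ Y, (f y : G) ∈ M := by
    intro y hy z hz
    rw [act_coe, MulAut.conj_apply]
    exact mul_mem (mul_mem hy hz) (inv_mem hy)
  have hM : M ≠ ⊤ := by
    intro hM
    have hYn : Y.Normal := by
      refine ⟨fun y hy s => ?_⟩
      have h1 : (f s : G) ∈ M := by rw [hM]; exact mem_top _
      have h2 := h1 y hy
      rwa [act_coe, MulAut.conj_apply] at h2
    have hsS : IsSimpleGroup S := (MulEquiv.isSimpleGroup_congr f).2 hs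
    rcases hYn.eq_bot_or_eq_top with h1 | h1
    · rw [h1, mem_bot] at hm
      apply hmx
      rw [hm]
      simp
    · exact hYt h1
  refine h.not_of_prime hp (x := (f x : G)) (by rw [orderOf_coe, MulEquiv.orderOf_eq, hx]) ?_ hM ?_ (hYM m hm) ?_
  · intro h1
    exact hpp (h1.trans (Subgroup.card_dvd_of_injective (act f) (act_injective f hc)))
  · intro g hg
    exact hC _ (act_comm f hg)
  · intro h1
    apply hmx
    obtain ⟨k, hk⟩ := mem_zpowers_iff.1 h1
    refine mem_zpowers_iff.2 ⟨k, ?_⟩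
    apply f.injective
    apply Subtype.ext
    simpa using hk

end Cfsg.Agent.H480
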