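import Cfsg.Agent.H480.PslTwoOut
import Cfsg.Agent.ClassicalGeometry.SL2Order

/-!
# Nilpotent minimal covers: `PSL₂(q)`, `q - 1` a power of two (helper480, S3925, S3926)
-/

set_option autoImplicit false

namespace Cfsg.Agent.H480.PslTwo

open Subgroup Matrix
open Cfsg.Agent.ClassicalGeometry.AutPSL.Root Cfsg.Agent.ClassicalGeometry.AutPSL.Auto
  Cfsg.Agent.ClassicalGeometry.AutPSL.Main
open Cfsg.Agent.ClassicalGeometry.AutPSL.SylowU

universe u v

variable {F : Type v} [Field F]

/-- an eigenvalue in the field -/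
theorem exists_eigen [Fintype F] {Y : Matrix.SpecialLinearGroup (Fin 2) F} (hY : Y ^ (Fintype.card F - 1) = 1) :
    ∃ l : F, l ^ 2 - (Y 0 0 + Y 1 1) * l + 1 = 0 := by
  classical
  have h1 : (Y.1 : Matrix (Fin 2) (Fin 2) F) ^ Fintype.card F = Y.1 := by
    have h2 : Y ^ Fintype.card F = Y := by
      have h3 : Fintype.card F = Fintype.card F - 1 + 1 := by
        have := Fintype.card_pos (α := F)
        omega
      rw [h3, pow_succ, hY, one_mul]
    have h4 : (Y ^ Fintype.card F).1 = Y.1 := congrArg Subtype.val h2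
    exact (Matrix.SpecialLinearGroup.coe_pow Y _).symm.trans h4
  let φ : Polynomial F →* F := (Matrix.detMonoidHom (n := Fin 2) (R := F)).comp
    ((Polynomial.aeval (Y.1 : Matrix (Fin 2) (Fin 2) F) : Polynomial F →ₐ[F] _) : Polynomial F →* _)
  have hφ : φ (Polynomial.X ^ Fintype.card F - Polynomial.X) = 0 := by
    change Matrix.det (Polynomial.aeval (Y.1 : Matrix (Fin 2) (Fin 2) F) (Polynomial.X ^ Fintype.card F - Polynomial.X)) = 0
    rw [map_sub, map_pow, Polynomial.aeval_X, h1, sub_self, det_zero]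
  have hprod : (Polynomial.X ^ Fintype.card F - Polynomial.X : Polynomial F) =
      ∏ a : F, (Polynomial.X - Polynomial.C a) := by
    have hm : (Polynomial.X ^ Fintype.card F - Polynomial.X : Polynomial F).Monic :=
      Polynomial.monic_X_pow_sub (by
        rw [Polynomial.degree_X]
        exact_mod_cast Fintype.one_lt_card)
    have h2 := Polynomial.prod_multiset_X_sub_C_of_monic_of_roots_card_eq hm (by
      rw [FiniteField.roots_X_pow_card_sub_X, FiniteField.X_pow_card_sub_X_natDegree_eq F Fintype.one_lt_card]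
      rfl)
    rw [FiniteField.roots_X_pow_card_sub_X] at h2
    exact h2.symm
  rw [hprod, map_prod, Finset.prod_eq_zero_iff] at hφ
  obtain ⟨l, -, hl⟩ := hφ
  refine ⟨l, ?_⟩
  change Matrix.det (Polynomial.aeval (Y.1 : Matrix (Fin 2) (Fin 2) F) (Polynomial.X - Polynomial.C l)) = 0 at hl
  rw [map_sub, Polynomial.aeval_X, Polynomial.aeval_C, det_fin_two] at hl
  have hdet := det2 Y
  simp [Matrix.algebraMap_matrix_apply] at hl
  linear_combination hl - hdet

/-- an element with an eigenvalue is conjugate to an upper triangular matrix -/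
theorem exists_conj {Y : Matrix.SpecialLinearGroup (Fin 2) F} {l : F} (hl : l ^ 2 - (Y 0 0 + Y 1 1) * l + 1 = 0) :
    ∃ h : Matrix.SpecialLinearGroup (Fin 2) F, (h⁻¹ * Y * h : Matrix.SpecialLinearGroup (Fin 2) F) 1 0 = 0 := by
  by_cases hc : Y 1 0 = 0
  · exact ⟨1, by rw [inv_one, one_mul, mul_one, hc]⟩
  · have hdet := det2 Y
    obtain ⟨h, h00, h01, h10, h11⟩ : ∃ h : Matrix.SpecialLinearGroup (Fin 2) F,
        h 0 0 = (l - Y 1 1) / Y 1 0 ∧ h 0 1 = -1 ∧ h 1 0 = 1 ∧ h 1 1 = 0 :=
      ⟨⟨!![(l - Y 1 1) / Y 1 0, -1; 1, 0], by simp [det_fin_two]⟩, rfl, rfl, rfl, rfl⟩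
    refine ⟨h, ?_⟩
    simp only [coe_mul', inv10, inv11, h00, h10]
    field_simp
    linear_combination hl + hdet

/-- a nilpotent subgroup meeting `U` is in `U` -/
theorem le_of_meet {S : Type*} [Group S] {U : Subgroup S} (hU : ∀ w ∈ U, w ≠ 1 → ∀ g, g * w = w * g → g ∈ U)
    {A : Subgroup S} (hA : Group.IsNilpotent ↥A) {u : S} (hu : u ∈ A) (huU : u ∈ U) (hu1 : u ≠ 1) : A ≤ U := by
  have hnt : Nontrivial ↥A := ⟨⟨⟨u, hu⟩, 1, fun h => hu1 (congrArg Subtype.val h)⟩⟩
  have h1 := Group.IsNilpotent.center_ne_bot ↥A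
  obtain ⟨⟨z, hz⟩, hz1⟩ := Subgroup.ne_bot_iff_exists_ne_one.1 h1
  have hzc := mem_center_iff.1 hz
  have hz1' : (z : S) ≠ 1 := fun h => hz1 (Subtype.ext (Subtype.ext h))
  have hzU : (z : S) ∈ U := hU u huU hu1 _ (congrArg Subtype.val (hzc ⟨u, hu⟩)).symm
  intro a ha
  exact hU z hzU hz1' a (congrArg Subtype.val (hzc ⟨a, ha⟩))

/-- a self-centralising subgroup is a member -/
theorem member_of_cc {S : Type*} [Group S] {U : Subgroup S}
    (hU : ∀ w ∈ U, w ≠ 1 → ∀ g, g * w = w * g → g ∈ U) (hU1 : ∃ u ∈ U, u ≠ 1) (hUt : U ≠ ⊤)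
    {𝓐 : Finset (Subgroup S)} (h : NMC 𝓐) : U ∈ 𝓐 := by
  obtain ⟨u, hu, hu1⟩ := hU1
  obtain ⟨A, hA, huA⟩ := h.cov.2 u
  have hAU := le_of_meet hU (h.nil A hA) huA hu hu1
  have hUA : U ≤ A := by
    intro v hv
    by_cases hv1 : v = 1
    · rw [hv1]
      exact one_mem _
    · obtain ⟨B, hB, hvB⟩ := h.cov.2 v
      rw [h.eq_of_le hA hB hUt hAU (le_of_meet hU (h.nil B hB) hvB hv hv1)]
      exact hvB
  rw [le_antisymm hUA hAU]
  exact hA

theorem two_pow_card {F : Type v} [Field F] [Fintype F] (p : ℕ) [hp : Fact p.Prime] [CharP F p] {k : ℕ}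
    (hk : Fintype.card F - 1 = 2 ^ k) (h5 : 5 ≤ Fintype.card F) {Y : Matrix.SpecialLinearGroup (Fin 2) F} {j : ℕ}
    (hY : Y ^ 2 ^ j = 1) : Y ^ (Fintype.card F - 1) = 1 := by
  have hk2 : 2 ≤ k := by
    by_contra h
    have h1 : k = 0 ∨ k = 1 := by omega
    rcases h1 with rfl | rfl
    · norm_num at hk; omega
    · norm_num at hk; omega
  obtain ⟨k, rfl⟩ := Nat.exists_eq_add_of_le hk2
  have hsq : Y ^ 2 = 1 → Y ^ (Fintype.card F - 1) = 1 := by
    intro h
    rw [hk, pow_add, pow_mul, show 2 ^ 2 = 2 * 2 from rfl, pow_mul, h, one_pow, one_pow]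
  rcases ClassicalGeometry.SL2Order.pow_cases rfl p Y with h | h | h
  · exact h
  · apply hsq
    have h1 := Nat.dvd_gcd (orderOf_dvd_of_pow_eq_one hY) (orderOf_dvd_of_pow_eq_one h)
    apply orderOf_dvd_iff_pow_eq_one.1
    refine h1.trans ?_
    have h2 : Fintype.card F + 1 = 2 * (2 * 2 ^ k + 1) := by
      have : Fintype.card F = 2 ^ (2 + k) + 1 := by omega
      rw [this, pow_add]
      ring
    rw [h2]
    have h3 : (2 ^ j).Coprime (2 * 2 ^ k + 1) := Nat.Coprime.pow_left j (by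
      rw [Nat.coprime_two_left]
      exact ⟨_, rfl⟩)
    exact (Nat.Coprime.coprime_dvd_left (Nat.gcd_dvd_left _ _) h3).dvd_of_dvd_mul_right (Nat.gcd_dvd_right _ _)
  · apply hsq
    have h1 := Nat.dvd_gcd (orderOf_dvd_of_pow_eq_one hY) (orderOf_dvd_of_pow_eq_one h)
    apply orderOf_dvd_iff_pow_eq_one.1
    refine h1.trans ?_
    have hp2 : p ≠ 2 := by
      rintro rfl
      obtain ⟨n, -, hn⟩ := FiniteField.card F 2
      have h2 : Even (Fintype.card F) := by
        rw [hn]
        exact Nat.even_pow.2 ⟨even_two, n.pos.ne'⟩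
      have h3 : Even (Fintype.card F - 1) := by
        rw [hk, pow_add]
        exact ⟨2 * 2 ^ k, by ring⟩
      obtain ⟨a, ha⟩ := h2
      obtain ⟨b, hb⟩ := h3
      omega
    have h3 : (2 ^ j).Coprime p := Nat.Coprime.pow_left j (by
      rw [Nat.coprime_two_left]
      exact hp.1.odd_of_ne_two hp2)
    exact (Nat.Coprime.coprime_dvd_left (Nat.gcd_dvd_left _ _) h3).dvd_of_dvd_mul_right (Nat.gcd_dvd_right _ _)

/-- **`PSL₂(q)`, `q - 1` a power of two.** -/
theorem not_nmc_psl [Fintype F] {k : ℕ} (hk : Fintype.card F - 1 = 2 ^ k) (h5 : 5 ≤ Fintype.card F)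
    {𝓐 : Finset (Subgroup (Matrix.ProjectiveSpecialLinearGroup (Fin 2) F))} (hA : NMC 𝓐) : False := by
  classical
  obtain ⟨p, hp⟩ := CharP.exists F
  have hpf : Fact p.Prime := ⟨CharP.char_is_prime F p⟩
  obtain ⟨P, hP⟩ := exists_sylow (F := F) 2 p
  have hk2 : 2 ≤ k := by
    by_contra h
    have h1 : k = 0 ∨ k = 1 := by omega
    rcases h1 with rfl | rfl
    · norm_num at hk; omega
    · norm_num at hk; omega
  have hPc : ∀ w ∈ (P : Subgroup (Matrix.ProjectiveSpecialLinearGroup (Fin 2) F)), w ≠ 1 → ∀ g, g * w = w * g →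
      g ∈ (P : Subgroup (Matrix.ProjectiveSpecialLinearGroup (Fin 2) F)) := by
    intro w hw hw1 g hg
    rw [hP] at hw ⊢
    obtain ⟨s, rfl⟩ := mem_map_upper.1 hw
    obtain ⟨g, rfl⟩ := pr_surjective g
    obtain ⟨t, ht⟩ := comm_xx (s := s) (by
      rintro rfl
      exact hw1 (by rw [xx_zero, map_one])) hg
    exact mem_map_upper.2 ⟨t, ht⟩
  have hP1 : ∃ u ∈ (P : Subgroup (Matrix.ProjectiveSpecialLinearGroup (Fin 2) F)), u ≠ 1 := by
    refine ⟨pr (xx 1), by rw [hP]; exact mem_map_upper.2 ⟨1, rfl⟩, ?_⟩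
    rw [← map_one pr, Ne, pr_eq_iff]
    rintro (h | h)
    · have e := congrArg (fun A : Matrix.SpecialLinearGroup (Fin 2) F => A 0 1) h
      simp at e
    · have e := congrArg (fun A : Matrix.SpecialLinearGroup (Fin 2) F => A 0 1) h
      simp at e
  have hw : pr (ww F) ∉ normalizer ((P : Subgroup (Matrix.ProjectiveSpecialLinearGroup (Fin 2) F)) : Set (Matrix.ProjectiveSpecialLinearGroup (Fin 2) F)) := by
    rw [hP, norm_iff, ww10]
    exact neg_ne_zero.2 one_ne_zero
  -- all Sylow subgroups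
  have hR : ∀ R : Sylow p (Matrix.ProjectiveSpecialLinearGroup (Fin 2) F),
      normalizer ((R : Subgroup (Matrix.ProjectiveSpecialLinearGroup (Fin 2) F)) : Set (Matrix.ProjectiveSpecialLinearGroup (Fin 2) F)) ≠ ⊤ := by
    intro R hR
    have h1 : ∀ Q : Sylow p (Matrix.ProjectiveSpecialLinearGroup (Fin 2) F), Q = R := by
      intro Q
      obtain ⟨g, rfl⟩ := MulAction.exists_smul_eq (Matrix.ProjectiveSpecialLinearGroup (Fin 2) F) R Q
      have hg : g ∈ normalizer ((R : Subgroup (Matrix.ProjectiveSpecialLinearGroup (Fin 2) F)) :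
        Set (Matrix.ProjectiveSpecialLinearGroup (Fin 2) F)) := by rw [hR]; exact mem_top g
      exact Sylow.smul_eq_iff_mem_normalizer.2 hg
    exact hw (Sylow.smul_eq_iff_mem_normalizer.1 ((h1 _).trans (h1 P).symm))
  have hmem : ∀ R : Sylow p (Matrix.ProjectiveSpecialLinearGroup (Fin 2) F),
      (R : Subgroup (Matrix.ProjectiveSpecialLinearGroup (Fin 2) F)) ∈ 𝓐 := by
    intro R
    obtain ⟨g, rfl⟩ := MulAction.exists_smul_eq (Matrix.ProjectiveSpecialLinearGroup (Fin 2) F) P R
    have hmg : ∀ x, x ∈ ((g • P : Sylow p _) : Subgroup (Matrix.ProjectiveSpecialLinearGroup (Fin 2) F)) ↔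
        g⁻¹ * x * g ∈ (P : Subgroup (Matrix.ProjectiveSpecialLinearGroup (Fin 2) F)) := by
      intro x
      rw [Sylow.coe_subgroup_smul, mem_pointwise_smul_iff_inv_smul_mem]
      simp [MulAut.smul_def]
    refine member_of_cc ?_ ?_ ?_ hA
    · intro w hw hw1 x hx
      rw [hmg] at hw ⊢
      refine hPc _ hw ?_ _ ?_
      · intro h
        apply hw1
        have : w = g * (g⁻¹ * w * g) * g⁻¹ := by group
        rw [this, h]
        group
      · calc g⁻¹ * x * g * (g⁻¹ * w * g) = g⁻¹ * (x * w) * g := by group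
          _ = g⁻¹ * (w * x) * g := by rw [hx]
          _ = _ := by group
    · obtain ⟨u, hu, hu1⟩ := hP1
      refine ⟨g * u * g⁻¹, ?_, ?_⟩
      · rw [hmg]
        have : g⁻¹ * (g * u * g⁻¹) * g = u := by group
        rwa [this]
      · intro h
        apply hu1
        have : u = g⁻¹ * (g * u * g⁻¹) * g := by group
        rw [this, h]
        group
    · intro h
      exact hR (g • P) (top_le_iff.1 (h.ge.trans le_normalizer))
  -- the member containing the involution
  have hi : ∃ i : Fˣ, i ^ 2 = -1 := by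
    obtain ⟨t, ht⟩ := IsCyclic.exists_generator (α := Fˣ)
    have hord : orderOf t = 2 ^ k := by
      rw [orderOf_eq_card_of_forall_mem_zpowers ht, Nat.card_units, Nat.card_eq_fintype_card, hk]
    refine ⟨t ^ 2 ^ (k - 2), ?_⟩
    have h1 : (t ^ 2 ^ (k - 2)) ^ 2 = t ^ 2 ^ (k - 1) := by
      rw [← pow_mul, ← pow_succ, show k - 2 + 1 = k - 1 by omega]
    rw [h1]
    have h2 : (t ^ 2 ^ (k - 1)) ^ 2 = 1 := by
      rw [← pow_mul, ← pow_succ, show k - 1 + 1 = k by omega, ← hord, pow_orderOf_eq_one]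
    have h3 : t ^ 2 ^ (k - 1) ≠ 1 := by
      intro h
      have h4 := Nat.le_of_dvd (by positivity) (orderOf_dvd_of_pow_eq_one h)
      rw [hord] at h4
      exact absurd h4 (not_le.2 (Nat.pow_lt_pow_right (by norm_num) (by omega)))
    have h4 : ((t ^ 2 ^ (k - 1) : Fˣ) : F) ^ 2 = 1 := by
      rw [← Units.val_pow_eq_pow_val, h2, Units.val_one]
    rcases sq_eq_one_iff.1 h4 with h5 | h5
    · exact absurd (Units.ext h5) h3
    · exact Units.ext (by rw [h5]; simp)
  obtain ⟨i, hi⟩ := hi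
  have hi' : (i : F) * i = -1 := by
    rw [← pow_two, ← Units.val_pow_eq_pow_val, hi]
    simp
  have hinv : ((i⁻¹ : Fˣ) : F) = -i := by
    have h1 : (i : F) * -i = 1 := by rw [mul_neg, hi', neg_neg]
    rw [Units.val_inv_eq_inv_val]
    exact (eq_inv_of_mul_eq_one_right h1).symm
  have h2 : (2 : F) ≠ 0 := by
    rw [ClassicalGeometry.PSLTorus.two_ne_zero_iff_odd]
    have : Fintype.card F = 2 ^ k + 1 := by omega
    rw [this]
    exact (Nat.even_pow.2 ⟨even_two, by omega⟩).add_one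
  obtain ⟨A, hAA, hiA⟩ := hA.cov.2 (pr (dd i))
  have hz1 : pr (dd i) ≠ 1 := by
    rw [← map_one pr, Ne, pr_eq_iff]
    rintro (h | h)
    · have e := congrArg (fun A : Matrix.SpecialLinearGroup (Fin 2) F => A 0 0) h
      simp only [dd00, Matrix.SpecialLinearGroup.coe_one, one_apply_eq] at e
      rw [e, mul_one] at hi'
      apply h2
      linear_combination hi'
    · have e := congrArg (fun A : Matrix.SpecialLinearGroup (Fin 2) F => A 0 0) h
      simp only [coe_neg', dd00, Matrix.SpecialLinearGroup.coe_one, one_apply_eq] at e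
      rw [e] at hi'
      apply h2
      linear_combination hi'
  -- the centraliser of the involution is a 2-group
  have hcz : ∀ y, y * pr (dd i) = pr (dd i) * y → y ^ 2 ^ k = 1 := by
    intro y hy
    obtain ⟨Y, rfl⟩ := pr_surjective y
    rw [← map_mul, ← map_mul, pr_eq_iff] at hy
    have hdet := det2 Y
    have hi0 : (i : F) ≠ 0 := i.ne_zero
    have h2i : (2 : F) * i ≠ 0 := mul_ne_zero h2 hi0
    rcases hy with hy | hy
    · have e01 := congrArg (fun A : Matrix.SpecialLinearGroup (Fin 2) F => A 0 1) hy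
      have e10 := congrArg (fun A : Matrix.SpecialLinearGroup (Fin 2) F => A 1 0) hy
      simp only [coe_mul', dd00, dd01, dd10, dd11, hinv] at e01 e10
      have h01 : Y 0 1 = 0 := by
        apply (mul_eq_zero.1 (show (2 * (i : F)) * Y 0 1 = 0 by linear_combination -e01)).resolve_left h2i
      have h10 : Y 1 0 = 0 := by
        apply (mul_eq_zero.1 (show (2 * (i : F)) * Y 1 0 = 0 by linear_combination e10)).resolve_left h2i
      rw [h01, zero_mul, sub_zero] at hdet
      have h00 : Y 0 0 ≠ 0 := left_ne_zero_of_mul_eq_one hdet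
      have hYd : Y = dd (Units.mk0 _ h00) := by
        refine sl_ext2 ?_ ?_ ?_ ?_
        · simp
        · rw [h01, dd01]
        · rw [h10, dd10]
        · rw [dd11, Units.val_inv_eq_inv_val]
          exact eq_inv_of_mul_eq_one_right hdet
      rw [hYd, ← map_pow, dd_pow]
      have h1 : (Units.mk0 _ h00) ^ 2 ^ k = 1 := by
        rw [← hk, ← Nat.card_eq_fintype_card, ← Nat.card_units, pow_card_eq_one']
      rw [h1, dd_one, map_one]
    · have e00 := congrArg (fun A : Matrix.SpecialLinearGroup (Fin 2) F => A 0 0) hy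
      have e11 := congrArg (fun A : Matrix.SpecialLinearGroup (Fin 2) F => A 1 1) hy
      simp only [coe_neg', coe_mul', dd00, dd01, dd10, dd11, hinv] at e00 e11
      have h00 : Y 0 0 = 0 := by
        apply (mul_eq_zero.1 (show (2 * (i : F)) * Y 0 0 = 0 by linear_combination e00)).resolve_left h2i
      have h11 : Y 1 1 = 0 := by
        apply (mul_eq_zero.1 (show (2 * (i : F)) * Y 1 1 = 0 by linear_combination -e11)).resolve_left h2i
      have hYY : Y * Y = -1 := by
        refine sl_ext2 ?_ ?_ ?_ ?_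
        · rw [coe_mul', coe_neg', Matrix.SpecialLinearGroup.coe_one, one_apply_eq, h00]
          linear_combination -hdet + Y 1 1 * h00
        · rw [coe_mul', coe_neg', Matrix.SpecialLinearGroup.coe_one, h00, h11]
          simp
        · rw [coe_mul', coe_neg', Matrix.SpecialLinearGroup.coe_one, h00, h11]
          simp
        · rw [coe_mul', coe_neg', Matrix.SpecialLinearGroup.coe_one, one_apply_eq, h11]
          linear_combination -hdet + Y 1 1 * h00
      have h1 : pr Y ^ 2 = 1 := by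
        rw [pow_two, ← map_mul, hYY, ← map_one pr, pr_eq_iff]
        exact Or.inr rfl
      obtain ⟨m, rfl⟩ := Nat.exists_eq_add_of_le hk2
      rw [show 2 ^ (2 + m) = 2 * (2 * 2 ^ m) by ring, pow_mul, h1, one_pow]
  -- `A` is a 2-group
  have hA2 : ∀ x ∈ A, ∃ n : ℕ, x ^ 2 ^ n = 1 := by
    intro x hx
    obtain ⟨s, t, hst, hs, ht⟩ := exists_parts x Nat.prime_two
    have hzo : (pr (dd i)) ^ 2 = 1 := by
      rw [← map_pow, dd_pow, hi, ← map_one pr, pr_eq_iff]
      right
      exact sl_ext2 (by simp) (by simp) (by simp) (by simp)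
    have hnil := hA.nil A hAA
    have h3 : Commute (⟨x ^ t, A.pow_mem hx t⟩ : ↥A) ⟨pr (dd i), hiA⟩ :=
      Lib.NilpotentCoprime.commute_of_coprime_orderOf (by
        rw [← orderOf_coe, ← orderOf_coe]
        change (orderOf (x ^ t)).Coprime (orderOf (pr (dd i)))
        exact Nat.Coprime.coprime_dvd_right (orderOf_dvd_of_pow_eq_one hzo) ht)
    have h4 := hcz _ (congrArg Subtype.val h3.eq)
    have h5 : x ^ t = 1 := by
      have h6 : orderOf (x ^ t) = 1 := by
        have h7 := Nat.dvd_gcd (dvd_refl (orderOf (x ^ t))) (orderOf_dvd_of_pow_eq_one h4)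
        rw [Nat.Coprime.gcd_eq_one (Nat.Coprime.pow_right k ht)] at h7
        exact Nat.dvd_one.1 h7
      exact orderOf_eq_one_iff.1 h6
    rw [h5, mul_one] at hst
    rw [hst]
    exact hs
  -- 2-elements are in Borel subgroups
  have hfix : ∀ x : Matrix.ProjectiveSpecialLinearGroup (Fin 2) F, (∃ n : ℕ, x ^ 2 ^ n = 1) →
      ∃ R : Sylow p (Matrix.ProjectiveSpecialLinearGroup (Fin 2) F), x ∈ normalizer
        ((R : Subgroup (Matrix.ProjectiveSpecialLinearGroup (Fin 2) F)) : Set (Matrix.ProjectiveSpecialLinearGroup (Fin 2) F)) := by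
    rintro x ⟨n, hn⟩
    obtain ⟨Y, rfl⟩ := pr_surjective x
    have h1 : Y ^ 2 ^ (n + 1) = 1 := by
      rw [← map_pow, ← map_one pr, pr_eq_iff] at hn
      rw [pow_succ, pow_mul]
      rcases hn with h | h
      · rw [h, one_pow]
      · rw [h, neg_one_sq]
    obtain ⟨l, hl⟩ := exists_eigen (two_pow_card p hk h5 h1)
    obtain ⟨h, hh⟩ := exists_conj hl
    refine ⟨pr h • P, ?_⟩
    refine Sylow.smul_eq_iff_mem_normalizer.1 ?_
    rw [← mul_smul]
    have h3 : pr Y * pr h = pr h * pr (h⁻¹ * Y * h) := by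
      rw [map_mul, map_mul, map_inv]
      group
    rw [h3, mul_smul]
    congr 1
    refine Sylow.smul_eq_iff_mem_normalizer.2 ?_
    have h6 : pr (h⁻¹ * Y * h) ∈ normalizer ((P : Subgroup (Matrix.ProjectiveSpecialLinearGroup (Fin 2) F)) :
        Set (Matrix.ProjectiveSpecialLinearGroup (Fin 2) F)) := by
      rw [hP, norm_iff, hh]
    exact h6
  -- counting
  have : Fintype (Sylow p (Matrix.ProjectiveSpecialLinearGroup (Fin 2) F)) := Fintype.ofFinite _
  set 𝓢 : Finset (Subgroup (Matrix.ProjectiveSpecialLinearGroup (Fin 2) F)) :=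
    (Finset.univ : Finset (Sylow p (Matrix.ProjectiveSpecialLinearGroup (Fin 2) F))).image
      (fun R : Sylow p (Matrix.ProjectiveSpecialLinearGroup (Fin 2) F) => (R : Subgroup _)) with hS
  have hSc : 𝓢.card = Fintype.card (Sylow p (Matrix.ProjectiveSpecialLinearGroup (Fin 2) F)) := by
    rw [hS, Finset.card_image_of_injective _ (fun R Q h => Sylow.ext h)]
    rfl
  have hAS : A ∉ 𝓢 := by
    intro h
    obtain ⟨R, -, hR⟩ := Finset.mem_image.1 h
    rw [← hR] at hiA
    obtain ⟨n, hn⟩ := R.isPGroup' ⟨_, hiA⟩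
    have h1 : pr (dd i) ^ p ^ n = 1 := by simpa using congrArg Subtype.val hn
    have hzo : (pr (dd i)) ^ 2 = 1 := by
      rw [← map_pow, dd_pow, hi, ← map_one pr, pr_eq_iff]
      right
      exact sl_ext2 (by simp) (by simp) (by simp) (by simp)
    have hp2 : p ≠ 2 := by
      rintro rfl
      exact h2 (by exact_mod_cast (CharP.cast_eq_zero F 2))
    have h3 := Nat.dvd_gcd (orderOf_dvd_of_pow_eq_one h1) (orderOf_dvd_of_pow_eq_one hzo)
    rw [Nat.Coprime.gcd_eq_one (Nat.Coprime.pow_left n ((Nat.coprime_primes hpf.1 Nat.prime_two).2 hp2))] at h3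
    exact hz1 (orderOf_eq_one_iff.1 (Nat.dvd_one.1 h3))
  have h1 := hA.card_le (insert A 𝓢) ((Finset.univ : Finset (Sylow p (Matrix.ProjectiveSpecialLinearGroup (Fin 2) F))).image
    (fun R : Sylow p (Matrix.ProjectiveSpecialLinearGroup (Fin 2) F) => normalizer ((R : Subgroup (Matrix.ProjectiveSpecialLinearGroup (Fin 2) F)) : Set (Matrix.ProjectiveSpecialLinearGroup (Fin 2) F)))) ?_ ?_ ?_
  · rw [Finset.card_insert_of_notMem hAS, hSc] at h1
    have h3 : ((Finset.univ : Finset (Sylow p (Matrix.ProjectiveSpecialLinearGroup (Fin 2) F))).image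
      (fun R : Sylow p (Matrix.ProjectiveSpecialLinearGroup (Fin 2) F) => normalizer ((R : Subgroup (Matrix.ProjectiveSpecialLinearGroup (Fin 2) F)) : Set (Matrix.ProjectiveSpecialLinearGroup (Fin 2) F)))).card ≤
        Fintype.card (Sylow p (Matrix.ProjectiveSpecialLinearGroup (Fin 2) F)) := Finset.card_image_le
    omega
  · intro X hX
    rcases Finset.mem_insert.1 hX with rfl | hX
    · exact hAA
    · obtain ⟨R, -, rfl⟩ := Finset.mem_image.1 hX
      exact hmem R
  · intro H hH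
    obtain ⟨R, -, rfl⟩ := Finset.mem_image.1 hH
    exact hR R
  · intro X hX x hx
    rcases Finset.mem_insert.1 hX with rfl | hX
    · obtain ⟨R, hR⟩ := hfix x (hA2 x hx)
      exact ⟨_, Finset.mem_image_of_mem _ (Finset.mem_univ R), hR⟩
    · obtain ⟨R, -, rfl⟩ := Finset.mem_image.1 hX
      exact ⟨_, Finset.mem_image_of_mem _ (Finset.mem_univ R), le_normalizer hx⟩

end Cfsg.Agent.H480.PslTwo
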