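import Cfsg.Agent.H480.Cov

/-!
# Noncyclic groups with cyclic proper quotients (helper480, S3926)

* `card_eq_sq` : the abelian case, order `p ^ 2`;
* `exists_fit` : the solvable nonabelian case.
-/

set_option autoImplicit false

namespace Cfsg.Agent.H480

open Subgroup
open scoped commutatorElement

theorem not_isCyclic_of_pow {A : Type*} [Group A] {p : ℕ} (hp : 0 < p) (h : ∀ a : A, a ^ p = 1)
    (hc : p < Nat.card A) : ¬ IsCyclic A := by
  rintro ⟨g, hg⟩
  have h1 : orderOf g = Nat.card A := orderOf_eq_card_of_forall_mem_zpowers hg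
  have h2 := Nat.le_of_dvd hp (orderOf_dvd_of_pow_eq_one (h g))
  omega

section Comm

variable {Q : Type*} [CommGroup Q] [Finite Q]

theorem card_ker_mul_le (p m : ℕ) :
    Nat.card (powMonoidHom (p * m) : Q →* Q).ker ≤
      Nat.card (powMonoidHom p : Q →* Q).ker * Nat.card (powMonoidHom m : Q →* Q).ker := by
  obtain ⟨g, hg⟩ : ∃ g : Q →* Q, g = powMonoidHom m := ⟨_, rfl⟩
  obtain ⟨K, hK⟩ : ∃ K : Subgroup Q, K = (powMonoidHom (p * m) : Q →* Q).ker := ⟨_, rfl⟩
  rw [← hg, ← hK]
  have h1 := Subgroup.card_mul_index (g.ker.subgroupOf K)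
  have h2 : (g.ker.subgroupOf K).index = Nat.card (K.map g) := by
    have h0 := Subgroup.relIndex_ker (K := K) g
    rwa [Subgroup.relIndex] at h0
  have h3 : Nat.card (g.ker.subgroupOf K) ≤ Nat.card g.ker := by
    refine Nat.card_le_card_of_injective (fun x => (⟨((x : K) : Q), x.2⟩ : g.ker)) fun x y hxy => ?_
    have h4 := congrArg Subtype.val hxy
    exact Subtype.ext (Subtype.ext h4)
  have h4 : K.map g ≤ (powMonoidHom p : Q →* Q).ker := by
    rintro _ ⟨x, hx, rfl⟩
    rw [hK] at hx
    have hx' : x ^ (p * m) = 1 := hx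
    rw [hg]
    change (x ^ m) ^ p = 1
    rw [← pow_mul, mul_comm, hx']
  have h5 : Nat.card (K.map g) ≤ Nat.card (powMonoidHom p : Q →* Q).ker :=
    Nat.le_of_dvd Nat.card_pos (Subgroup.card_dvd_of_le h4)
  rw [← h1, h2, mul_comm]
  exact Nat.mul_le_mul h5 h3

theorem exists_prime_card_ker (hnc : ¬ IsCyclic Q) :
    ∃ p : ℕ, p.Prime ∧ p < Nat.card (powMonoidHom p : Q →* Q).ker := by
  by_contra hno
  push Not at hno
  have key : ∀ n : ℕ, 0 < n → Nat.card (powMonoidHom n : Q →* Q).ker ≤ n := by
    intro n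
    induction n using Nat.strong_induction_on with
    | _ n ih =>
      intro hn
      rcases Nat.eq_or_lt_of_le (Nat.succ_le_of_lt hn) with h1 | h1
      · subst h1
        have h2 : (powMonoidHom 1 : Q →* Q).ker = ⊥ := by
          rw [eq_bot_iff]
          intro x hx
          have hx' : x ^ 1 = 1 := hx
          rw [mem_bot, ← hx', pow_one]
        change Nat.card (powMonoidHom 1 : Q →* Q).ker ≤ 1
        rw [h2, card_bot]
      · have hp : (Nat.minFac n).Prime := Nat.minFac_prime (by omega)
        obtain ⟨m, hm⟩ := Nat.minFac_dvd n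
        have hm0 : 0 < m := Nat.pos_of_ne_zero (by
          rintro rfl
          rw [mul_zero] at hm
          omega)
        have hmn : m < n := by
          rw [hm]
          exact lt_mul_of_one_lt_left hm0 hp.one_lt
        have h3 := card_ker_mul_le (Q := Q) (Nat.minFac n) m
        rw [← hm] at h3
        calc _ ≤ _ := h3
          _ ≤ Nat.minFac n * m := Nat.mul_le_mul (hno _ hp) (ih m hmn hm0)
          _ = n := hm.symm
  apply hnc
  classical
  have hf := Fintype.ofFinite Q
  refine isCyclic_of_card_pow_eq_one_le fun n hn => ?_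
  refine le_trans ?_ (key n hn)
  rw [Nat.card_eq_fintype_card, Fintype.card_subtype]
  exact Finset.card_le_card (fun x hx => by
    simp only [Finset.mem_filter, Finset.mem_univ, true_and] at hx ⊢
    exact hx)

/-- A finite noncyclic abelian group all of whose proper quotients are cyclic has order `p ^ 2`. -/
theorem card_eq_sq (hnc : ¬ IsCyclic Q) (hq : ∀ M : Subgroup Q, M ≠ ⊥ → IsCyclic (Q ⧸ M)) :
    ∃ p : ℕ, p.Prime ∧ Nat.card Q = p ^ 2 := by
  obtain ⟨p, hp, hlt⟩ := exists_prime_card_ker hnc
  have hfp : Fact p.Prime := ⟨hp⟩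
  set g : Q →* Q := powMonoidHom p
  have h1 : g.range = ⊥ := by
    by_contra hne
    refine not_isCyclic_of_pow (A := Q ⧸ g.range) hp.pos ?_ ?_ (hq _ hne)
    · intro a
      obtain ⟨x, rfl⟩ := QuotientGroup.mk_surjective a
      rw [← QuotientGroup.mk_pow]
      exact (QuotientGroup.eq_one_iff _).2 ⟨x, rfl⟩
    · have h2 := Subgroup.card_mul_index g.ker
      rw [Subgroup.index_ker] at h2
      have h3 := Subgroup.card_mul_index g.range
      have h4 : Nat.card (Q ⧸ g.range) = Nat.card g.ker := by
        have h5 : Nat.card g.range * g.range.index = Nat.card g.range * Nat.card g.ker := by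
          rw [h3, ← h2, mul_comm]
        exact Nat.eq_of_mul_eq_mul_left Nat.card_pos h5
      rw [h4]
      exact hlt
  have h2 : ∀ x : Q, x ^ p = 1 := fun x => by
    have h3 : g x ∈ g.range := ⟨x, rfl⟩
    rw [h1, mem_bot] at h3
    exact h3
  have h3 : IsPGroup p Q := fun x => ⟨1, by rw [pow_one]; exact h2 x⟩
  obtain ⟨k, hk⟩ := IsPGroup.iff_card.1 h3
  have h4 : Nat.card g.ker = Nat.card Q := by
    have : g.ker = ⊤ := by
      rw [eq_top_iff]
      intro x _
      exact h2 x
    rw [this, card_top]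
  rw [h4, hk] at hlt
  have hk2 : 2 ≤ k := by
    by_contra hlt2
    have : k ≤ 1 := by omega
    have h5 : p ^ k ≤ p ^ 1 := Nat.pow_le_pow_right hp.pos this
    rw [pow_one] at h5
    omega
  refine ⟨p, hp, ?_⟩
  rcases Nat.eq_or_lt_of_le hk2 with h5 | h5
  · rw [hk, ← h5]
  · exfalso
    have hnt : Nontrivial Q := by
      rw [← Finite.one_lt_card_iff_nontrivial, hk]
      exact Nat.one_lt_pow (by omega) hp.one_lt
    obtain ⟨x, hx⟩ := exists_ne (1 : Q)
    have h6 : orderOf x = p := orderOf_eq_prime (h2 x) hx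
    refine not_isCyclic_of_pow (A := Q ⧸ zpowers x) hp.pos ?_ ?_ (hq (zpowers x) (by
      rw [Ne, zpowers_eq_bot]
      exact hx))
    · intro a
      obtain ⟨y, rfl⟩ := QuotientGroup.mk_surjective a
      rw [← QuotientGroup.mk_pow, h2, QuotientGroup.mk_one]
    · have h7 := Subgroup.card_mul_index (zpowers x)
      rw [Nat.card_zpowers, h6, hk] at h7
      change p < (zpowers x).index
      have h8 : p ^ k = p * p ^ (k - 1) := by
        rw [← pow_succ']
        congr 1
        omega
      rw [h8] at h7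
      rw [Nat.eq_of_mul_eq_mul_left hp.pos h7]
      calc p = p ^ 1 := (pow_one p).symm
        _ < p ^ (k - 1) := Nat.pow_lt_pow_right hp.one_lt (by omega)

end Comm

section NonComm

variable {Q : Type*} [Group Q] [Finite Q]

/-- A finite solvable nonabelian group `Q` all of whose proper quotients are cyclic: the derived group `E` is
nontrivial, and there is a proper normal subgroup `D` containing all nilpotent subgroups which meet `E`. -/
theorem exists_fit (hsol : Group.IsSolvable Q) (hna : ¬ ∀ a b : Q, a * b = b * a)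
    (hq : ∀ M : Subgroup Q, ∀ _ : M.Normal, M ≠ ⊥ → IsCyclic (Q ⧸ M)) :
    ∃ E D : Subgroup Q, E.Normal ∧ E ≠ ⊥ ∧ D ≠ ⊤ ∧
      ∀ B : Subgroup Q, Group.IsNilpotent ↥B → ∀ x ∈ B, x ∈ E → x ≠ 1 → B ≤ D := by
  classical
  set E := commutator Q with hE
  have hEn : E.Normal := by rw [hE]; infer_instance
  have hE1 : E ≠ ⊥ := by
    intro h
    apply hna
    intro a b
    have h1 : ⁅a, b⁆ ∈ E := commutator_mem_commutator (mem_top a) (mem_top b)
    rw [h, mem_bot, commutatorElement_eq_one_iff_mul_comm] at h1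
    exact h1
  -- `E` is the least nontrivial normal subgroup
  have hleast : ∀ M : Subgroup Q, M.Normal → M ≠ ⊥ → E ≤ M := by
    intro M hM hM1
    have hc := hq M hM hM1
    have hc' : IsMulCommutative (Q ⧸ M) := IsCyclic.isMulCommutative
    rw [hE, _root_.commutator_def, commutator_le]
    intro a _ b _
    rw [← QuotientGroup.eq_one_iff]
    rw [show ((⁅a, b⁆ : Q) : Q ⧸ M) = ⁅(a : Q ⧸ M), (b : Q ⧸ M)⁆ from rfl,
      commutatorElement_eq_one_iff_mul_comm]
    exact hc'.is_comm.comm _ _
  -- `E` is abelian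
  have hEc : ∀ a ∈ E, ∀ b ∈ E, a * b = b * a := by
    have h1 : ⁅E, E⁆ = ⊥ := by
      by_contra hne
      have h2 : E ≤ ⁅E, E⁆ := hleast _ inferInstance hne
      have h3 : ∀ n, E ≤ derivedSeries Q n := by
        intro n
        induction n with
        | zero => exact le_top
        | succ n ih =>
          rw [derivedSeries_succ]
          exact h2.trans (commutator_mono ih ih)
      obtain ⟨n, hn⟩ := hsol.solvable
      have h4 := h3 n
      rw [hn, le_bot_iff] at h4
      exact hE1 h4
    intro a ha b hb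
    have h2 := commutator_mem_commutator ha hb
    rw [h1, mem_bot, commutatorElement_eq_one_iff_mul_comm] at h2
    exact h2
  -- the prime
  obtain ⟨p, hp, hpE⟩ := Nat.exists_prime_and_dvd (n := Nat.card E) (by
    intro h
    exact hE1 (Subgroup.eq_bot_of_card_eq E h))
  have hfp : Fact p.Prime := ⟨hp⟩
  have hEp : ∀ x ∈ E, x ^ p = 1 := by
    let T : Subgroup Q :=
      { carrier := {x | x ∈ E ∧ x ^ p = 1}
        mul_mem' := by
          rintro a b ⟨ha, ha'⟩ ⟨hb, hb'⟩
          refine ⟨E.mul_mem ha hb, ?_⟩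
          rw [(show Commute a b from hEc a ha b hb).mul_pow, ha', hb', mul_one]
        one_mem' := ⟨E.one_mem, one_pow p⟩
        inv_mem' := by
          rintro a ⟨ha, ha'⟩
          exact ⟨E.inv_mem ha, by rw [inv_pow, ha', inv_one]⟩ }
    have hT : T.Normal := ⟨by
      rintro x ⟨hx, hx'⟩ g
      exact ⟨hEn.conj_mem x hx g, by rw [conj_pow, hx']; group⟩⟩
    have hT1 : T ≠ ⊥ := by
      intro h
      obtain ⟨x, hx⟩ := exists_prime_orderOf_dvd_card' (G := E) p hpE
      have h1 : (x : Q) ∈ T := ⟨x.2, by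
        have := pow_orderOf_eq_one x
        rw [hx] at this
        simpa using congrArg Subtype.val this⟩
      rw [h, mem_bot] at h1
      have h2 : x = 1 := Subtype.ext h1
      rw [h2, orderOf_one] at hx
      exact hp.one_lt.ne hx
    intro x hx
    exact (hleast T hT hT1 hx).2
  set D := centralizer (E : Set Q) with hD
  have hDn : D.Normal := by rw [hD]; infer_instance
  have hED : E ≤ D := by
    intro x hx
    rw [hD, mem_centralizer_iff]
    intro y hy
    exact hEc y hy x hx
  have hDtop : D ≠ ⊤ := by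
    intro h
    apply hna
    have hc := hq E hEn hE1
    have h1 : (QuotientGroup.mk' E).ker ≤ center Q := by
      rw [QuotientGroup.ker_mk']
      intro x hx
      rw [mem_center_iff]
      intro y
      have h2 : y ∈ D := by rw [h]; exact mem_top y
      rw [hD, mem_centralizer_iff] at h2
      exact (h2 x hx).symm
    exact (MonoidHom.isMulCommutative_of_isCyclic_of_ker_le_center (QuotientGroup.mk' E) h1).is_comm.comm
  -- `D` is abelian
  have hDc : ∀ a ∈ D, ∀ b ∈ D, a * b = b * a := by
    have hc := hq E hEn hE1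
    have hc2 : IsCyclic ↥((QuotientGroup.mk' E).comp D.subtype).range := inferInstance
    have h1 : (((QuotientGroup.mk' E).comp D.subtype).rangeRestrict).ker ≤ center ↥D := by
      intro x hx
      rw [MonoidHom.ker_rangeRestrict, MonoidHom.mem_ker, MonoidHom.comp_apply, ← MonoidHom.mem_ker,
        QuotientGroup.ker_mk'] at hx
      rw [mem_center_iff]
      intro y
      have h2 : (y : Q) ∈ centralizer (E : Set Q) := y.2
      rw [mem_centralizer_iff] at h2
      exact Subtype.ext (h2 x hx).symm
    intro a ha b hb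
    exact congrArg Subtype.val
      ((MonoidHom.isMulCommutative_of_isCyclic_of_ker_le_center _ h1).is_comm.comm (⟨a, ha⟩ : ↥D) ⟨b, hb⟩)
  -- `D` is a `p`-group
  have hDp : ∀ x ∈ D, (orderOf x).Coprime p → x = 1 := by
    let m := orderOf (1 : Q)
    let T : Subgroup Q :=
      { carrier := {x | x ∈ D ∧ (orderOf x).Coprime p}
        mul_mem' := by
          rintro a b ⟨ha, ha'⟩ ⟨hb, hb'⟩
          refine ⟨D.mul_mem ha hb, ?_⟩
          exact Nat.Coprime.coprime_dvd_left (Commute.orderOf_mul_dvd_mul_orderOf (hDc a ha b hb))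
            (Nat.Coprime.mul_left ha' hb')
        one_mem' := ⟨D.one_mem, by rw [orderOf_one]; exact Nat.coprime_one_left p⟩
        inv_mem' := by
          rintro a ⟨ha, ha'⟩
          exact ⟨D.inv_mem ha, by rw [orderOf_inv]; exact ha'⟩ }
    have hT : T.Normal := ⟨by
      rintro x ⟨hx, hx'⟩ g
      refine ⟨hDn.conj_mem x hx g, ?_⟩
      have : g * x * g⁻¹ = MulAut.conj g x := by simp
      rw [this, show orderOf (MulAut.conj g x) = orderOf x from
        orderOf_injective (MulAut.conj g).toMonoidHom (MulAut.conj g).injective x]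
      exact hx'⟩
    have hT1 : T = ⊥ := by
      by_contra hne
      have h1 := hleast T hT hne
      obtain ⟨⟨x, hxE⟩, hx1'⟩ := Subgroup.ne_bot_iff_exists_ne_one.1 hE1
      have hx1 : x ≠ 1 := fun h => hx1' (Subtype.ext h)
      have h2 := (h1 hxE).2
      rw [orderOf_eq_prime (hEp x hxE) hx1, Nat.coprime_self] at h2
      exact hp.one_lt.ne' h2
    intro x hx hxp
    have h1 : x ∈ T := ⟨hx, hxp⟩
    rw [hT1, mem_bot] at h1
    exact h1
  -- the centralizer of an element of `E` is in `D`
  have hCx : ∀ x ∈ E, x ≠ 1 → ∀ y : Q, y * x = x * y → y ∈ D := by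
    intro x hx hx1 y hy
    have hC : E ≤ centralizer ({x} : Set Q) := by
      intro e he
      rw [mem_centralizer_singleton_iff]
      exact hEc e he x hx
    have hCn : (centralizer ({x} : Set Q)).Normal := by
      refine _root_.Subgroup.Normal.of_commutator_le _ ?_
      rw [← hE]
      exact hC
    have h1 : (E ⊓ centralizer ((centralizer ({x} : Set Q) : Subgroup Q) : Set Q)).Normal := inferInstance
    have h2 : E ⊓ centralizer ((centralizer ({x} : Set Q) : Subgroup Q) : Set Q) ≠ ⊥ := by
      intro h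
      have h3 : x ∈ E ⊓ centralizer ((centralizer ({x} : Set Q) : Subgroup Q) : Set Q) := by
        refine mem_inf.2 ⟨hx, ?_⟩
        rw [mem_centralizer_iff]
        intro c hc
        exact mem_centralizer_singleton_iff.1 hc
      rw [h, mem_bot] at h3
      exact hx1 h3
    have h3 := hleast _ h1 h2
    rw [hD, mem_centralizer_iff]
    intro e he
    have h4 := (mem_inf.1 (h3 he)).2
    rw [mem_centralizer_iff] at h4
    exact (h4 y (mem_centralizer_singleton_iff.2 hy)).symm
  -- `p`-subgroups are in `D`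
  have hPD : ∀ B : Subgroup Q, IsPGroup p ↥B → B ≤ D := by
    intro B hB
    have hEP : IsPGroup p ↥E := fun x => ⟨1, by
      rw [pow_one]
      exact Subtype.ext (hEp x x.2)⟩
    -- `B` acts on `E`
    let act : MulAction ↥B ↥E :=
      { smul := fun t d => ⟨t * d * (t : Q)⁻¹, hEn.conj_mem d d.2 t⟩
        one_smul := fun d => Subtype.ext (by
          show ((1 : ↥B) : Q) * d * ((1 : ↥B) : Q)⁻¹ = d
          simp)
        mul_smul := fun s t d => Subtype.ext (by
          show ((s * t : ↥B) : Q) * d * ((s * t : ↥B) : Q)⁻¹ = s * (t * d * (t : Q)⁻¹) * (s : Q)⁻¹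
          simp [mul_assoc]) }
    have hsmul : ∀ (t : ↥B) (d : ↥E), ((t • d : ↥E) : Q) = t * d * (t : Q)⁻¹ := fun t d => rfl
    have h1 : (1 : ↥E) ∈ MulAction.fixedPoints ↥B ↥E := by
      intro t
      apply Subtype.ext
      rw [hsmul]; simp
    obtain ⟨b, hb, hb1⟩ := hB.exists_fixed_point_of_prime_dvd_card_of_fixed_point ↥E hpE h1
    intro t ht
    refine hCx b b.2 (fun h => hb1 (Subtype.ext h.symm)) t ?_
    have h2 := congrArg Subtype.val (hb ⟨t, ht⟩)
    rw [hsmul] at h2
    exact mul_inv_eq_iff_eq_mul.1 h2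
  refine ⟨E, D, hEn, hE1, hDtop, ?_⟩
  intro B hB x hxB hxE hx1
  apply hPD
  intro b
  obtain ⟨k, m, hm, hkm⟩ := Nat.exists_eq_pow_mul_and_not_dvd (orderOf_pos b).ne' p hp.ne_one
  refine ⟨k, ?_⟩
  have h1 : (b ^ p ^ k) ^ m = 1 := by
    rw [← pow_mul, ← hkm, pow_orderOf_eq_one]
  have hcop : m.Coprime p := ((Nat.Prime.coprime_iff_not_dvd hp).2 hm).symm
  have h2 : Commute (b ^ p ^ k) (⟨x, hxB⟩ : ↥B) :=
    Lib.NilpotentCoprime.commute_of_pow_eq_one hcop h1 (Subtype.ext (hEp x hxE))
  have h3 := hCx x hxE hx1 ((b ^ p ^ k : ↥B) : Q) (congrArg Subtype.val h2.eq)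
  have h4 := hDp _ h3 (Nat.Coprime.coprime_dvd_left (orderOf_dvd_of_pow_eq_one (by
    simpa using congrArg Subtype.val h1)) hcop)
  exact Subtype.ext h4

end NonComm

end Cfsg.Agent.H480
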