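import Cfsg.Agent.H480.Kill
import Cfsg.Agent.H480.Reduce

/-!
# Nilpotent minimal covers: the rows (helper480, S3925, S3926)

`Row S` : no finite group `G` with a normal subgroup `K ≅ S`, `K` simple nonabelian, `C_G(K) = 1`, `G / K` cyclic,
has a nilpotent minimal cover.
-/

set_option autoImplicit false

namespace Cfsg.Agent.H480

open Subgroup

universe u v w

/-- the groups `G` to be excluded for the simple group `S` -/
def Row (S : Type v) [Group S] : Prop :=
  ∀ (G : Type u) [Group G] [Finite G] (K : Subgroup G) (_ : K.Normal), IsSimpleGroup ↥K →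
    ¬ IsMulCommutative ↥K → centralizer (K : Set G) = ⊥ → IsCyclic (G ⧸ K) → (S ≃* ↥K) →
    ∀ 𝓐 : Finset (Subgroup G), ¬ NMC 𝓐

theorem Row.congr {S : Type v} {T : Type w} [Group S] [Group T] (e : S ≃* T) (h : Row.{u} S) : Row.{u} T :=
  fun G _ _ K hK hs hna hc hcyc f => h G K hK hs hna hc hcyc (e.trans f)

theorem Row.of_kill {S : Type v} [Group S] (h : Kill S) : Row.{u} S := by
  intro G _ _ K hK hs hna hc hcyc f 𝓐 hA
  refine hA.not_kill ?_ K (h.congr f)
  rw [eq_bot_iff, ← hc]
  exact center_le_centralizer _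

theorem solvable_of_rows (h : ∀ (S : Type u) [Group S] [Finite S], IsSimpleGroup S → ¬ IsMulCommutative S → Row.{u} S)
    {G : Type u} [Group G] [Finite G] {𝓐 : Finset (Subgroup G)} (hA : NMC 𝓐) : Group.IsSolvable G := by
  refine solvable_of_nmc ?_ _ G rfl 𝓐 hA
  intro G _ _ S hS hs hna hc hcyc 𝓐
  exact h ↥S hs hna G S hS hs hna hc hcyc (MulEquiv.refl _) 𝓐

end Cfsg.Agent.H480
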