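import Cfsg.Agent.H480.Prime
import Cfsg.Agent.H480.RowPslTwo
import Cfsg.Agent.StandardComponent.AltAut
import Cfsg.Agent.S0253
import Cfsg.Agent.S0254

/-!
# Nilpotent minimal covers: the alternating groups (helper480, S3925, S3926)
-/

set_option autoImplicit false

namespace Cfsg.Agent.H480.RowAlt

open Subgroup Equiv Equiv.Perm

universe u v

theorem pais {α : Type*} (e : Perm α) (x : α) : e (e⁻¹ x) = x := e.apply_symm_apply x
theorem pias {α : Type*} (e : Perm α) (x : α) : e⁻¹ (e x) = x := e.symm_apply_apply x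

/-- a prime between `n / 2` and `n` -/
theorem exists_prime_mid {n : ℕ} (hn : 7 ≤ n) : ∃ p : ℕ, p.Prime ∧ 5 ≤ p ∧ p < n ∧ n < 2 * p := by
  rcases Nat.even_or_odd' n with ⟨m, hm | hm⟩
  · obtain ⟨p, hp, h1, h2⟩ := Nat.exists_prime_lt_and_le_two_mul m (by omega)
    have h4 : p ≠ 2 * m := by
      rintro rfl
      exact Nat.not_prime_mul (by norm_num) (by omega) hp
    have h5 : p ≠ 4 := by
      rintro rfl
      exact absurd hp (by norm_num)
    exact ⟨p, hp, by omega, by omega, by omega⟩
  · obtain ⟨p, hp, h1, h2⟩ := Nat.exists_prime_lt_and_le_two_mul m (by omega)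
    have h5 : p ≠ 4 := by
      rintro rfl
      exact absurd hp (by norm_num)
    exact ⟨p, hp, by omega, by omega, by omega⟩

theorem not_sq_dvd {n p : ℕ} (hp : p.Prime) (h1 : n < 2 * p) : ¬ p ^ 2 ∣ n.factorial := by
  rw [hp.pow_dvd_factorial_iff (b := 2)]
  · rw [show Finset.Ico 1 2 = {1} from rfl, Finset.sum_singleton, pow_one, not_le]
    exact (Nat.div_lt_iff_lt_mul hp.pos).2 h1
  · refine Nat.log_lt_of_lt_pow' (by norm_num) ?_
    have := hp.two_le
    nlinarith

theorem row_ge_seven {n : ℕ} (hn : 7 ≤ n) : Row.{u} ↥(alternatingGroup (Fin n)) := by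
  intro G _ _ K hK hs hna hc hcyc f 𝓐 hA
  obtain ⟨p, hp, hp5, hpn, hnp⟩ := exists_prime_mid hn
  have hfp : Fact p.Prime := ⟨hp⟩
  obtain ⟨ψ, hψ⟩ := StandardComponent.AltAut.exists_autHom n hn
  have hψi : ∀ e, ψ e = 1 → e = 1 := by
    intro e he
    ext1 x
    apply Subtype.ext
    rw [hψ, he]
    simp
  set ρ : G →* Perm (Fin n) := ψ.comp (act f) with hρ
  have hρi : Function.Injective ρ := by
    rw [injective_iff_map_eq_one]
    intro g hg
    have h1 : act f g = 1 := hψi _ hg
    exact (injective_iff_map_eq_one _).1 (act_injective f hc) g h1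
  have hcard : Nat.card G ∣ n.factorial := by
    have h1 := Subgroup.card_dvd_of_injective ρ hρi
    rwa [Nat.card_perm, Nat.card_eq_fintype_card (α := Fin n), Fintype.card_fin] at h1
  have hpp : ¬ p ^ 2 ∣ Nat.card G := fun h => not_sq_dvd hp hnp (h.trans hcard)
  -- the element of order `p`
  obtain ⟨x, hx⟩ : ∃ x : alternatingGroup (Fin n), orderOf x = p := by
    refine exists_prime_orderOf_dvd_card' p ?_
    have h1 : 2 * Nat.card (alternatingGroup (Fin n)) = n.factorial := by
      have : Nontrivial (Fin n) := Fin.nontrivial_iff_two_le.2 (by omega)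
      have h2 := two_mul_nat_card_alternatingGroup (α := Fin n)
      rwa [Nat.card_perm, Nat.card_eq_fintype_card (α := Fin n), Fintype.card_fin] at h2
    have h2 : p ∣ 2 * Nat.card (alternatingGroup (Fin n)) := by
      rw [h1]
      exact hp.dvd_factorial.2 hpn.le
    rcases hp.dvd_mul.1 h2 with h3 | h3
    · exact absurd (Nat.le_of_dvd (by norm_num) h3) (by omega)
    · exact h3
  have hxo : orderOf (x : Perm (Fin n)) = p := by rw [orderOf_coe, hx]
  have hcyc : (x : Perm (Fin n)).IsCycle := by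
    refine isCycle_of_prime_order' (by rw [hxo]; exact hp) ?_
    rw [hxo, Fintype.card_fin]
    exact hnp
  have hsupp : (x : Perm (Fin n)).support.card = p := by rw [← hcyc.orderOf, hxo]
  obtain ⟨a0, ha0⟩ : ∃ a, a ∈ (x : Perm (Fin n)).support := by
    refine Finset.card_pos.1 ?_
    rw [hsupp]
    exact hp.pos
  have hfix : ∀ (i : ℕ) (a : Fin n), a ∈ (x : Perm (Fin n)).support → ((x : Perm (Fin n)) ^ i) a = a → p ∣ i := by
    intro i a ha hi
    rw [← hxo]
    refine orderOf_dvd_of_pow_eq_one ?_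
    rw [hcyc.pow_eq_one_iff]
    exact ⟨a, mem_support.1 ha, hi⟩
  set a : ℕ → Fin n := fun i => ((x : Perm (Fin n)) ^ i) a0 with ha
  have has : ∀ i, a i ∈ (x : Perm (Fin n)).support := fun i => pow_apply_mem_support.2 ha0
  have hxa : ∀ i, (x : Perm (Fin n)) (a i) = a (i + 1) := by
    intro i
    rw [ha]
    simp only [pow_succ', Perm.mul_apply]
  have hne : ∀ i j, i < j → j < 5 → a i ≠ a j := by
    intro i j hij hj h
    obtain ⟨k, rfl⟩ := Nat.exists_eq_add_of_lt hij
    have h1 : ((x : Perm (Fin n)) ^ (k + 1)) (a i) = a i := by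
      rw [ha]
      simp only
      rw [← Perm.mul_apply, ← pow_add, show k + 1 + i = i + k + 1 by ring]
      exact h.symm
    have h2 := Nat.le_of_dvd (by omega) (hfix _ _ (has i) h1)
    omega
  -- the subgroup
  let M : Subgroup G :=
    { carrier := {g | ∀ b, ρ g b ∈ (x : Perm (Fin n)).support ↔ b ∈ (x : Perm (Fin n)).support}
      mul_mem' := by
        intro g h hg hh b
        rw [map_mul, Perm.mul_apply, hg, hh]
      one_mem' := by
        intro b
        rw [map_one, Perm.one_apply]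
      inv_mem' := by
        intro g hg b
        rw [← hg, map_inv, pais] }
  have hMmem : ∀ g, g ∈ M ↔ ∀ b, ρ g b ∈ (x : Perm (Fin n)).support ↔ b ∈ (x : Perm (Fin n)).support :=
    fun g => Iff.rfl
  have hconj : ∀ s : alternatingGroup (Fin n), (s : Perm (Fin n)) * x * (s : Perm (Fin n))⁻¹ =
      ρ (f s) * x * (ρ (f s))⁻¹ := by
    intro s
    have h1 := hψ (act f (f s : G)) x
    rw [act_coe f s] at h1
    have h2 : ρ (f s) = ψ (MulAut.conj s) := by rw [hρ, MonoidHom.comp_apply, act_coe]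
    rw [h2, ← h1]
    rfl
  have hC : ∀ g, g * (f x : G) = (f x : G) * g → g ∈ M := by
    intro g hg b
    have h1 := hψ (act f g) x
    rw [act_comm f hg] at h1
    have h2 : ρ g * x = x * ρ g := by
      rw [hρ, MonoidHom.comp_apply]
      exact (eq_mul_inv_iff_mul_eq.1 h1).symm
    have h3 : (x : Perm (Fin n)) (ρ g b) = ρ g ((x : Perm (Fin n)) b) := by
      rw [← Perm.mul_apply, ← h2, Perm.mul_apply]
    rw [mem_support, mem_support, h3]
    exact (ρ g).injective.ne_iff
  -- the conjugates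
  have hval : ∀ (s : Perm (Fin n)) b, (s * x * s⁻¹) b ≠ b ↔ s⁻¹ b ∈ (x : Perm (Fin n)).support := by
    intro s b
    rw [Perm.mul_apply, Perm.mul_apply, mem_support, Ne, Ne, not_iff_not]
    constructor
    · intro h
      apply s.injective
      rw [h, pais]
    · intro h
      rw [h, pais]
  have hM : M ≠ ⊤ := by
    intro hM
    obtain ⟨b, hb⟩ : ∃ b, b ∉ (x : Perm (Fin n)).support := by
      by_contra hno
      push Not at hno
      have h1 : (x : Perm (Fin n)).support = Finset.univ := Finset.eq_univ_iff_forall.2 hno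
      rw [h1, Finset.card_univ, Fintype.card_fin] at hsupp
      omega
    have h01 := hne 0 1 (by norm_num) (by norm_num)
    have hb0 : a 0 ≠ b := fun h => hb (h ▸ has 0)
    have hb1 : b ≠ a 1 := fun h => hb (h ▸ has 1)
    let s : alternatingGroup (Fin n) := ⟨swap (a 0) b * swap b (a 1), by
      rw [mem_alternatingGroup, Perm.sign_mul, sign_swap hb0, sign_swap hb1]; decide⟩
    have hs0 : (s : Perm (Fin n)) (a 0) = b := by
      change (swap (a 0) b * swap b (a 1)) (a 0) = b
      rw [Perm.mul_apply, swap_apply_of_ne_of_ne hb0 h01, swap_apply_left]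
    have h1 : ((s : Perm (Fin n)) * x * (s : Perm (Fin n))⁻¹) b ≠ b := by
      rw [hval, ← hs0, pias]
      exact has 0
    rw [hconj, hval] at h1
    apply hb
    have h2 : (f s : G) ∈ M := by rw [hM]; exact mem_top _
    rw [← h2, pais] at h1
    exact h1
  have h01 := hne 0 1 (by norm_num) (by norm_num)
  have h02 := hne 0 2 (by norm_num) (by norm_num)
  have h03 := hne 0 3 (by norm_num) (by norm_num)
  have h04 := hne 0 4 (by norm_num) (by norm_num)
  have h12 := hne 1 2 (by norm_num) (by norm_num)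
  have h13 := hne 1 3 (by norm_num) (by norm_num)
  have h14 := hne 1 4 (by norm_num) (by norm_num)
  have h23 := hne 2 3 (by norm_num) (by norm_num)
  have h24 := hne 2 4 (by norm_num) (by norm_num)
  let s : alternatingGroup (Fin n) := ⟨swap (a 0) (a 1) * swap (a 1) (a 2), by
    rw [mem_alternatingGroup, Perm.sign_mul, sign_swap h01, sign_swap h12]; decide⟩
  have hs : ∀ b, (s : Perm (Fin n)) b = swap (a 0) (a 1) (swap (a 1) (a 2) b) := fun b => rfl
  have hs0 : (s : Perm (Fin n)) (a 0) = a 1 := by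
    rw [hs, swap_apply_of_ne_of_ne h01 h02, swap_apply_left]
  have hs1 : (s : Perm (Fin n)) (a 1) = a 2 := by
    rw [hs, swap_apply_left, swap_apply_of_ne_of_ne h02.symm h12.symm]
  have hs2 : (s : Perm (Fin n)) (a 2) = a 0 := by
    rw [hs, swap_apply_right, swap_apply_right]
  have hs3 : (s : Perm (Fin n)) (a 3) = a 3 := by
    rw [hs, swap_apply_of_ne_of_ne h13.symm h23.symm, swap_apply_of_ne_of_ne h03.symm h13.symm]
  have hs4 : (s : Perm (Fin n)) (a 4) = a 4 := by
    rw [hs, swap_apply_of_ne_of_ne h14.symm h24.symm, swap_apply_of_ne_of_ne h04.symm h14.symm]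
  have hsS : ∀ b, (s : Perm (Fin n)) b ∈ (x : Perm (Fin n)).support ↔ b ∈ (x : Perm (Fin n)).support := by
    intro b
    by_cases hb0 : b = a 0
    · rw [hb0, hs0]
      exact iff_of_true (has 1) (has 0)
    · by_cases hb1 : b = a 1
      · rw [hb1, hs1]
        exact iff_of_true (has 2) (has 1)
      · by_cases hb2 : b = a 2
        · rw [hb2, hs2]
          exact iff_of_true (has 0) (has 2)
        · rw [hs, swap_apply_of_ne_of_ne hb1 hb2, swap_apply_of_ne_of_ne hb0 hb1]
  have hm : (f s : G) ∈ M := by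
    intro b
    have h1 := hval (ρ (f s)) (ρ (f s) b)
    rw [← hconj, hval, pias] at h1
    have h2 := hsS ((s : Perm (Fin n))⁻¹ (ρ (f s) b))
    rw [pais] at h2
    exact h2.trans h1
  refine hA.not_of_prime hp (x := (f x : G)) (by rw [orderOf_coe, MulEquiv.orderOf_eq, hx]) hpp hM hC hm ?_
  intro h
  obtain ⟨k, hk⟩ := mem_powers_iff_mem_zpowers.2 h
  have h1 : (x : Perm (Fin n)) ^ k = s * x * (s : Perm (Fin n))⁻¹ := by
    have h2 : x ^ k = s * x * s⁻¹ := by
      apply f.injective
      apply Subtype.ext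
      simpa using hk
    have h3 := congrArg Subtype.val h2
    simpa using h3
  have h2 : ((x : Perm (Fin n)) ^ k) (a 3) = a 4 := by
    rw [h1, Perm.mul_apply, Perm.mul_apply]
    have h3 : (s : Perm (Fin n))⁻¹ (a 3) = a 3 := by rw [Perm.inv_eq_iff_eq, hs3]
    rw [h3, hxa, hs4]
  -- `k = 1` modulo `p`
  have h3 : (x : Perm (Fin n)) ^ k = x := by
    have h4 : ((x : Perm (Fin n)) ^ (k + (p - 1))) (a 3) = a 3 := by
      rw [add_comm, pow_add, Perm.mul_apply, h2]
      have h5 : a 4 = (x : Perm (Fin n)) (a 3) := (hxa 3).symm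
      rw [h5, ← Perm.mul_apply, ← pow_succ, show p - 1 + 1 = p by omega, ← hxo, pow_orderOf_eq_one, Perm.one_apply]
    obtain ⟨c, hc⟩ := hfix _ _ (has 3) h4
    have h5 : (x : Perm (Fin n)) ^ (k + (p - 1)) = 1 := by
      rw [hc, pow_mul, ← hxo, pow_orderOf_eq_one, one_pow]
    have h6 : (x : Perm (Fin n)) ^ (k + (p - 1)) * x = (x : Perm (Fin n)) ^ k := by
      rw [← pow_succ, show k + (p - 1) + 1 = k + p by omega, pow_add, ← hxo, pow_orderOf_eq_one, mul_one]
    rw [← h6, h5, one_mul]
  rw [h3] at h1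
  have h4 : (x : Perm (Fin n)) * s = s * x := by
    nth_rw 1 [h1]
    rw [inv_mul_cancel_right]
  have h5 := congrArg (fun e : Perm (Fin n) => e (a 1)) h4
  simp only [Perm.mul_apply] at h5
  rw [hs1, hxa, hxa, hs2] at h5
  exact h03 h5.symm

theorem row_alt {n : ℕ} (hn : 5 ≤ n) : Row.{u} ↥(alternatingGroup (Fin n)) := by
  rcases Nat.lt_or_ge n 7 with h | h
  · have h1 : n = 5 ∨ n = 6 := by omega
    rcases h1 with rfl | rfl
    · obtain ⟨e⟩ := S0253.psl_zmod5
      exact Row.congr e (PslTwo.row_psl_two (by rw [Nat.card_zmod]; norm_num))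
    · obtain ⟨e⟩ := S0254.psl_k9
      refine Row.congr e (PslTwo.row_psl_two ?_)
      rw [Nat.card_eq_fintype_card, S0254.card_k9]
      norm_num
  · exact row_ge_seven h

end Cfsg.Agent.H480.RowAlt
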