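import Cfsg.Agent.H480.SporHS
import Cfsg.Agent.S2070
import Cfsg.Agent.S2037
import Cfsg.Agent.Schreier.CoTwoStab
import Cfsg.Agent.MonsterP.LeechMu
import Cfsg.Agent.Leech.FrameAux

/-!
# Nilpotent minimal covers: `Co2` (helper480, S3925, S3926)
-/

set_option autoImplicit false

namespace Cfsg.Agent.H480

open Subgroup Equiv

universe u v w

open scoped Pointwise

theorem exists_conj_of_out {S : Type v} {T : Type w} [Group S] [Group T] (e : S ≃* T)
    (h : Nat.card (Cfsg.Out T) = 1) (α : MulAut S) : ∃ s : S, ∀ x, α x = s * x * s⁻¹ := by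
  have h1 : (Cfsg.Inn T).index = 1 := h
  have h2 : Cfsg.Inn T = ⊤ := Subgroup.index_eq_one.1 h1
  have h3 : (MulAut.congr e α) ∈ Cfsg.Inn T := by rw [h2]; exact mem_top _
  obtain ⟨t, ht⟩ := h3
  refine ⟨e.symm t, fun x => ?_⟩
  have h4 := congrArg (fun β : MulAut T => e.symm (β (e x))) ht
  simp only [MulAut.conj_apply, map_mul, map_inv, MulEquiv.symm_apply_apply, MulAut.congr_apply,
    MulEquiv.trans_apply] at h4
  exact h4.symm

namespace CoTwoRow

open Cfsg Cfsg.Agent.Leech.FrameAux Cfsg.Agent.MonsterX.KSide Cfsg.Agent.MonsterX.Lat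
  Cfsg.Agent.MonsterP.LeechMu Cfsg.Agent.MonsterP.LeechTriple

/-- `g` acts on the lattice as the permutation `σ` of the coordinates -/
def IsP (g : Co0) (σ : Perm GolayPt) : Prop :=
  ∀ (v : leechLattice) (i : GolayPt), ((g • v : leechLattice) : GolayPt → ℤ) i = (v : GolayPt → ℤ) (σ.symm i)

theorem IsP.mul {g h : Co0} {σ τ : Perm GolayPt} (hg : IsP g σ) (hh : IsP h τ) : IsP (g * h) (σ * τ) := by
  intro v i
  rw [mul_smul, hg, hh]
  rfl

theorem IsP.one : IsP 1 1 := by
  intro v i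
  rw [one_smul]
  rfl

theorem IsP.inv {g : Co0} {σ : Perm GolayPt} (hg : IsP g σ) : IsP g⁻¹ σ⁻¹ := by
  intro v i
  have h1 := hg (g⁻¹ • v) (σ i)
  rw [smul_inv_smul, Equiv.symm_apply_apply] at h1
  rw [← h1]
  rfl

theorem IsP.pow {g : Co0} {σ : Perm GolayPt} (hg : IsP g σ) (n : ℕ) : IsP (g ^ n) (σ ^ n) := by
  induction n with
  | zero => exact IsP.one
  | succ n ih => rw [pow_succ, pow_succ]; exact ih.mul hg

theorem IsP.eq {g h : Co0} {σ : Perm GolayPt} (hg : IsP g σ) (hh : IsP h σ) : g = h := by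
  apply Subtype.ext
  apply Equiv.ext
  intro v
  apply Subtype.ext
  funext i
  exact (hg v i).trans (hh v i).symm

theorem e8_val (p i : GolayPt) : (e8 p : GolayPt → ℤ) i = if i = p then 8 else 0 := by
  rw [coe_e8, Pi.single_apply]

theorem IsP.inj {g : Co0} {σ τ : Perm GolayPt} (hg : IsP g σ) (hh : IsP g τ) : σ = τ := by
  have h1 : σ.symm = τ.symm := by
    apply Equiv.ext
    intro i
    have h2 := (hg (e8 (σ.symm i)) i).symm.trans (hh (e8 (σ.symm i)) i)
    rw [e8_val, e8_val, if_pos rfl] at h2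
    by_contra hne
    rw [if_neg (fun h => hne h.symm)] at h2
    norm_num at h2
  exact Equiv.symm_bijective.1 h1

theorem IsP.smul_e8 {g : Co0} {σ : Perm GolayPt} (hg : IsP g σ) {p : GolayPt} (hp : σ p = p) : g • e8 p = e8 p := by
  apply Subtype.ext
  funext i
  rw [hg, e8_val, e8_val]
  have h1 : σ.symm i = p ↔ i = p := by
    rw [Equiv.symm_apply_eq, hp]
  simp only [h1]

theorem IsP.smul_w3 {g : Co0} {σ : Perm GolayPt} (hg : IsP g σ) {p : GolayPt} (hp : σ p = p) : g • w3 p = w3 p := by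
  apply Subtype.ext
  funext i
  rw [hg]
  change (if σ.symm i = p then (3 : ℤ) else -1) = if i = p then (3 : ℤ) else -1
  have h1 : σ.symm i = p ↔ i = p := by
    rw [Equiv.symm_apply_eq, hp]
  simp only [h1]

theorem mem23 (g : Perm GolayPt) : g ∈ Cfsg.Spor.M23 ↔ g ∈ Cfsg.M24 ∧ g none = none := by
  unfold Cfsg.Spor.M23
  rw [Subgroup.mem_inf, MulAction.mem_stabilizer_iff]
  rfl

theorem dot_e8 (v : leechLattice) : dot v (e8 none) = 8 * (v : GolayPt → ℤ) none := by
  change dotInt _ _ = _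
  rw [coe_e8, Cfsg.Agent.Leech.FrameAux.dot_single_right]
  ring

theorem nrm_leechU' : nrm Spor.leechU' = 32 := by
  change sqNorm Spor.vecU' = 32
  decide +kernel

theorem dot_one : dot (w3 none) Spor.leechU' = 16 := by
  change dotInt (fun i => if i = none then 3 else -1) Spor.vecU' = 16
  decide +kernel

theorem dot_two : dot (w3 none) (w3 (some 0)) = 16 := by
  change dotInt (fun i => if i = none then 3 else -1) (fun i => if i = some 0 then 3 else -1) = 16
  decide +kernel

/-- a permutation of order 23 fixing the extra point is transitive on the others -/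
theorem exists_zpow {σ : Perm GolayPt} (hσo : orderOf σ = 23) (hσ0 : σ none = none) {i j : GolayPt} (hi : i ≠ none)
    (hj : j ≠ none) : ∃ k : ℤ, (σ ^ k) i = j := by
  have hc24 : Fintype.card GolayPt = 24 := rfl
  have hcyc : σ.IsCycle := Perm.isCycle_of_prime_order' (by rw [hσo]; norm_num) (by rw [hσo, hc24]; norm_num)
  have hsupp : ∀ i, i ≠ none → σ i ≠ i := by
    intro i hi h1
    have h2 : σ.support.card = 23 := by rw [← hcyc.orderOf, hσo]
    have h3 : σ.support ⊆ (Finset.univ.erase none).erase i := by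
      intro j hj
      rw [Perm.mem_support] at hj
      rw [Finset.mem_erase, Finset.mem_erase]
      refine ⟨?_, ?_, Finset.mem_univ _⟩
      · rintro rfl
        exact hj h1
      · rintro rfl
        exact hj hσ0
    have h4 := Finset.card_le_card h3
    rw [Finset.card_erase_of_mem (by simpa using hi), Finset.card_erase_of_mem (Finset.mem_univ _), Finset.card_univ,
      hc24, h2] at h4
    norm_num at h4
  exact hcyc.sameCycle (hsupp i hi) (hsupp j hj)

theorem const_of_inv {σ : Perm GolayPt} (hσo : orderOf σ = 23) (hσ0 : σ none = none) {f : GolayPt → ℤ}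
    (hf : ∀ i, f (σ i) = f i) {i : GolayPt} (hi : i ≠ none) : f i = f (some 0) := by
  obtain ⟨k, hk⟩ := exists_zpow hσo hσ0 (Option.some_ne_none 0) hi
  have h2 : ∀ k : ℤ, ∀ j, f ((σ ^ k) j) = f j := by
    have h3 : ∀ (n : ℕ) (j : GolayPt), f ((σ ^ n) j) = f j := by
      intro n
      induction n with
      | zero => intro j; rfl
      | succ n ih => intro j; rw [pow_succ', Perm.mul_apply, hf, ih]
    intro k j
    obtain ⟨n, rfl | rfl⟩ := k.eq_nat_or_neg
    · rw [zpow_natCast]; exact h3 n j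
    · rw [zpow_neg, zpow_natCast]
      have h4 := h3 n ((σ ^ n)⁻¹ j)
      rw [← h4]
      simp
  rw [← hk, h2]

/-- the centralizer of `x` in the stabilizer fixes the extra coordinate vector -/
theorem fix_of_comm {σ : Perm GolayPt} (hσo : orderOf σ = 23) (hσ0 : σ none = none) {x : Co0} (hx : IsP x σ) {c : Co0}
    (hcu : c • w3 none = w3 none) (hcx : c * x = x * c) : c • e8 none = e8 none := by
  have hc24 : Fintype.card GolayPt = 24 := rfl
  have hxe : x • e8 none = e8 none := hx.smul_e8 hσ0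
  set w := c • e8 none with hw
  have hxw : x • w = w := by
    rw [hw, ← mul_smul, ← hcx, mul_smul, hxe]
  have hwσ : ∀ i, (w : GolayPt → ℤ) (σ i) = (w : GolayPt → ℤ) i := by
    intro i
    have h1 := hx w (σ i)
    rw [hxw, Equiv.symm_apply_apply] at h1
    exact h1
  have hwc : ∀ i, i ≠ none → (w : GolayPt → ℤ) i = (w : GolayPt → ℤ) (some 0) := fun i hi =>
    const_of_inv hσo hσ0 hwσ hi
  obtain ⟨a, ha⟩ : ∃ a, a = (w : GolayPt → ℤ) none := ⟨_, rfl⟩
  obtain ⟨b, hb⟩ : ∃ b, b = (w : GolayPt → ℤ) (some 0) := ⟨_, rfl⟩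
  have hn : a ^ 2 + 23 * b ^ 2 = 64 := by
    have h1 : nrm w = 64 := by
      rw [hw, nrm_smul]
      change sqNorm _ = _
      rw [coe_e8, sqNorm_single]
      norm_num
    rw [← h1]
    change _ = sqNorm _
    rw [sqNorm_def, ← Finset.add_sum_erase _ _ (Finset.mem_univ (none : GolayPt)),
      Finset.sum_congr rfl (fun i hi => by rw [hwc i (Finset.ne_of_mem_erase hi)] :
        ∀ i ∈ Finset.univ.erase (none : GolayPt), (w : GolayPt → ℤ) i ^ 2 = (w : GolayPt → ℤ) (some 0) ^ 2),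
      Finset.sum_const, Finset.card_erase_of_mem (Finset.mem_univ _), Finset.card_univ, hc24, ← ha, ← hb]
    norm_num
  have hd : 3 * a - 23 * b = 24 := by
    have h1 : dot (w3 none) w = 24 := by
      have h2 := dot_smul c (w3 none) (e8 none)
      rw [hcu] at h2
      rw [hw, h2, dot_e8]
      rfl
    rw [← h1, dot_w3, ← Finset.add_sum_erase _ _ (Finset.mem_univ (none : GolayPt)),
      Finset.sum_congr rfl (fun i hi => by rw [hwc i (Finset.ne_of_mem_erase hi)] :
        ∀ i ∈ Finset.univ.erase (none : GolayPt), (w : GolayPt → ℤ) i = (w : GolayPt → ℤ) (some 0)),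
      Finset.sum_const, Finset.card_erase_of_mem (Finset.mem_univ _), Finset.card_univ, hc24, ← ha, ← hb]
    norm_num
    ring
  have hb0 : b = 0 := by
    have h1 : b * (736 * b + 1104) = 0 := by nlinarith
    rcases mul_eq_zero.1 h1 with h2 | h2
    · exact h2
    · omega
  have ha8 : a = 8 := by
    rw [hb0] at hd
    omega
  apply Subtype.ext
  funext i
  rw [e8_val]
  by_cases hi : i = none
  · rw [if_pos hi, hi, ← ha, ha8]
  · rw [if_neg hi, hwc i hi, ← hb, hb0]

theorem row_stab : Row.{u} ↥(MulAction.stabilizer Co0 (w3 none)) := by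
  have hcard : Nat.card Cfsg.Spor.M23 = 10200960 := Cfsg.Agent.SporadicA.MathieuRecog.card_M23
  have hfin23 : Finite ↥Cfsg.Spor.M23 := Nat.finite_of_card_ne_zero (by rw [hcard]; norm_num)
  have hsim := Cfsg.Agent.S2037.simple
  have hf23 : Fact (Nat.Prime 23) := ⟨by norm_num⟩
  obtain ⟨⟨e⟩⟩ : Nonempty (Nonempty (MulAction.stabilizer Co0 (w3 none) ≃* Spor.Co2)) :=
    ⟨Cfsg.Agent.Schreier.CoTwoStab.exists_equiv (w3 none) (by
      rw [← Cfsg.Agent.SporadicStructure.Co2RankThree.norm_eq]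
      exact nrm_w3 none)⟩
  have hfin2 : Finite Spor.Co2 := Cfsg.Agent.Schreier.CoTwoStab.finite
  have hfin : Finite ↥(MulAction.stabilizer Co0 (w3 none)) := Finite.of_equiv _ e.symm.toEquiv
  -- a permutation of order 23
  obtain ⟨σ', hσ'⟩ := exists_prime_orderOf_dvd_card' (G := ↥Cfsg.Spor.M23) 23 (by rw [hcard]; norm_num)
  obtain ⟨σ, hσ⟩ : ∃ σ : Perm GolayPt, σ = σ' := ⟨_, rfl⟩
  have hσo : orderOf σ = 23 := by rw [hσ, orderOf_coe]; exact hσ'
  have hσM : σ ∈ Cfsg.Spor.M23 := by rw [hσ]; exact σ'.2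
  have hσ0 : σ none = none := ((mem23 _).1 hσM).2
  -- a permutation not normalizing `⟨σ⟩`
  obtain ⟨τ, hτM, hτ⟩ : ∃ τ ∈ Cfsg.Spor.M23, τ * σ * τ⁻¹ ∉ zpowers σ := by
    by_contra hcon
    push Not at hcon
    have hn : (zpowers σ').Normal := by
      refine ⟨?_⟩
      intro n hn g
      obtain ⟨k, rfl⟩ := mem_zpowers_iff.1 hn
      obtain ⟨j, hj⟩ := mem_zpowers_iff.1 (hcon g g.2)
      have h1 : g * σ' * g⁻¹ = σ' ^ j := by
        apply Subtype.ext
        rw [hσ] at hj
        simpa using hj.symm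
      refine mem_zpowers_iff.2 ⟨j * k, ?_⟩
      rw [zpow_mul, ← h1, conj_zpow]
    rcases hn.eq_bot_or_eq_top with h1 | h1
    · have h2 := Nat.card_zpowers σ'
      rw [h1, hσ'] at h2
      rw [Nat.card_eq_one_iff_unique.2 ⟨inferInstance, inferInstance⟩] at h2
      norm_num at h2
    · have h2 := Nat.card_zpowers σ'
      rw [h1, hσ', Nat.card_congr (Subgroup.topEquiv (G := ↥Cfsg.Spor.M23)).toEquiv, hcard] at h2
      norm_num at h2
  have hτ0 : τ none = none := ((mem23 _).1 hτM).2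
  obtain ⟨x, hx⟩ : ∃ x : Co0, IsP x σ := exists_co0_of_perm σ ((mem23 _).1 hσM).1
  obtain ⟨m, hm⟩ : ∃ x : Co0, IsP x τ := exists_co0_of_perm τ ((mem23 _).1 hτM).1
  have hxS : x ∈ MulAction.stabilizer Co0 (w3 none) := hx.smul_w3 hσ0
  have hmS : m ∈ MulAction.stabilizer Co0 (w3 none) := hm.smul_w3 hτ0
  have hxe : x • e8 none = e8 none := hx.smul_e8 hσ0
  have hme : m • e8 none = e8 none := hm.smul_e8 hτ0
  have hxo : orderOf (⟨x, hxS⟩ : ↥(MulAction.stabilizer Co0 (w3 none))) = 23 := by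
    rw [← orderOf_coe]
    refine orderOf_eq_prime ?_ ?_
    · have h1 := hx.pow 23
      have h2 : σ ^ 23 = 1 := orderOf_dvd_iff_pow_eq_one.1 (dvd_of_eq hσo)
      rw [h2] at h1
      exact h1.eq IsP.one
    · intro h1
      change x = 1 at h1
      rw [h1] at hx
      have h2 := hx.inj IsP.one
      rw [h2, orderOf_one] at hσo
      norm_num at hσo
  have hfix : ∀ c : Co0, c • w3 none = w3 none → c * x = x * c → c • e8 none = e8 none :=
    fun c h1 h2 => fix_of_comm hσo hσ0 hx h1 h2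
  let Y : Subgroup ↥(MulAction.stabilizer Co0 (w3 none)) :=
    (MulAction.stabilizer Co0 (e8 none)).comap (Subgroup.subtype _)
  have hY : ∀ g : ↥(MulAction.stabilizer Co0 (w3 none)), g ∈ Y ↔ (g : Co0) • e8 none = e8 none := fun g => Iff.rfl
  refine Row.of_prime_aut (p := 23) (by norm_num) hxo ?_ Y ?_ ?_ (m := ⟨m, hmS⟩) hme ?_
  · intro h1
    rw [Nat.card_congr (MulAut.congr e).toEquiv] at h1
    have h3 := h1.trans (card_mulAut_dvd ↥Cfsg.Spor.Co2)
    rw [Cfsg.Agent.S2070.result, Cfsg.Agent.Schreier.CoTwoStab.card] at h3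
    norm_num at h3
  · intro htop
    obtain ⟨g, hg1, hg2⟩ := exists_pair (w3 none) Spor.leechU' (w3 none) (w3 (some 0)) (nrm_w3 _)
      nrm_leechU' (nrm_w3 _) (nrm_w3 _) dot_one dot_two
    have h1 : (⟨g, hg1⟩ : ↥(MulAction.stabilizer Co0 (w3 none))) ∈ Y := by rw [htop]; exact mem_top _
    have h2 : g • e8 none = e8 none := h1
    have h3 := dot_smul g Spor.leechU' (e8 none)
    rw [hg2, h2, dot_e8, dot_e8] at h3
    have h4 : (w3 (some 0) : GolayPt → ℤ) none = -1 := rfl
    have h5 : (Spor.leechU' : GolayPt → ℤ) none = 4 := rfl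
    rw [h4, h5] at h3
    norm_num at h3
  · intro α hα y hy
    obtain ⟨c, hc⟩ := exists_conj_of_out e Cfsg.Agent.S2070.result α
    rw [hc] at hα
    have hcomm : (c : Co0) * x = x * c := by
      rw [← mul_inv_eq_iff_eq_mul]
      exact congrArg Subtype.val hα
    have h1 := hfix c c.2 hcomm
    rw [hY] at hy ⊢
    rw [hc]
    change ((c : Co0) * y * (c : Co0)⁻¹) • e8 none = e8 none
    have h3 : (c : Co0)⁻¹ • e8 none = e8 none := by rw [inv_smul_eq_iff, h1]
    rw [mul_smul, mul_smul, h3, hy, h1]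
  · intro hz
    have h1 : (⟨m, hmS⟩ : ↥(MulAction.stabilizer Co0 (w3 none))) * ⟨x, hxS⟩ * (⟨m, hmS⟩)⁻¹ ∈
        Submonoid.powers (⟨x, hxS⟩ : ↥(MulAction.stabilizer Co0 (w3 none))) :=
      mem_powers_iff_mem_zpowers.2 hz
    obtain ⟨k, hk⟩ := h1
    have hk' : x ^ k = m * x * m⁻¹ := congrArg Subtype.val hk
    have h2 := hx.pow k
    rw [hk'] at h2
    have h3 := ((hm.mul hx).mul hm.inv).inj h2
    apply hτ
    rw [h3]
    exact pow_mem (mem_zpowers σ) k

end CoTwoRow

/-- **`Co₂`** -/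
theorem row_co2 : Row.{u} ↥Cfsg.Spor.Co2 := by
  obtain ⟨e⟩ := Cfsg.Agent.Schreier.CoTwoStab.exists_equiv (Cfsg.Agent.MonsterP.LeechMu.w3 none) (by
      rw [← Cfsg.Agent.SporadicStructure.Co2RankThree.norm_eq]
      exact Cfsg.Agent.MonsterP.LeechMu.nrm_w3 none)
  exact Row.congr e CoTwoRow.row_stab

end Cfsg.Agent.H480
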