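import Cfsg.Agent.H480.KillLarge
import Cfsg.Agent.H480.SporCoTwo
import Cfsg.Agent.BM.KHAll
import Cfsg.Agent.KFacts.Baby.Inst
import Cfsg.Agent.Leech.FrameStab

/-!
# Nilpotent minimal covers: the Baby Monster (helper480, S3925, S3926)
-/

set_option autoImplicit false

namespace Cfsg.Agent.H480

open Subgroup Equiv
open scoped Pointwise

namespace CoTwoRow

open Cfsg Cfsg.Agent.Leech.FrameAux Cfsg.Agent.MonsterX.KSide Cfsg.Agent.MonsterX.Lat
  Cfsg.Agent.MonsterP.LeechMu Cfsg.Agent.MonsterP.LeechTriple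

/-- no involution of the stabilizer commutes with `x` -/
theorem eq_one_of_comm {σ : Perm GolayPt} (hσo : orderOf σ = 23) (hσ0 : σ none = none) {x : Co0} (hx : IsP x σ)
    {c : Co0} (hcu : c • w3 none = w3 none) (hcx : c * x = x * c) (hcc : c * c = 1) : c = 1 := by
  have hce := fix_of_comm hσo hσ0 hx hcu hcx
  obtain ⟨τ, s, hs, hτ0, hs0, -, hact⟩ := Cfsg.Agent.Leech.FrameStab.exists_signed_perm c none hce
  have hsne : ∀ i, s i ≠ 0 := by
    intro i h
    rcases hs i with h1 | h1 <;> rw [h] at h1 <;> norm_num at h1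
  -- `τ` commutes with `σ`
  have hcomm : ∀ i, τ (σ i) = σ (τ i) ∧ s (σ i) = s i := by
    intro i
    obtain ⟨j, hj⟩ : ∃ j, τ j = σ.symm (τ (σ i)) := ⟨τ.symm _, τ.apply_symm_apply _⟩
    have h1 : ∀ u : leechLattice, s (σ i) * (u : GolayPt → ℤ) i = s j * (u : GolayPt → ℤ) j := by
      intro u
      have e1 := hact (x • u) (σ i)
      rw [hx, Equiv.symm_apply_apply] at e1
      have e2 := hx (c • u) (τ (σ i))
      rw [← hj, hact] at e2
      rw [← e1, ← e2, ← mul_smul, ← mul_smul, hcx]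
    have h2 := h1 (e8 i)
    rw [e8_val, e8_val, if_pos rfl] at h2
    have h3 : j = i := by
      by_contra hne
      rw [if_neg hne, mul_zero] at h2
      have := hsne (σ i)
      omega
    rw [h3] at hj h2
    rw [if_pos rfl] at h2
    refine ⟨?_, by omega⟩
    rw [hj, Equiv.apply_symm_apply]
  -- `τ` is an involution
  have hττ : ∀ i, τ (τ i) = i := by
    intro i
    by_contra hne
    have h1 := hact (c • e8 i) (τ i)
    rw [← mul_smul, hcc, one_smul, hact, e8_val, e8_val, if_neg hne, if_pos rfl] at h1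
    have h2 := hsne i
    have h3 := hsne (τ i)
    have h4 : s (τ i) * (s i * 8) ≠ 0 := mul_ne_zero h3 (mul_ne_zero h2 (by norm_num))
    exact h4 h1.symm
  have hτz : ∀ (k : ℤ) i, τ ((σ ^ k) i) = (σ ^ k) (τ i) := by
    have hc : τ * σ = σ * τ := Equiv.ext fun i => (hcomm i).1
    intro k i
    have h1 : Commute τ (σ ^ k) := (show Commute τ σ from hc).zpow_right k
    exact congrArg (fun g : Perm GolayPt => g i) h1.eq
  have hτne : ∀ i, i ≠ none → τ i ≠ none := by
    intro i hi h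
    exact hi (τ.injective (h.trans hτ0.symm))
  have h0 : τ (some 0) = some 0 := by
    obtain ⟨k, hk⟩ := exists_zpow hσo hσ0 (Option.some_ne_none 0) (hτne _ (Option.some_ne_none 0))
    have h1 : (σ ^ (k + k)) (some 0) = some 0 := by
      rw [zpow_add, Perm.mul_apply, hk, ← hτz, hk, hττ]
    have h2 : σ ^ k = (σ ^ (k + k)) ^ 12 := by
      have h3 : σ ^ 23 = 1 := orderOf_dvd_iff_pow_eq_one.1 (dvd_of_eq hσo)
      rw [← zpow_natCast, ← zpow_mul]
      have e : (k + k) * ((12 : ℕ) : ℤ) = k + ((23 : ℕ) : ℤ) * k := by push_cast; ring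
      rw [e, zpow_add, zpow_mul, zpow_natCast, h3, one_zpow, mul_one]
    have h3 : ∀ n : ℕ, ((σ ^ (k + k)) ^ n) (some 0) = some 0 := by
      intro n
      induction n with
      | zero => rfl
      | succ n ih => rw [pow_succ, Perm.mul_apply, h1, ih]
    rw [← hk, h2]
    exact h3 12
  have hτ1 : ∀ i, τ i = i := by
    intro i
    by_cases hi : i = none
    · rw [hi, hτ0]
    · obtain ⟨k, hk⟩ := exists_zpow hσo hσ0 (Option.some_ne_none 0) hi
      rw [← hk, hτz, h0]
  have hsc : ∀ i, i ≠ none → s i = s (some 0) := fun i hi => const_of_inv hσo hσ0 (fun i => (hcomm i).2) hi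
  have hs1 : s (some 0) = 1 := by
    have h1 := hact (w3 none) (some 0)
    rw [hτ1, hcu] at h1
    change (-1 : ℤ) = s (some 0) * (-1) at h1
    omega
  have hsall : ∀ i, s i = 1 := by
    intro i
    by_cases hi : i = none
    · rw [hi, hs0]
    · rw [hsc i hi, hs1]
  apply Subtype.ext
  apply Equiv.ext
  intro u
  apply Subtype.ext
  funext i
  have h1 := hact u i
  rw [hτ1, hsall, one_mul] at h1
  exact h1

theorem exists_order : ∃ σ : ↥(MulAction.stabilizer Co0 (w3 none)), orderOf σ = 23 ∧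
    ∀ y : ↥(MulAction.stabilizer Co0 (w3 none)), y ^ 2 = 1 → y * σ = σ * y → y = 1 := by
  have hcard : Nat.card Cfsg.Spor.M23 = 10200960 := Cfsg.Agent.SporadicA.MathieuRecog.card_M23
  have hfin23 : Finite ↥Cfsg.Spor.M23 := Nat.finite_of_card_ne_zero (by rw [hcard]; norm_num)
  have hf23 : Fact (Nat.Prime 23) := ⟨by norm_num⟩
  obtain ⟨σ', hσ'⟩ := exists_prime_orderOf_dvd_card' (G := ↥Cfsg.Spor.M23) 23 (by rw [hcard]; norm_num)
  obtain ⟨σ, hσ⟩ : ∃ σ : Perm GolayPt, σ = σ' := ⟨_, rfl⟩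
  have hσo : orderOf σ = 23 := by rw [hσ, orderOf_coe]; exact hσ'
  have hσM : σ ∈ Cfsg.Spor.M23 := by rw [hσ]; exact σ'.2
  have hσ0 : σ none = none := ((mem23 _).1 hσM).2
  obtain ⟨x, hx⟩ : ∃ x : Co0, IsP x σ := exists_co0_of_perm σ ((mem23 _).1 hσM).1
  have hxS : x ∈ MulAction.stabilizer Co0 (w3 none) := hx.smul_w3 hσ0
  refine ⟨⟨x, hxS⟩, ?_, ?_⟩
  · rw [← orderOf_coe]
    refine orderOf_eq_prime ?_ ?_
    · have h1 := hx.pow 23
      have h2 : σ ^ 23 = 1 := orderOf_dvd_iff_pow_eq_one.1 (dvd_of_eq hσo)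
      rw [h2] at h1
      exact h1.eq IsP.one
    · intro h1
      change x = 1 at h1
      rw [h1] at hx
      have h2 := hx.inj IsP.one
      rw [h2, orderOf_one] at hσo
      norm_num at hσo
  · intro y hy hyx
    apply Subtype.ext
    refine eq_one_of_comm hσo hσ0 hx (c := (y : Co0)) y.2 (congrArg Subtype.val hyx) ?_
    have h1 := congrArg Subtype.val hy
    rw [pow_two] at h1
    exact h1

end CoTwoRow

open Cfsg.Agent.KFacts.Baby.Inst in
/-- **The Baby Monster** -/
theorem kill_b : Kill Cfsg.Spor.BabyMonster := by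
  refine Kill.congr Cfsg.Agent.BM.KHAll.iso.symm ?_
  have A := Cfsg.Agent.BabyM.Instance.all
  have hL := large A
  obtain ⟨π, hπs, hπ⟩ := quot A
  have hfin := A.finite_G
  obtain ⟨e1⟩ := Cfsg.Agent.Schreier.CoTwoStab.exists_equiv (Cfsg.Agent.MonsterP.LeechMu.w3 none) (by
      rw [← Cfsg.Agent.SporadicStructure.Co2RankThree.norm_eq]
      exact Cfsg.Agent.MonsterP.LeechMu.nrm_w3 none)
  obtain ⟨e2⟩ := Cfsg.Agent.Schreier.CoTwoStab.exists_equiv _ Cfsg.Agent.BabyM.GroupInst.dt_l₀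
  obtain ⟨σ, hσ, hy⟩ := CoTwoRow.exists_order
  refine Kill.of_large hL π hπ (n := 23) (p := 23) (by norm_num) (by norm_num) ?_ (σ := e2.symm (e1 σ)) (hπs _) ?_ ?_ ?_
  · have h1 : Nat.card Cfsg.Agent.BabyM.Inst.M.Q = 2 ^ 23 := A.grp.Q_card
    rw [← h1]
    exact Nat.card_congr (Subgroup.subgroupOfEquivOfLe (A.grp.Q_le.trans A.C_le_G)).toEquiv
  · rw [MulEquiv.orderOf_eq, MulEquiv.orderOf_eq, hσ]
  · intro y hy2 hyσ
    have h1 := hy (e1.symm (e2 y)) (by rw [← map_pow, ← map_pow, hy2, map_one, map_one]) (by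
      apply e1.injective
      rw [map_mul, map_mul, e1.apply_symm_apply]
      apply e2.symm.injective
      rw [map_mul, map_mul, e2.symm_apply_apply, hyσ])
    have h2 := congrArg (fun t => e2.symm (e1 t)) h1
    simpa using h2
  · decide

end Cfsg.Agent.H480
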