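import Cfsg.Agent.H480.SporTools
import Cfsg.Agent.S5386
import Cfsg.Agent.S5388

/-!
# Nilpotent minimal covers: `Co1` (helper480, S3925, S3926)
-/

set_option autoImplicit false

namespace Cfsg.Agent.H480

open Subgroup Equiv

theorem centralizer_zpowers_eq {S : Type*} [Group S] (z : S) :
    centralizer ((zpowers z : Subgroup S) : Set S) = centralizer ({z} : Set S) := by
  rw [zpowers_eq_closure, centralizer_closure]

theorem Kill.of_prod_sub {S : Type*} [Group S] [Finite S] {r : ℕ} (hr : r.Prime) {V : Subgroup S}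
    (hV : Nat.card ↥V = r) {X : Type*} [Group X]
    (e : ↥(centralizer (V : Set S)) ≃* Multiplicative (ZMod r) × X)
    {σ : X} (hσ : (orderOf σ).Coprime r) (hC : ∀ y : X, y ^ r = 1 → y * σ = σ * y → y = 1)
    (hN : ∀ N : Subgroup X, N.Normal → N ≠ ⊥ → ¬ Group.IsNilpotent ↥N) (hσ1 : σ ≠ 1) : Kill S := by
  have hfr : Fact r.Prime := ⟨hr⟩
  obtain ⟨z, hz⟩ := exists_prime_orderOf_dvd_card' (G := ↥V) r (by rw [hV])
  have hzV : zpowers (z : S) = V := by
    apply eq_of_le_of_card_ge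
    · rw [zpowers_le]
      exact z.2
    · rw [hV, Nat.card_zpowers, orderOf_coe, hz]
  have hz' : orderOf (z : S) = r := by rw [orderOf_coe]; exact hz
  obtain ⟨w, hw⟩ : ∃ w : S, w = z := ⟨_, rfl⟩
  rw [← hw] at hzV hz'
  rw [← hzV, centralizer_zpowers_eq] at e
  exact Kill.of_prod' hr hz' e hσ hC hN hσ1

theorem kill_co1 : Kill Cfsg.Spor.Co1 := by
  obtain ⟨z, hz, Q, hQn, hF, hQ, hcard, ⟨e⟩, hnwc⟩ := Cfsg.Agent.S5388.result
  have hfin : Finite Cfsg.Spor.Co1 := inferInstance
  obtain ⟨⟨V, hV, ⟨f⟩⟩, -⟩ := Cfsg.Agent.S5386.result z hz Q hF hQ hcard e hnwc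
  have h3 : orderOf (swap (0 : Fin 7) 1 * swap 1 2) = 3 :=
    orderOf_eq_prime (by decide) (by decide)
  refine Kill.of_prod_sub (by norm_num) hV f
    (σ := ⟨swap 0 1 * swap 1 2, by
      rw [Equiv.Perm.mem_alternatingGroup, Equiv.Perm.sign_mul, Equiv.Perm.sign_swap (by decide),
        Equiv.Perm.sign_swap (by decide)]; rfl⟩) ?_ ?_ (alt_normal_not_nilpotent (by norm_num)) ?_
  · rw [← orderOf_coe, h3]
    norm_num
  · intro y hy hyσ
    by_contra hy1
    have h1 : (swap (0 : Fin 7) 1 * swap 1 2) = 1 := by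
      refine eq_one_of_comm_cycle (a := (y : Perm (Fin 7))) (p := 7) (m := 3) (by norm_num) ?_ (by simp)
        (by norm_num) (by decide) (by norm_num) (congrArg Subtype.val hyσ)
      rw [orderOf_coe]
      exact orderOf_eq_prime hy hy1
    exact absurd h1 (by decide)
  · intro h
    exact absurd (congrArg Subtype.val h) (by decide)

end Cfsg.Agent.H480
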