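import Cfsg.Agent.H480.KillSq
import Cfsg.Agent.H480.Row
import Cfsg.Agent.H517.SporCox
import Cfsg.Agent.H838.Sym
import Cfsg.Agent.S1696
import Cfsg.Agent.S1697

/-!
# Nilpotent minimal covers: `Fi22`, `Fi23` (helper480, S3925, S3926)

`S_7` commutes with `S_3`, and `49` does not divide the order.
-/

set_option autoImplicit false

namespace Cfsg.Agent.H480

open Subgroup Cfsg.Spor Cfsg.Agent.H517 Cfsg.Agent.H517.SporCox

theorem Kill.of_path {S : Type*} [Group S] [Finite S] (t : Fin 6 → S) (h2 : ∀ i, t i * t i = 1)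
    (h3 : ∀ i j : Fin 6, i.val + 1 = j.val → t i * t j * t i = t j * t i * t j)
    (hc : ∀ i j : Fin 6, i.val + 1 < j.val → t i * t j = t j * t i) (hne : t 0 ≠ t 1)
    (h7 : ¬ 7 ^ 2 ∣ Nat.card S) {a b : S} (ha : a * a = 1) (hb : b * b = 1) (hab : a * b * a = b * a * b)
    (hne' : a ≠ b) (hat : ∀ i, a * t i = t i * a) (hbt : ∀ i, b * t i = t i * b) : Kill S := by
  obtain ⟨f, hf, hr, hinj⟩ := H838.Sym.exists_equiv (n := 6) (by norm_num) t h2 h3 hc hne
  set c : Equiv.Perm (Fin 7) := finRotate 7 with hcdef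
  have hc7 : orderOf c = 7 := by
    have : Fact (Nat.Prime 7) := ⟨by norm_num⟩
    exact orderOf_eq_prime (by decide) (by decide)
  have hz : orderOf (f c) = 7 := by rw [orderOf_injective f hinj, hc7]
  have hzr : f c ∈ closure (Set.range t) := by rw [← hr]; exact ⟨c, rfl⟩
  have hcomm : ∀ x : S, (∀ i, x * t i = t i * x) → f c * x = x * f c := by
    intro x hx
    have h1 : closure (Set.range t) ≤ centralizer ({x} : Set S) := by
      rw [closure_le]
      rintro _ ⟨i, rfl⟩
      exact mem_centralizer_singleton_iff.2 (hx i).symm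
    exact mem_centralizer_singleton_iff.1 (h1 hzr)
  have hza := hcomm a hat
  have hzb := hcomm b hbt
  have hai : a⁻¹ = a := inv_eq_of_mul_eq_one_right ha
  have hbi : b⁻¹ = b := inv_eq_of_mul_eq_one_right hb
  refine Kill.of_dihedral (r := 7) (by norm_num) (by norm_num) h7 (z := f c) (a := a * b) (b := b) hz ?_ hzb hb
    ?_ ?_ ?_
  · rw [← mul_assoc, hza, mul_assoc, hzb, mul_assoc]
  · rw [mul_inv_rev, hai, hbi]
    calc b * (a * b) * b = b * a * (b * b) := by group
      _ = b * a := by rw [hb, mul_one]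
  · have h4 : (a * b) ^ 3 = 1 := by
      calc (a * b) ^ 3 = (a * b * a) * (b * a * b) := by rw [pow_succ, pow_two]; group
        _ = (b * a * b) * (b * a * b) := by rw [hab]
        _ = b * a * (b * b) * a * b := by group
        _ = b * (a * a) * b := by rw [hb]; group
        _ = 1 := by rw [ha, mul_one, hb]
    exact Odd.of_dvd_nat (by decide : Odd 3) (orderOf_dvd_of_pow_eq_one h4)
  · intro h4
    exact hne' (eq_of_mul_eq_one hb h4)

theorem not_comm_of_simple {S : Type*} [Group S] (hs : IsSimpleGroup S) (hc : ¬ (Nat.card S).Prime) :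
    ¬ ∀ x y : S, x * y = y * x := by
  intro h
  apply hc
  let _ : CommGroup S := { mul_comm := h }
  have : IsSimpleGroup S := hs
  exact IsSimpleGroup.prime_card

theorem finite_of_card {S : Type*} {n : ℕ} (h : Nat.card S = n) (hn : n ≠ 0) : Finite S :=
  Nat.finite_of_card_ne_zero (by rw [h]; exact hn)

theorem kill_fi22 : Kill Spor.Fi22 := by
  have h := S1696.result
  have hfin : Finite Spor.Fi22 := finite_of_card h.2 (by norm_num)
  have hna := not_comm_of_simple h.1 (by rw [h.2]; norm_num)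
  have hne : ∀ x₀ x₁ : Fi22.Gen, ∀ l : List (Fi22.Gen × Fi22.Gen × Fi22.Gen),
      (∀ x : Fi22.Gen, x ∈ run Fi22.edges [x₀, x₁] l) →
      (PresentedGroup.of x₁ : Spor.Fi22) ≠ PresentedGroup.of x₀ := fun x₀ x₁ l hl h => hna (comm_of_eq l hl h)
  have hm : ∀ i, ((![.g, .f, .e, .d, .h, .i] : Fin 6 → Fi22.Gen) i) ∈ coxNodes Fi22.edges := by decide
  refine Kill.of_path (S := Spor.Fi22)
    (fun i => PresentedGroup.of ((![.g, .f, .e, .d, .h, .i] : Fin 6 → Fi22.Gen) i)) ?_ ?_ ?_ ?_ ?_
    (a := PresentedGroup.of .a) (b := PresentedGroup.of .b) ?_ ?_ ?_ ?_ ?_ ?_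
  · intro i
    exact cox_sq (hm i)
  · intro i j hij
    exact cox_braid (hm i) (hm j) (by revert i j; decide)
  · intro i j hij
    exact cox_comm (hm i) (hm j) (by revert i j; decide)
  · exact (hne .g .f [(.e, .f, .g), (.d, .e, .f), (.h, .d, .e), (.c, .d, .e), (.b, .c, .d), (.a, .b, .c),
      (.i, .h, .d)] (by intro x; cases x <;> decide)).symm
  · rw [h.2]; norm_num
  · exact cox_sq (by decide)
  · exact cox_sq (by decide)
  · exact cox_braid (by decide) (by decide) (by decide)
  · exact (hne .a .b [(.c, .b, .a), (.d, .c, .b), (.e, .d, .c), (.h, .d, .c), (.f, .e, .d), (.g, .f, .e),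
      (.i, .h, .d)] (by intro x; cases x <;> decide)).symm
  · intro i
    exact cox_comm (by decide) (hm i) (by revert i; decide)
  · intro i
    exact cox_comm (by decide) (hm i) (by revert i; decide)

theorem kill_fi23 : Kill Spor.Fi23 := by
  have h := S1697.result
  have hfin : Finite Spor.Fi23 := finite_of_card h.2 (by norm_num)
  have hna := not_comm_of_simple h.1 (by rw [h.2]; norm_num)
  have hne : ∀ x₀ x₁ : Fi23.Gen, ∀ l : List (Fi23.Gen × Fi23.Gen × Fi23.Gen),
      (∀ x : Fi23.Gen, x ∈ run Fi23.edges [x₀, x₁] l) →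
      (PresentedGroup.of x₁ : Spor.Fi23) ≠ PresentedGroup.of x₀ := fun x₀ x₁ l hl h => hna (comm_of_eq l hl h)
  have hm : ∀ i, ((![.g, .f, .e, .d, .h, .i] : Fin 6 → Fi23.Gen) i) ∈ coxNodes Fi23.edges := by decide
  refine Kill.of_path (S := Spor.Fi23)
    (fun i => PresentedGroup.of ((![.g, .f, .e, .d, .h, .i] : Fin 6 → Fi23.Gen) i)) ?_ ?_ ?_ ?_ ?_
    (a := PresentedGroup.of .a) (b := PresentedGroup.of .b) ?_ ?_ ?_ ?_ ?_ ?_
  · intro i
    exact cox_sq (hm i)
  · intro i j hij
    exact cox_braid (hm i) (hm j) (by revert i j; decide)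
  · intro i j hij
    exact cox_comm (hm i) (hm j) (by revert i j; decide)
  · exact (hne .g .f [(.e, .f, .g), (.j, .g, .f), (.d, .e, .f), (.h, .d, .e), (.c, .d, .e), (.b, .c, .d), (.a, .b, .c),
      (.i, .h, .d)] (by intro x; cases x <;> decide)).symm
  · rw [h.2]; norm_num
  · exact cox_sq (by decide)
  · exact cox_sq (by decide)
  · exact cox_braid (by decide) (by decide) (by decide)
  · exact (hne .a .b [(.c, .b, .a), (.d, .c, .b), (.e, .d, .c), (.h, .d, .c), (.f, .e, .d), (.g, .f, .e), (.j, .g, .f),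
      (.i, .h, .d)] (by intro x; cases x <;> decide)).symm
  · intro i
    exact cox_comm (by decide) (hm i) (by revert i; decide)
  · intro i
    exact cox_comm (by decide) (hm i) (by revert i; decide)

end Cfsg.Agent.H480
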