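import Cfsg.Agent.H480.KillBound
import Cfsg.Agent.H480.SporFi
import Cfsg.Agent.H237.EvenFi

/-!
# Nilpotent minimal covers: `Fi24'` (helper480, S3925, S3926)
-/

set_option autoImplicit false

namespace Cfsg.Agent.H480

open Subgroup Cfsg.Spor Cfsg.Agent.H517 Cfsg.Agent.H517.SporCox
open Cfsg.Agent.R08.FiTwentyFour

theorem kill_fi24 : Kill Spor.Fi24' := by
  have hfin24 : Finite Spor.Fi24 := finite_Fi24
  have hfin : Finite Spor.Fi24' := inferInstance
  have hna : ¬ ∀ x y : Spor.Fi24, x * y = y * x := by
    intro h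
    have h1 := card_commutator
    have h2 : commutator Spor.Fi24 = ⊥ := by
      rw [commutator_def, commutator_eq_bot_iff_le_centralizer]
      intro x _
      rw [mem_centralizer_iff]
      intro y _
      exact h y x
    rw [h2, card_bot] at h1
    norm_num at h1
  have hm : ∀ i, ((![.h, .d, .e, .f, .g, .j] : Fin 6 → Fi24.Gen) i) ∈ coxNodes Fi24.edges := by decide
  set t : Fin 6 → Spor.Fi24 := fun i => PresentedGroup.of ((![.h, .d, .e, .f, .g, .j] : Fin 6 → Fi24.Gen) i) with ht
  have hne : ∀ x₀ x₁ : Fi24.Gen, ∀ l : List (Fi24.Gen × Fi24.Gen × Fi24.Gen),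
      (∀ x : Fi24.Gen, x ∈ run Fi24.edges [x₀, x₁] l) →
      (PresentedGroup.of x₁ : Spor.Fi24) ≠ PresentedGroup.of x₀ := fun x₀ x₁ l hl h => hna (comm_of_eq l hl h)
  have hne01 : t 0 ≠ t 1 := by
    exact (hne .h .d [(.i, .h, .d), (.c, .d, .h), (.e, .d, .h), (.b, .c, .d), (.a, .b, .c), (.k, .a, .b), (.l, .k, .a),
      (.f, .e, .d), (.g, .f, .e), (.j, .g, .f)] (by intro x; cases x <;> decide)).symm
  obtain ⟨f, hf, hr, hinj⟩ := H838.Sym.exists_equiv (n := 6) (by norm_num) t
    (fun i => cox_sq (hm i)) (fun i j hij => cox_braid (hm i) (hm j) (by revert i j; decide))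
    (fun i j hij => cox_comm (hm i) (hm j) (by revert i j; decide)) hne01
  set c : Equiv.Perm (Fin 7) := finRotate 7 with hcdef
  have hc7 : orderOf c = 7 := by
    have : Fact (Nat.Prime 7) := ⟨by norm_num⟩
    exact orderOf_eq_prime (by decide) (by decide)
  have hz : orderOf (f c) = 7 := by rw [orderOf_injective f hinj, hc7]
  have hzr : f c ∈ closure (Set.range t) := by rw [← hr]; exact ⟨c, rfl⟩
  have hcomm : ∀ x : Spor.Fi24, (∀ i, x * t i = t i * x) → f c * x = x * f c := by
    intro x hx
    have h1 : closure (Set.range t) ≤ centralizer ({x} : Set Spor.Fi24) := by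
      rw [closure_le]
      rintro _ ⟨i, rfl⟩
      exact mem_centralizer_singleton_iff.2 (hx i).symm
    exact mem_centralizer_singleton_iff.1 (h1 hzr)
  have hzC : f c ∈ commutator Spor.Fi24 := by
    have h1 : f c = (f c ^ 4) ^ 2 := by
      have h2 := pow_orderOf_eq_one (f c)
      rw [hz] at h2
      rw [← pow_mul, show 4 * 2 = 7 + 1 from rfl, pow_succ, h2, one_mul]
    rw [h1]
    exact Subgroup.sq_mem_of_index_two index_commutator _
  set a : Spor.Fi24 := PresentedGroup.of .a with hadef
  set b : Spor.Fi24 := PresentedGroup.of .b with hbdef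
  set l : Spor.Fi24 := PresentedGroup.of .l with hldef
  have hza : f c * a = a * f c := hcomm a (fun i => cox_comm (by decide) (hm i) (by revert i; decide))
  have hzb : f c * b = b * f c := hcomm b (fun i => cox_comm (by decide) (hm i) (by revert i; decide))
  have hzl : f c * l = l * f c := hcomm l (fun i => cox_comm (by decide) (hm i) (by revert i; decide))
  have hla : l * a = a * l := cox_comm (by decide) (by decide) (by decide)
  have hlb : l * b = b * l := cox_comm (by decide) (by decide) (by decide)
  have haa : a * a = 1 := cox_sq (by decide)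
  have hbb : b * b = 1 := cox_sq (by decide)
  have hll : l * l = 1 := cox_sq (by decide)
  have hab : a * b * a = b * a * b := cox_braid (by decide) (by decide) (by decide)
  have hneab : a ≠ b := (hne .a .b [(.k, .a, .b), (.l, .k, .a), (.c, .b, .a), (.d, .c, .b), (.e, .d, .c), (.h, .d, .c),
      (.f, .e, .d), (.g, .f, .e), (.j, .g, .f), (.i, .h, .d)] (by intro x; cases x <;> decide)).symm
  have hai : a⁻¹ = a := inv_eq_of_mul_eq_one_right haa
  have hbi : b⁻¹ = b := inv_eq_of_mul_eq_one_right hbb
  have hli : l⁻¹ = l := inv_eq_of_mul_eq_one_right hll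
  have hnela : l ≠ a := by
    intro h
    apply hneab
    have h1 : a * b = b * a := by rw [← h]; exact hlb
    have h2 : a * b * a = b := by rw [h1, mul_assoc, haa, mul_one]
    have h3 : b * a * b = a := by rw [← h1, mul_assoc, hbb, mul_one]
    rw [← h3, ← hab, h2]
  have haL : a ∈ L := gen_mem_L .a
  have hbL : b ∈ L := gen_mem_L .b
  have hlL : l ∈ L := gen_mem_L .l
  obtain ⟨P⟩ := Cfsg.Agent.R08.TetFi24A.exists_at hlL haL hnela hla
  -- the elements
  let z' : Spor.Fi24' := ⟨f c, hzC⟩
  let d' : Spor.Fi24' := ⟨l * a, even hlL haL⟩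
  let q' : Spor.Fi24' := ⟨a * b, even haL hbL⟩
  have hd2 : orderOf d' = 2 := by
    apply orderOf_eq_prime (p := 2)
    · apply Subtype.ext
      show (l * a) ^ 2 = 1
      rw [pow_two]
      calc l * a * (l * a) = l * (a * l) * a := by group
        _ = l * (l * a) * a := by rw [hla]
        _ = (l * l) * (a * a) := by group
        _ = 1 := by rw [hll, haa, one_mul]
    · intro h
      have h1 : l * a = 1 := congrArg Subtype.val h
      exact hnela ((eq_inv_of_mul_eq_one_left h1).trans hai)
  have hq : q' * d' * q'⁻¹ * d'⁻¹ = ⟨b * a, even hbL haL⟩ := by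
    apply Subtype.ext
    show (a * b) * (l * a) * (a * b)⁻¹ * (l * a)⁻¹ = b * a
    rw [mul_inv_rev, mul_inv_rev, hai, hbi, hli]
    calc (a * b) * (l * a) * (b * a) * (a * l) = a * (b * l) * a * b * (a * a) * l := by group
      _ = a * (l * b) * a * b * l := by rw [haa, mul_one, hlb]
      _ = (a * l) * b * a * b * l := by group
      _ = (l * a) * b * a * b * l := by rw [hla]
      _ = l * (a * b * a) * b * l := by group
      _ = l * (b * a * b) * b * l := by rw [hab]
      _ = l * b * a * (b * b) * l := by group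
      _ = l * b * (a * l) := by rw [hbb]; group
      _ = l * (b * l) * a := by rw [← hla]; group
      _ = l * (l * b) * a := by rw [hlb]
      _ = (l * l) * b * a := by group
      _ = b * a := by rw [hll, one_mul]
  have h3 : (b * a) ^ 3 = 1 := by
    calc (b * a) ^ 3 = (b * a * b) * (a * b * a) := by rw [pow_succ, pow_two]; group
      _ = (b * a * b) * (b * a * b) := by rw [hab]
      _ = b * a * (b * b) * a * b := by group
      _ = b * (a * a) * b := by rw [hbb]; group
      _ = 1 := by rw [haa, mul_one, hbb]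
  refine Kill.of_inf (r := 7) (by norm_num) (z := z') (d := d') (q := q') ?_ (by rw [hd2]; norm_num) ?_ ?_ ?_ ?_ ?_
  · rw [← orderOf_coe]
    exact hz
  · apply Subtype.ext
    show f c * (l * a) = l * a * f c
    rw [← mul_assoc, hzl, mul_assoc, hza, mul_assoc]
  · intro h
    have h5 : Nat.card ↥(centralizer ({z'} : Set Spor.Fi24') ⊓ centralizer ({d'} : Set Spor.Fi24')) ∣
        Nat.card ↥(centralizer ({d'} : Set Spor.Fi24')) := Subgroup.card_dvd_of_le inf_le_right
    have h6 := Cfsg.Agent.H237.EvenFi.relIndex_dvd P (t := d') rfl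
    have h7 : (Cfsg.Agent.CTwoTab.FiTF.N l a).relIndex (centralizer ({d'} : Set Spor.Fi24')) *
        Nat.card ↥(Cfsg.Agent.CTwoTab.FiTF.N l a) = Nat.card ↥(centralizer ({d'} : Set Spor.Fi24')) := by
      rw [mul_comm, ← Subgroup.relIndex_bot_left, ← Subgroup.relIndex_bot_left]
      exact Subgroup.relIndex_mul_relIndex _ _ _ bot_le (Cfsg.Agent.CTwoTab.FiTF.N_le (t := d') rfl)
    have h8 : Nat.card ↥(Cfsg.Agent.CTwoTab.FiTF.N l a) = 2 * 64561751654400 := by
      rw [Nat.card_congr (Cfsg.Agent.CTwoTab.FiTF.eN l a).toEquiv]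
      exact Cfsg.Agent.OddHalf.D4.Spor.FiTF.card_Cab P
    rw [h8] at h7
    have h9 : Nat.card ↥(centralizer ({d'} : Set Spor.Fi24')) ∣ 2 * (2 * 64561751654400) := by
      rw [← h7]
      exact mul_dvd_mul_right h6 _
    exact absurd ((h.trans h5).trans h9) (by norm_num)
  · apply Subtype.ext
    show a * b * f c = f c * (a * b)
    rw [← mul_assoc, hza, mul_assoc, ← hzb, mul_assoc]
  · rw [hq, hd2]
    have h4 : (⟨b * a, even hbL haL⟩ : Spor.Fi24') ^ 3 = 1 := Subtype.ext h3
    exact Nat.Coprime.coprime_dvd_left (orderOf_dvd_of_pow_eq_one h4) (by norm_num)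
  · rw [hq]
    intro h
    have h1 : b * a * (l * a) = l * a * (b * a) := congrArg Subtype.val h
    apply hneab
    have h2 : b * a * (l * a) = l * b := by
      calc b * a * (l * a) = b * (a * l) * a := by group
        _ = b * (l * a) * a := by rw [hla]
        _ = (b * l) * (a * a) := by group
        _ = l * b := by rw [haa, mul_one, hlb]
    have h4 : l * b = l * (a * b * a) := by rw [← h2, h1]; group
    have h5 : b = b * a * b := by rw [← hab]; exact mul_left_cancel h4
    have h6 : a * b = 1 := by
      have : b * (a * b) = b * 1 := by rw [mul_one, ← mul_assoc]; exact h5.symm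
      exact mul_left_cancel this
    exact (eq_inv_of_mul_eq_one_left h6).trans hbi

end Cfsg.Agent.H480
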