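import Cfsg.Agent.H480.SporTools
import Cfsg.Agent.S1701
import Cfsg.Agent.HN.A12Group

/-!
# Nilpotent minimal covers: `HN` (helper480, S3925, S3926)
-/

set_option autoImplicit false

namespace Cfsg.Agent.H480

open Subgroup Equiv

/-- an alternating subgroup of degree `n ≥ p + 4`, `p` dividing the order once -/
theorem Kill.of_alt {S : Type*} [Group S] [Finite S] {n : ℕ} (f : ↥(alternatingGroup (Fin n)) →* S)
    (hf : Function.Injective f) {p : ℕ} (hp : p.Prime) (h2 : ¬ p ^ 2 ∣ Nat.card S) {σ a b : Perm (Fin n)}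
    (hσ : σ ∈ alternatingGroup (Fin n)) (ha : a ∈ alternatingGroup (Fin n)) (hb : b ∈ alternatingGroup (Fin n))
    (hσp : orderOf σ = p) (haσ : a * σ = σ * a) (hbσ : b * σ = σ * b) {k l : ℕ} (hkl : k.Coprime l)
    (hak : a ^ k = 1) (hbl : b ^ l = 1) (hab : a * b ≠ b * a) : Kill S := by
  refine Kill.of_noncomm hp h2 (z := f ⟨σ, hσ⟩) (a := f ⟨a, ha⟩) (b := f ⟨b, hb⟩) ?_ ?_ ?_ hkl ?_ ?_ ?_
  · rw [orderOf_injective f hf, ← orderOf_coe]
    exact hσp
  · rw [← map_mul, ← map_mul]
    exact congrArg f (Subtype.ext haσ)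
  · rw [← map_mul, ← map_mul]
    exact congrArg f (Subtype.ext hbσ)
  · rw [← map_pow, ← map_one f]
    exact congrArg f (Subtype.ext hak)
  · rw [← map_pow, ← map_one f]
    exact congrArg f (Subtype.ext hbl)
  · intro h
    rw [← map_mul, ← map_mul] at h
    exact hab (congrArg Subtype.val (hf h))

theorem kill_hn : Kill Cfsg.Spor.HN := by
  have h := Cfsg.Agent.S1701.result
  have hs : IsSimpleGroup Cfsg.Spor.HN := h.1
  have hcard : Nat.card Cfsg.Spor.HN = 273030912000000 := h.2
  have hf7 : Fact (Nat.Prime 7) := ⟨by norm_num⟩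
  have hfin : Finite Cfsg.Spor.HN := Nat.finite_of_card_ne_zero (by rw [hcard]; norm_num)
  obtain ⟨K, ⟨e⟩⟩ := HN.A12Group.exists_alternating
  have hsg : ∀ a b c : Fin 12, a ≠ b → b ≠ c → swap a b * swap b c ∈ alternatingGroup (Fin 12) := by
    intro a b c h1 h2
    rw [Equiv.Perm.mem_alternatingGroup, Equiv.Perm.sign_mul, Equiv.Perm.sign_swap h1, Equiv.Perm.sign_swap h2]
    rfl
  refine Kill.of_alt (n := 12) ((Subgroup.subtype K).comp e.symm.toMonoidHom)
    (fun a b hab => e.symm.injective (Subtype.ext hab)) (p := 7) (by norm_num) (by rw [hcard]; norm_num)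
    (σ := (swap 0 1 * swap 1 2) * (swap 2 3 * swap 3 4) * (swap 4 5 * swap 5 6))
    (a := swap 7 8 * swap 8 9) (b := swap 7 8 * swap 10 11)
    (mul_mem (mul_mem (hsg _ _ _ (by decide) (by decide)) (hsg _ _ _ (by decide) (by decide)))
      (hsg _ _ _ (by decide) (by decide)))
    (hsg _ _ _ (by decide) (by decide))
    (by
      rw [Equiv.Perm.mem_alternatingGroup, Equiv.Perm.sign_mul, Equiv.Perm.sign_swap (by decide),
        Equiv.Perm.sign_swap (by decide)]
      rfl)
    (orderOf_eq_prime (by decide +kernel) (by decide +kernel)) (by decide +kernel) (by decide +kernel)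
    (k := 3) (l := 2) (by norm_num) (by decide +kernel) (by decide +kernel) (by decide +kernel)

end Cfsg.Agent.H480
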