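import Cfsg.Agent.H480.SporIso
import Cfsg.Agent.S2134

/-!
# Nilpotent minimal covers: `He` (helper480, S3925, S3926)
-/

set_option autoImplicit false

namespace Cfsg.Agent.H480.HeRow

open Subgroup

abbrev M5 : Type := Matrix (Fin 5) (Fin 5) (ZMod 2)
abbrev SL5 : Type := Matrix.SpecialLinearGroup (Fin 5) (ZMod 2)

def mD : M5 := !![1,0,0,0,0; 0,1,0,0,0; 0,0,0,0,1; 0,0,1,0,1; 0,0,0,1,0]
def mS : M5 := !![1,1,0,0,0; 0,1,0,0,0; 0,0,1,0,0; 0,0,0,1,0; 0,0,0,0,1]
def mQ : M5 := !![1,0,1,0,0; 0,1,0,0,0; 0,0,1,0,0; 0,0,0,1,0; 0,0,0,0,1]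

theorem mS_eq : Matrix.transvection (0 : Fin 5) 1 (1 : ZMod 2) = mS := by decide +kernel

theorem row_key : ∀ a b c : ZMod 2, b = a → c = b → a + b = c → a = 0 ∧ b = 0 ∧ c = 0 := by decide

theorem key {M : M5} (h1 : M * mD = mD * M) (h2 : M * mS = mS * M) (h3 : M * M = 1) : M = 1 ∨ M = mS := by
  have e : ∀ i j, (M * mD) i j = (mD * M) i j := fun i j => by rw [h1]
  have f : ∀ i j, (M * mS) i j = (mS * M) i j := fun i j => by rw [h2]
  have g : ∀ i j, (M * M) i j = (1 : M5) i j := fun i j => by rw [h3]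
  simp only [Matrix.mul_apply, Fin.sum_univ_five] at e f g
  have b0 := And.intro (e 0 2) (And.intro (e 0 3) (e 0 4))
  have b1 := And.intro (e 1 2) (And.intro (e 1 3) (e 1 4))
  have c0 := And.intro (e 2 0) (And.intro (e 3 0) (e 4 0))
  have c1 := And.intro (e 2 1) (And.intro (e 3 1) (e 4 1))
  have a0 := And.intro (f 0 0) (And.intro (f 0 1) (And.intro (f 1 0) (f 1 1)))
  have e2 := And.intro (e 2 2) (And.intro (e 2 3) (e 2 4))
  have e3 := And.intro (e 3 2) (And.intro (e 3 3) (e 3 4))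
  have e4 := And.intro (e 4 2) (And.intro (e 4 3) (e 4 4))
  simp [mD] at b0 b1 c0 c1 e2 e3 e4
  simp [mS] at a0
  have rk : ∀ a b c : ZMod 2, b = a → c = b → a + b = c → a = 0 ∧ b = 0 ∧ c = 0 := by decide
  have ck : ∀ a b c : ZMod 2, a = c → b = a + c → c = b → a = 0 ∧ b = 0 ∧ c = 0 := by decide
  obtain ⟨p02, p03, p04⟩ := rk _ _ _ b0.1 b0.2.1 b0.2.2
  obtain ⟨p12, p13, p14⟩ := rk _ _ _ b1.1 b1.2.1 b1.2.2
  obtain ⟨p20, p30, p40⟩ := ck _ _ _ c0.1 c0.2.1 c0.2.2
  obtain ⟨p21, p31, p41⟩ := ck _ _ _ c1.1 c1.2.1 c1.2.2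
  have p10 := a0.1
  have g00 := g 0 0
  have g22 := g 2 2
  have g32 := g 3 2
  have g42 := g 4 2
  have g11 := g 1 1
  obtain ⟨q23, q24, q44⟩ := e2
  obtain ⟨q33, q34, -⟩ := e3
  obtain ⟨q43, -, -⟩ := e4
  rw [p10, p20, p30, p40, mul_zero, mul_zero, mul_zero, mul_zero] at g00
  rw [p10, p21, p31, p41, mul_zero, mul_zero, mul_zero, zero_mul] at g11
  rw [p02, p12, mul_zero, mul_zero] at g22 g32 g42
  rw [q24, q43, q23] at g22
  rw [q34, q33, q43, q23] at g32
  rw [q43, ← q44, q23] at g42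
  have k22 : (1 : M5) 2 2 = 1 := by decide
  have k32 : (1 : M5) 3 2 = 0 := by decide
  have k42 : (1 : M5) 4 2 = 0 := by decide
  have k00 : (1 : M5) 0 0 = 1 := by decide
  have k11 : (1 : M5) 1 1 = 1 := by decide
  rw [k22] at g22
  rw [k32] at g32
  rw [k42] at g42
  rw [k00] at g00
  rw [k11] at g11
  have ek : ∀ x y w : ZMod 2, 0 + 0 + x * x + y * w + w * y = 1 → 0 + 0 + w * x + (x + y) * w + (y + w) * y = 0 →
      0 + 0 + y * x + w * w + (x + y) * y = 0 → x = 1 ∧ y = 0 ∧ w = 0 := by decide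
  obtain ⟨r22, r42, r32⟩ := ek _ _ _ g22 g32 g42
  have ak : ∀ x : ZMod 2, x * x + 0 + 0 + 0 + 0 = 1 → x = 1 := by decide
  have r00 := ak _ g00
  have ak' : ∀ x : ZMod 2, 0 + x * x + 0 + 0 + 0 = 1 → x = 1 := by decide
  have r11 := ak' _ g11
  clear e f g b0 b1 c0 c1 rk ck ek ak ak' h1 h2 h3 g00 g22 g32 g42 g11
  have s23 : M 2 3 = 0 := q23.trans r42
  have s43 : M 4 3 = 0 := q43.trans r32
  have s24 : M 2 4 = 0 := q24.trans s43
  have s44 : M 4 4 = 1 := by rw [← q44, r22, s23]; decide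
  have s33 : M 3 3 = 1 := by rw [q33, r22, r42]; decide
  have s34 : M 3 4 = 0 := by rw [q34, s23, s43]; decide
  clear q23 q24 q44 q33 q34 q43 a0
  have hM : ∀ c : ZMod 2, M 0 1 = c → M = !![1,c,0,0,0; 0,1,0,0,0; 0,0,1,0,0; 0,0,0,1,0; 0,0,0,0,1] := by
    intro c hc
    ext i j
    fin_cases i <;> fin_cases j <;>
      first
        | exact r00 | exact hc | exact p02 | exact p03 | exact p04
        | exact p10 | exact r11 | exact p12 | exact p13 | exact p14
        | exact p20 | exact p21 | exact r22 | exact s23 | exact s24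
        | exact p30 | exact p31 | exact r32 | exact s33 | exact s34
        | exact p40 | exact p41 | exact r42 | exact s43 | exact s44
  have hc : ∀ c : ZMod 2, c = 0 ∨ c = 1 := by decide
  rcases hc (M 0 1) with h | h
  · left
    rw [hM 0 h]
    decide
  · right
    exact hM 1 h

theorem det_D : mD.det = 1 := by
  rw [Matrix.det_apply]
  decide +kernel

theorem det_Q : mQ.det = 1 := by
  rw [Matrix.det_apply]
  decide +kernel

theorem det_S : mS.det = 1 := by
  rw [Matrix.det_apply]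
  decide +kernel

def sD : SL5 := ⟨mD, det_D⟩
def sQ : SL5 := ⟨mQ, det_Q⟩
def sS : SL5 := ⟨mS, det_S⟩

theorem QS : sQ * sS = sS * sQ := Subtype.ext (by decide +kernel)
theorem DS : sD * sS = sS * sD := Subtype.ext (by decide +kernel)
theorem QQ : sQ * sQ = 1 := Subtype.ext (by decide +kernel)
theorem D7 : sD * sD * sD * sD * sD * sD * sD = 1 := Subtype.ext (by decide +kernel)
theorem D_ne : sD ≠ 1 := fun h => absurd (congrArg Subtype.val h) (by decide)

def cD : ↥(centralizer ({sS} : Set SL5)) := ⟨sD, mem_centralizer_singleton_iff.2 DS⟩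
def cQ : ↥(centralizer ({sS} : Set SL5)) := ⟨sQ, mem_centralizer_singleton_iff.2 QS⟩

theorem cQ_inv : cQ⁻¹ = cQ := inv_eq_of_mul_eq_one_left (Subtype.ext QQ)

theorem cD_inv : cD⁻¹ = cD * cD * cD * cD * cD * cD :=
  inv_eq_of_mul_eq_one_left (Subtype.ext D7)

theorem cD_order : orderOf cD = 7 := by
  have hf7 : Fact (Nat.Prime 7) := ⟨by norm_num⟩
  refine orderOf_eq_prime ?_ (fun h => D_ne (congrArg Subtype.val h))
  have h1 : cD * cD * cD * cD * cD * cD * cD = 1 := Subtype.ext D7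
  rw [← h1]
  simp only [pow_succ, pow_zero, one_mul]

theorem kill_he : Kill Cfsg.Spor.He := by
  obtain ⟨z, hz, ⟨e⟩⟩ := Cfsg.Agent.S2134.result sS (mS_eq.symm)
  refine Kill.of_cent_iso Nat.prime_two hz e ?_
  intro w hw hwc
  have hcase : ∀ x : ↥(centralizer ({sS} : Set SL5)), orderOf x = 2 → x * cD = cD * x → x = ⟨sS, mem_centralizer_singleton_iff.2 rfl⟩ := by
    intro x hx hxd
    have hxx : x * x = 1 := by
      have h0 := pow_orderOf_eq_one x
      rw [hx, pow_two] at h0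
      exact h0
    have k2 : (x : SL5) * sS = sS * x := mem_centralizer_singleton_iff.1 x.2
    have k1 : (x : SL5) * sD = sD * x := congrArg Subtype.val hxd
    have k3 : (x : SL5) * x = 1 := congrArg Subtype.val hxx
    have h1 := key (M := ((x : SL5) : M5)) (congrArg Subtype.val k1) (congrArg Subtype.val k2)
      (congrArg Subtype.val k3)
    rcases h1 with h | h
    · exfalso
      have h2 : x = 1 := Subtype.ext (Subtype.ext h)
      rw [h2, orderOf_one] at hx
      exact absurd hx (by norm_num)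
    · exact Subtype.ext (Subtype.ext h)
  refine ⟨cD, by rw [cD_order]; norm_num, ?_, cQ, ?_, ?_⟩
  · intro y hy hyd
    rw [hcase y hy hyd, ← hcase w hw (hwc cD).symm]
    exact mem_zpowers w
  · have hf2 : Fact (Nat.Prime 2) := ⟨Nat.prime_two⟩
    have h2 : orderOf (cQ * cD * cQ⁻¹ * cD⁻¹) = 2 := by
      rw [cQ_inv, cD_inv]
      refine orderOf_eq_prime ?_ ?_
      · rw [pow_two]
        exact Subtype.ext (Subtype.ext (by decide +kernel))
      · intro h
        have h' := congrArg Subtype.val (congrArg Subtype.val h)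
        revert h'
        decide +kernel
    rw [h2, cD_order]
    norm_num
  · rw [cQ_inv, cD_inv]
    intro h
    have h' := congrArg Subtype.val (congrArg Subtype.val h)
    revert h'
    decide +kernel

end Cfsg.Agent.H480.HeRow
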