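import Cfsg.Agent.H480.SporTools
import Cfsg.Agent.S2131
import Cfsg.Agent.S2132

/-!
# Nilpotent minimal covers: `J1`, `McL` (helper480, S3925, S3926)
-/

set_option autoImplicit false

namespace Cfsg.Agent.H480

open Subgroup

theorem kill_j1 : Kill ↥Cfsg.Spor.J1 := by
  obtain ⟨t, ht, ⟨e⟩⟩ := Cfsg.Agent.S2131.result
  exact Kill.of_prod ht e (q := 5) (by norm_num) (by norm_num) (dvd_card_alt (by norm_num) (by norm_num) le_rfl)
    (fun a b ha hb => alt_not_comm_two (p := 5) (by norm_num) (by norm_num) (by norm_num) a b ha hb)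
    (alt_normal_not_nilpotent le_rfl)

theorem kill_mcl : Kill ↥Cfsg.Spor.McL := by
  obtain ⟨-, t, ht, h2, ⟨e⟩, -⟩ := Cfsg.Agent.S2132.result
  exact Kill.of_cover ht h2 e (q := 7) (by norm_num) (by norm_num)
    (dvd_card_alt (by norm_num) (by norm_num) (by norm_num))
    (fun a b ha hb => alt_not_comm_two (p := 7) (by norm_num) (by norm_num) (by norm_num) a b ha hb)
    (alt_normal_not_nilpotent (by norm_num))

end Cfsg.Agent.H480
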