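import Cfsg.Agent.H480.SporTools
import Cfsg.Agent.H315.JThreeFact

/-!
# Nilpotent minimal covers: `J3` (helper480, S3925, S3926)
-/

set_option autoImplicit false

namespace Cfsg.Agent.H480

open Subgroup Equiv

/-- an element of order `p` of the alternating group -/
theorem alt_exists {n p : ℕ} (hp : p.Prime) (hp2 : 3 ≤ p) (hn : p ≤ n) :
    ∃ σ ∈ alternatingGroup (Fin n), orderOf σ = p := by
  have hf : Fact p.Prime := ⟨hp⟩
  obtain ⟨σ, hσ⟩ := exists_prime_orderOf_dvd_card' (G := ↥(alternatingGroup (Fin n))) p (dvd_card_alt hp hp2 hn)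
  exact ⟨σ, σ.2, by rw [orderOf_coe]; exact hσ⟩

/-- `C(z)` with normal 2-subgroup `Q`, quotient `A5` -/
theorem Kill.of_two_alt {S : Type*} [Group S] [Finite S] {z : S} (hz : orderOf z = 2)
    (π : ↥(centralizer ({z} : Set S)) →* Perm (Fin 5)) (hr : π.range = alternatingGroup (Fin 5)) {n : ℕ}
    (hker : Nat.card π.ker = 2 ^ n) (hnum : ∀ i < n, 2 ^ n ≡ 2 ^ i [MOD 5] → i ≤ 1)
    (hcen : ∀ c : ↥(centralizer ({z} : Set S)), (∀ k ∈ π.ker, c * k = k * c) → (c : S) = 1 ∨ (c : S) = z) :
    Kill S := by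
  obtain ⟨σ, hσ, hσ5⟩ := alt_exists (n := 5) (p := 5) (by norm_num) (by norm_num) le_rfl
  refine Kill.of_two_quot hz π (p := 5) (by norm_num) (by norm_num) hker (σ := σ) (by rw [hr]; exact hσ) hσ5 ?_
    hnum ?_
  · intro y hy hyσ
    exact eq_one_of_comm_cycle (a := σ) (p := 5) (m := 2) (by norm_num) hσ5 (by simp) (by norm_num) hy (by norm_num)
      hyσ.symm
  · intro c hc
    rcases hcen c hc with h | h
    · have h1 : c = 1 := Subtype.ext h
      rw [h1, map_one]
    · -- `π z` is central in `A5`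
      have h1 : ∀ g : ↥(centralizer ({z} : Set S)), c * g = g * c := by
        intro g
        apply Subtype.ext
        rw [Subgroup.coe_mul, Subgroup.coe_mul, h]
        exact (mem_centralizer_singleton_iff.1 g.2).symm
      have hcr : π c ∈ alternatingGroup (Fin 5) := by rw [← hr]; exact ⟨c, rfl⟩
      have h2 : (⟨π c, hcr⟩ : ↥(alternatingGroup (Fin 5))) ∈ center ↥(alternatingGroup (Fin 5)) := by
        rw [mem_center_iff]
        rintro ⟨g, hg⟩
        rw [← hr] at hg
        obtain ⟨g, rfl⟩ := hg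
        apply Subtype.ext
        change π g * π c = π c * π g
        rw [← map_mul, ← h1, map_mul]
      rw [alternatingGroup.center_eq_bot (by simp), mem_bot] at h2
      exact congrArg Subtype.val h2

theorem kill_j3 {K : Type*} [Group K] (h : Cfsg.Spor.IsoJ3 K) : Kill K := by
  obtain ⟨-, z, Q, v, ρ, n, u, F⟩ := Cfsg.Agent.KFacts.J3.exists_facts h
  have hfin : Finite K := Nat.finite_of_card_ne_zero (by rw [F.card_K]; norm_num)
  have hf2 : Fact (Nat.Prime 2) := ⟨Nat.prime_two⟩
  obtain ⟨x, hx⟩ := exists_prime_orderOf_dvd_card' (G := K) 2 (by rw [F.card_K]; norm_num)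
  obtain ⟨ψ, h1, h2, h3⟩ := Cfsg.Agent.H315.JThreeFact.exists_psi h x hx
  exact Kill.of_two_alt hx ψ h1 (n := 5) (by rw [h2]; norm_num) (by decide) h3

end Cfsg.Agent.H480
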