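import Cfsg.Agent.H480.SporJThree
import Cfsg.Agent.KFacts.J2.Facts
import Cfsg.Agent.J2Sylow.SporSylow

/-!
# Nilpotent minimal covers: `J2` (helper480, S3925, S3926)
-/

set_option autoImplicit false

namespace Cfsg.Agent.H480

open Subgroup Equiv
open Cfsg.Agent.J2Type.Model Cfsg.Agent.J3Type.OneClass

theorem Kill.of_model {K : Type*} [Group K] [Finite K] {x : K} {Q : Subgroup (centralizer ({x} : Set K))}
    {v : Fin 5 → centralizer ({x} : Set K)} {ρ : centralizer ({x} : Set K) →* SP} (M : IsModel Q (zc x) v ρ)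
    (hC : Nat.card (centralizer ({x} : Set K)) = 1920) : Kill K := by
  have hx2 : x * x = 1 := congrArg Subtype.val M.z_sq
  have hx1 : x ≠ 1 := fun h => M.z_ne (Subtype.ext h)
  have hran : (Cfsg.Agent.H315.JThreeFact.perm ρ).range = alternatingGroup (Fin 5) := by
    ext σ
    rw [Equiv.Perm.mem_alternatingGroup]
    constructor
    · rintro ⟨c, rfl⟩
      exact ((M.range _).1 ⟨_, rfl⟩).1
    · intro hσ
      obtain ⟨c, hc⟩ := (M.range ⟨σ, fun _ => 0⟩).2 ⟨hσ, by simp⟩
      refine ⟨c, ?_⟩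
      show (ρ c).σ = σ
      rw [hc]
  refine Kill.of_two_alt (orderOf_eq_prime (by rw [pow_two]; exact hx2) hx1)
    (Cfsg.Agent.H315.JThreeFact.perm ρ) hran (n := 5) ?_ (by decide) ?_
  · have h1 := Subgroup.card_mul_index (Cfsg.Agent.H315.JThreeFact.perm ρ).ker
    rw [Subgroup.index_ker, hran, hC] at h1
    have h2 : Nat.card (alternatingGroup (Fin 5)) = 60 := by
      rw [Nat.card_eq_fintype_card]; rfl
    rw [h2] at h1
    omega
  · intro y hy
    have hv : ∀ i, y * v i = v i * y := by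
      intro i
      have hk : v i ∈ (Cfsg.Agent.H315.JThreeFact.perm ρ).ker := by
        rw [MonoidHom.mem_ker]
        exact (M.mem_Q _).1 (M.v_mem i)
      exact hy _ hk
    have hρ : ρ y = 1 := by
      have h1 : ∀ i, (0 : ZMod 2) = (ρ y).s i ∧ i = (ρ y).σ i := by
        intro i
        apply M.v_inj
        rw [zp_zero, one_mul, ← M.conj, hv i, mul_inv_cancel_right]
      apply SP.ext
      · apply Equiv.ext
        intro i
        exact (h1 i).2.symm
      · funext i
        exact (h1 i).1.symm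
    rcases (M.ker _).1 hρ with h1 | h1
    · left; rw [h1]; rfl
    · right; rw [h1]

theorem kill_j2 : Kill Cfsg.Spor.J2 := by
  have hcard : Nat.card Cfsg.Spor.J2 = 604800 := Cfsg.Agent.J2Sylow.SporSylow.card_J2
  have hfin : Finite Cfsg.Spor.J2 := Nat.finite_of_card_ne_zero (by rw [hcard]; norm_num)
  obtain ⟨t, u, Q, v, ρ, D⟩ := Cfsg.Agent.KFacts.J2.Facts.exists_dat_of (X := Cfsg.Spor.J2) ⟨MulEquiv.refl _⟩
  exact Kill.of_model D.M D.cardC

end Cfsg.Agent.H480
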