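import Cfsg.Agent.H480.SporTools
import Cfsg.Agent.TypeM.FactsLy

/-!
# Nilpotent minimal covers: `Ly` (helper480, S3925, S3926)
-/

set_option autoImplicit false

namespace Cfsg.Agent.H480

open Subgroup

theorem Kill.of_mt {n : ℕ} {S : Type*} [Group S] (L : Cfsg.Agent.TypeM.Two.MT n S) (hn : 5 ≤ n) {p : ℕ} (hp : p.Prime)
    (hp3 : 3 ≤ p) (hpn : p ≤ n) (hnp : n ≤ p + 1) : Kill S := by
  refine Kill.of_hom (z := L.t) L.orderOf_t
    (L.K.π.codRestrict (alternatingGroup (Fin n)) fun x => L.K.mem_alternating x) ?_ ?_ hp (by omega)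
    (dvd_card_alt hp hp3 hpn) (alt_not_comm_two hp hp3 hnp) (alt_normal_not_nilpotent hn)
  · rintro ⟨σ, hσ⟩
    obtain ⟨g, hg⟩ := L.K.exists_lift hσ
    exact ⟨g, Subtype.ext hg⟩
  · intro x hx
    have h1 : L.K.π x = 1 := congrArg Subtype.val hx
    rcases (L.K.ker x).1 h1 with h | h
    · left; rw [h]; rfl
    · right; rw [h, L.hz]

theorem kill_ly : Kill Cfsg.Spor.Ly := by
  obtain ⟨L⟩ := Cfsg.Agent.TypeM.FactsLy.exists_mt_ly
  exact Kill.of_mt L (by norm_num) (p := 11) (by norm_num) (by norm_num) le_rfl (by norm_num)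

end Cfsg.Agent.H480
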