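import Cfsg.Agent.H480.KillNil
import Cfsg.Agent.S5604
import Cfsg.Agent.S0364
import Cfsg.Agent.S1711
import Cfsg.Agent.S1703

/-!
# Nilpotent minimal covers: `M24`, `J4` (helper480, S3925, S3926)
-/

set_option autoImplicit false

namespace Cfsg.Agent.H480

open Subgroup

theorem m24_seven : ∃ z : ↥Cfsg.M24, orderOf z = 7 ∧ ¬ Group.IsNilpotent ↥(centralizer ({z} : Set ↥Cfsg.M24)) := by
  have hcard := Cfsg.Agent.S0364.result
  have hfin : Finite ↥Cfsg.M24 := inferInstance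
  have hf7 : Fact (Nat.Prime 7) := ⟨by norm_num⟩
  obtain ⟨z, hz⟩ := exists_prime_orderOf_dvd_card' (G := ↥Cfsg.M24) 7 (by rw [hcard]; norm_num)
  obtain ⟨-, h42, ⟨x, hx, y, hy, hxy⟩, -⟩ := Cfsg.Agent.S5604.result (zpowers z) (by rw [Nat.card_zpowers, hz])
  have hC : centralizer ({z} : Set ↥Cfsg.M24) = centralizer ((zpowers z : Subgroup ↥Cfsg.M24) : Set ↥Cfsg.M24) := by
    rw [← centralizer_closure, zpowers_eq_closure]
  refine ⟨z, hz, ?_⟩
  rw [hC]
  refine not_nilpotent_of_squarefree ?_ ⟨⟨x, hx⟩, ⟨y, hy⟩, fun h => hxy (congrArg Subtype.val h)⟩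
  rw [h42, show 42 = 2 * 3 * 7 by norm_num, Nat.squarefree_mul (by norm_num), Nat.squarefree_mul (by norm_num)]
  exact ⟨⟨Nat.prime_two.squarefree, Nat.prime_three.squarefree⟩, (by norm_num : Nat.Prime 7).squarefree⟩

theorem kill_m24 : Kill ↥Cfsg.M24 := by
  obtain ⟨z, hz, h⟩ := m24_seven
  refine Kill.of_nonnil (r := 7) (by norm_num) ?_ hz h
  rw [Cfsg.Agent.S0364.result]
  norm_num

theorem kill_j4 : Kill Cfsg.Spor.J4 := by
  obtain ⟨e⟩ := Cfsg.Agent.S1711.result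
  obtain ⟨z, hz, h⟩ := m24_seven
  have hcard : Nat.card Cfsg.Spor.J4 = 86775571046077562880 := Cfsg.Agent.S1703.result.2
  have hfin : Finite Cfsg.Spor.J4 := Nat.finite_of_card_ne_zero (by rw [hcard]; norm_num)
  refine Kill.of_emb ((Subgroup.subtype _).comp e.symm.toMonoidHom)
    (fun a b hab => e.symm.injective (Subtype.ext hab)) (r := 7) (by norm_num) ?_ hz h
  rw [hcard]
  norm_num

end Cfsg.Agent.H480
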