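import Cfsg.Agent.H480.Prime
import Cfsg.Agent.H480.Row
import Cfsg.Agent.S2062
import Cfsg.Agent.S2063
import Cfsg.Agent.S0366
import Cfsg.Agent.S5599
import Cfsg.Agent.J4Type.OuterM22
import Cfsg.Agent.H337.MTwentyFour
import Cfsg.Agent.SporadicA.MathieuRecog

/-!
# Nilpotent minimal covers: `M22`, `M23` (helper480, S3925, S3926)
-/

set_option autoImplicit false

namespace Cfsg.Agent.H480

open Subgroup Equiv

universe u v

open scoped Pointwise

/-- the row from a prime dividing the order of the automorphism group once -/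
theorem Row.of_prime_aut {S : Type v} [Group S] [Finite S] {p : ℕ} (hp : p.Prime) {x : S} (hx : orderOf x = p)
    (hpp : ¬ p ^ 2 ∣ Nat.card (MulAut S)) (Y : Subgroup S) (hYt : Y ≠ ⊤)
    (hC : ∀ α : MulAut S, α x = x → ∀ y ∈ Y, α y ∈ Y) {m : S} (hm : m ∈ Y) (hmx : m * x * m⁻¹ ∉ zpowers x) :
    Row.{u} S := by
  intro G _ _ K hK hs hna hc hcyc f 𝓐 hA
  exact hA.not_of_prime_aut hs hc f hp hx hpp Y hYt hC hm hmx

theorem inj_five' {X : Type*} {a b c d e : X} (h1 : a ≠ b) (h2 : a ≠ c) (h3 : a ≠ d) (h4 : a ≠ e)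
    (h5 : b ≠ c) (h6 : b ≠ d) (h7 : b ≠ e) (h8 : c ≠ d) (h9 : c ≠ e) (h10 : d ≠ e) :
    Function.Injective ![a, b, c, d, e] := by
  intro i j h
  fin_cases i <;> fin_cases j <;> first | rfl | exact absurd h (by assumption) |
    exact absurd h.symm (by assumption)

open Cfsg in
/-- moving one point, four points fixed -/
theorem exists_fix_four {a b c d e e' : GolayPt} (h : Function.Injective ![a, b, c, d, e])
    (h' : Function.Injective ![a, b, c, d, e']) :
    ∃ m ∈ M24, m a = a ∧ m b = b ∧ m c = c ∧ m d = d ∧ m e = e' := by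
  obtain ⟨g, hg⟩ := (MulAction.isMultiplyPretransitive_iff.mp Cfsg.Agent.S0366.result)
    (⟨_, h⟩ : Fin 5 ↪ GolayPt) (⟨_, h'⟩ : Fin 5 ↪ GolayPt)
  have hg' : ∀ i : Fin 5, (g : Perm GolayPt) (![a, b, c, d, e] i) = ![a, b, c, d, e'] i := by
    intro i
    have := congrArg (fun f : Fin 5 ↪ GolayPt => f i) hg
    exact this
  exact ⟨g, g.2, hg' 0, hg' 1, hg' 2, hg' 3, hg' 4⟩

open Cfsg in
/-- an element of `M24` fixing three points fixed by `w` and not normalizing `⟨w⟩` -/
theorem exists_not_normal {w : Perm GolayPt} {n : ℕ} (hw : orderOf w = n) (hn : n ≤ 11) {f₁ f₂ f₃ a : GolayPt}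
    (h12 : f₁ ≠ f₂) (h13 : f₁ ≠ f₃) (h23 : f₂ ≠ f₃) (h1 : w f₁ = f₁) (h2 : w f₂ = f₂)
    (h3 : w f₃ = f₃ ∨ ∀ k : ℤ, (w ^ k) a ≠ f₃) (ha : w a ≠ a) :
    ∃ m ∈ M24, m f₁ = f₁ ∧ m f₂ = f₂ ∧ (w f₃ = f₃ → m f₃ = f₃) ∧ m * w * m⁻¹ ∉ zpowers w := by
  classical
  have hw0 : 0 < orderOf w := orderOf_pos w
  -- the orbit of `a`
  set O : Finset GolayPt := (Finset.range n).image (fun i => (w ^ i) a) with hO
  have hOc : O.card ≤ 11 := (Finset.card_image_le.trans (by rw [Finset.card_range])).trans hn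
  have hmemO : ∀ k : ℤ, (w ^ k) a ∈ O := by
    intro k
    have h4 : w ^ k ∈ zpowers w := zpow_mem (mem_zpowers w) k
    rw [← mem_powers_iff_mem_zpowers] at h4
    obtain ⟨i, hi⟩ := h4
    have hi' : w ^ i = w ^ k := hi
    rw [hO, Finset.mem_image]
    refine ⟨i % n, Finset.mem_range.2 (Nat.mod_lt _ (by rw [← hw]; exact hw0)), ?_⟩
    rw [← hw, pow_mod_orderOf, hi']
  have hfixO : ∀ f, w f = f → f ∉ O := by
    intro f hf hfO
    rw [hO, Finset.mem_image] at hfO
    obtain ⟨i, -, hi⟩ := hfO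
    apply ha
    have h5 : (w ^ i) f = f := by
      have : ∀ j : ℕ, (w ^ j) f = f := by
        intro j
        induction j with
        | zero => rfl
        | succ j ih => rw [pow_succ, Perm.mul_apply, hf, ih]
      exact this i
    have h6 : a = f := by
      apply (w ^ i).injective
      rw [h5]
      exact hi
    rw [h6, hf]
  have haO : a ∈ O := by
    have := hmemO 0
    rwa [zpow_zero] at this
  have hbO : w a ∈ O := by
    have := hmemO 1
    rwa [zpow_one] at this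
  have hf3O : f₃ ∉ O := by
    rcases h3 with h3 | h3
    · exact hfixO _ h3
    · intro h4
      rw [hO, Finset.mem_image] at h4
      obtain ⟨i, -, hi⟩ := h4
      exact h3 i (by rw [zpow_natCast]; exact hi)
  obtain ⟨c, hc⟩ : ∃ c, c ∉ O ∪ {f₁, f₂, f₃} := by
    by_contra hcon
    push Not at hcon
    have h4 : (Finset.univ : Finset GolayPt) ⊆ O ∪ {f₁, f₂, f₃} := fun c _ => hcon c
    have h5 := Finset.card_le_card h4
    have h6 : (Finset.univ : Finset GolayPt).card = 24 := by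
      rw [Finset.card_univ]; rfl
    have h7 := Finset.card_union_le O ({f₁, f₂, f₃} : Finset GolayPt)
    have h8 : ({f₁, f₂, f₃} : Finset GolayPt).card ≤ 3 := Finset.card_le_three
    omega
  rw [Finset.mem_union, not_or] at hc
  simp only [Finset.mem_insert, Finset.mem_singleton, not_or] at hc
  obtain ⟨hcO, hc1, hc2, hc3⟩ := hc
  have ne_of : ∀ {s t : GolayPt}, s ∉ O → t ∈ O → s ≠ t := fun hs ht h => hs (h ▸ ht)
  have hinj : Function.Injective ![f₁, f₂, f₃, a, w a] := by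
    have e1 := ne_of (hfixO _ h1) haO
    have e2 := ne_of (hfixO _ h2) haO
    have e3 := ne_of hf3O haO
    have e4 := ne_of (hfixO _ h1) hbO
    have e5 := ne_of (hfixO _ h2) hbO
    have e6 := ne_of hf3O hbO
    exact inj_five' h12 h13 e1 e4 h23 e2 e5 e3 e6 (Ne.symm ha)
  have hinj' : Function.Injective ![f₁, f₂, f₃, a, c] := by
    have e1 := ne_of (hfixO _ h1) haO
    have e2 := ne_of (hfixO _ h2) haO
    have e3 := ne_of hf3O haO
    have e4 := ne_of hcO haO
    exact inj_five' h12 h13 e1 (Ne.symm hc1) h23 e2 (Ne.symm hc2) e3 (Ne.symm hc3) (Ne.symm e4)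
  obtain ⟨m, hm, m1, m2, m3, m4, m5⟩ := exists_fix_four hinj hinj'
  refine ⟨m, hm, m1, m2, fun _ => m3, ?_⟩
  intro hz
  obtain ⟨k, hk⟩ := mem_zpowers_iff.1 hz
  apply hcO
  have h7 : (w ^ k) a = c := by
    rw [hk, Perm.mul_apply, Perm.mul_apply]
    have h8 : m⁻¹ a = a := by rw [Perm.inv_eq_iff_eq]; exact m4.symm
    rw [h8, m5]
  rw [← h7]
  exact hmemO k

open Cfsg Cfsg.Agent.J4Type.OuterM22 in
/-- **`M₂₂`** -/
theorem row_m22 : Row.{u} ↥Cfsg.Spor.M22 := by
  classical
  have hcard : Nat.card Cfsg.Spor.M22 = 443520 := Cfsg.Agent.SporadicA.MathieuRecog.card_M22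
  have hfin : Finite ↥Cfsg.Spor.M22 := Nat.finite_of_card_ne_zero (by rw [hcard]; norm_num)
  have hf7 : Fact (Nat.Prime 7) := ⟨by norm_num⟩
  obtain ⟨x, hx⟩ := exists_prime_orderOf_dvd_card' (G := ↥Cfsg.Spor.M22) 7 (by rw [hcard]; norm_num)
  have hx' : orderOf (x : Perm GolayPt) = 7 := by rw [orderOf_coe]; exact hx
  have hx7 : (x : Perm GolayPt) ^ 7 = 1 := by rw [← hx', pow_orderOf_eq_one]
  have hxne : (x : Perm GolayPt) ≠ 1 := by
    intro h
    rw [h, orderOf_one] at hx'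
    norm_num at hx'
  have hx0 : (x : Perm GolayPt) none = none := (Cfsg.Agent.S5599.mem_M22_iff _).1 x.2 |>.2.1
  have hx1 : (x : Perm GolayPt) (some 0) = some 0 := (Cfsg.Agent.S5599.mem_M22_iff _).1 x.2 |>.2.2
  -- one fixed point among the 22
  have hF := card_fixed_modEq (p := 7) hx7 (Y := U) (fun y hy => map_U hx0 hx1 hy)
  have hlt := card_fix_U (p := 7) (by norm_num) x.2 hx7 hxne
  rw [card_U] at hF
  have hF1 : (U.filter (fun y => (x : Perm GolayPt) y = y)).card = 1 := by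
    unfold Nat.ModEq at hF
    omega
  obtain ⟨ω, hω⟩ := Finset.card_eq_one.1 hF1
  have hωm : ω ∈ U ∧ (x : Perm GolayPt) ω = ω := by
    have h1 : ω ∈ U.filter (fun y => (x : Perm GolayPt) y = y) := by
      rw [hω]
      exact Finset.mem_singleton_self ω
    exact (Finset.mem_filter (p := fun y => (x : Perm GolayPt) y = y)).1 h1
  have huniq : ∀ y ∈ U, (x : Perm GolayPt) y = y → y = ω := by
    intro y hy hxy
    rw [← Finset.mem_singleton, ← hω, Finset.mem_filter]
    exact ⟨hy, hxy⟩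
  -- a moved point
  obtain ⟨a, ha⟩ : ∃ a, (x : Perm GolayPt) a ≠ a := by
    by_contra hcon
    push Not at hcon
    exact hxne (Equiv.ext hcon)
  have hω1 := mem_U.1 hωm.1
  obtain ⟨m, hmM, m1, m2, m3, hmx⟩ := exists_not_normal hx' (by norm_num) (f₁ := none) (f₂ := some 0) (f₃ := ω)
    (a := a) (by decide) (Ne.symm hω1.1) (Ne.symm hω1.2) hx0 hx1 (Or.inl hωm.2) ha
  have hmM22 : m ∈ Cfsg.Spor.M22 := (Cfsg.Agent.S5599.mem_M22_iff _).2 ⟨hmM, m1, m2⟩
  refine Row.of_prime_aut (p := 7) (by norm_num) hx ?_ (St ω) ?_ ?_ (m := ⟨m, hmM22⟩) (m3 hωm.2) ?_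
  · have hD : Nat.card Cfsg.Agent.J4Type.Aut22.D22 = 887040 := Cfsg.Agent.J4Type.Aut22.card_D22
    have hA : Nat.card (MulAut Cfsg.Spor.M22) = 887040 := by
      rw [← hD, ← Cfsg.Agent.KFacts.MM.OutAut.emb_range]
      exact Nat.card_congr (MonoidHom.ofInjective Cfsg.Agent.KFacts.MM.OutAut.emb_inj).toEquiv
    rw [hA]
    norm_num
  · intro htop
    have h1 := card_St hωm.1
    rw [htop, Nat.card_congr (Subgroup.topEquiv (G := ↥Cfsg.Spor.M22)).toEquiv, hcard] at h1
    norm_num at h1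
  · intro α hα y hy
    have hcomm : sig α * (x : Perm GolayPt) = (x : Perm GolayPt) * sig α := by
      have h1 := sig_conj α x
      rw [hα] at h1
      rw [← mul_inv_eq_iff_eq_mul]
      exact h1.symm
    have hsω : sig α ω = ω := by
      apply huniq
      · rw [sig_apply]
        exact pm_mem α hωm.1
      · have h2 := congrArg (fun g : Perm GolayPt => g ω) hcomm
        simp only [Perm.mul_apply, hωm.2] at h2
        exact h2.symm
    rw [mem_St] at hy ⊢
    rw [sig_conj, Perm.mul_apply, Perm.mul_apply]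
    have h3 : (sig α)⁻¹ ω = ω := by rw [Perm.inv_eq_iff_eq, hsω]
    rw [h3, hy, hsω]
  · intro hz
    apply hmx
    obtain ⟨k, hk⟩ := mem_zpowers_iff.1 hz
    exact mem_zpowers_iff.2 ⟨k, by simpa using congrArg Subtype.val hk⟩

open Cfsg Cfsg.Agent.J4Type.OuterM22 in
/-- **`M₂₃`** -/
theorem row_m23 : Row.{u} ↥Cfsg.Spor.M23 := by
  classical
  have hcard : Nat.card Cfsg.Spor.M23 = 10200960 := Cfsg.Agent.SporadicA.MathieuRecog.card_M23
  have hfin : Finite ↥Cfsg.Spor.M23 := Nat.finite_of_card_ne_zero (by rw [hcard]; norm_num)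
  have hf11 : Fact (Nat.Prime 11) := ⟨by norm_num⟩
  have hmem23 : ∀ g : Perm GolayPt, g ∈ Cfsg.Spor.M23 ↔ g ∈ Cfsg.M24 ∧ g none = none := by
    intro g
    unfold Cfsg.Spor.M23
    rw [Subgroup.mem_inf, MulAction.mem_stabilizer_iff]
    rfl
  obtain ⟨x, hx⟩ := exists_prime_orderOf_dvd_card' (G := ↥Cfsg.Spor.M23) 11 (by rw [hcard]; norm_num)
  have hx' : orderOf (x : Perm GolayPt) = 11 := by rw [orderOf_coe]; exact hx
  have hx11 : (x : Perm GolayPt) ^ 11 = 1 := by rw [← hx', pow_orderOf_eq_one]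
  have hxne : (x : Perm GolayPt) ≠ 1 := by
    intro h
    rw [h, orderOf_one] at hx'
    norm_num at hx'
  have hxM := ((hmem23 _).1 x.2).1
  have hx0 : (x : Perm GolayPt) none = none := ((hmem23 _).1 x.2).2
  have hc24 : (Finset.univ : Finset GolayPt).card = 24 := by
    rw [Finset.card_univ]; rfl
  have hF := card_fixed_modEq (p := 11) hx11 (Y := Finset.univ) (fun y _ => Finset.mem_univ _)
  have hlt : (Finset.univ.filter fun y => (x : Perm GolayPt) y = y).card < 5 := by
    by_contra hcon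
    exact hxne (Cfsg.Agent.H337.MTwentyFour.eq_one_of_fix hxM hx11 (not_lt.1 hcon))
  rw [hc24] at hF
  have hF1 : (Finset.univ.filter (fun y => (x : Perm GolayPt) y = y)).card = 2 := by
    unfold Nat.ModEq at hF
    omega
  obtain ⟨p, q, hpq, hFpq⟩ := Finset.card_eq_two.1 hF1
  have hmemF : ∀ y, (x : Perm GolayPt) y = y ↔ y = p ∨ y = q := by
    intro y
    have h1 : y ∈ Finset.univ.filter (fun y => (x : Perm GolayPt) y = y) ↔ y ∈ ({p, q} : Finset GolayPt) := by
      rw [hFpq]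
    simpa using h1
  obtain ⟨ω, hωn, hω⟩ : ∃ ω, ω ≠ none ∧ ∀ y, (x : Perm GolayPt) y = y ↔ y = none ∨ y = ω := by
    rcases (hmemF none).1 hx0 with h1 | h1
    · refine ⟨q, ?_, fun y => by rw [hmemF y, h1]⟩
      rw [h1]
      exact hpq.symm
    · refine ⟨p, ?_, fun y => by rw [hmemF y, h1, or_comm]⟩
      rw [h1]
      exact hpq
  have hxω : (x : Perm GolayPt) ω = ω := (hω ω).2 (Or.inr rfl)
  -- a moved point and a third point
  obtain ⟨a, ha⟩ : ∃ a, (x : Perm GolayPt) a ≠ a := by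
    by_contra hcon
    push Not at hcon
    exact hxne (Equiv.ext hcon)
  obtain ⟨f, hf0, hf1, hfa⟩ : ∃ f, f ≠ none ∧ f ≠ ω ∧ ∀ k : ℤ, ((x : Perm GolayPt) ^ k) a ≠ f := by
    by_contra hcon
    push Not at hcon
    have h1 : (Finset.univ : Finset GolayPt) ⊆
        ((Finset.range 11).image (fun i => ((x : Perm GolayPt) ^ i) a)) ∪ {none, ω} := by
      intro y _
      rw [Finset.mem_union]
      by_cases h2 : y = none
      · right; rw [h2]; simp
      by_cases h3 : y = ω
      · right; rw [h3]; simp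
      left
      obtain ⟨k, hk⟩ := hcon y h2 h3
      have h4 : (x : Perm GolayPt) ^ k ∈ zpowers (x : Perm GolayPt) := zpow_mem (mem_zpowers _) k
      rw [← mem_powers_iff_mem_zpowers] at h4
      obtain ⟨i, hi⟩ := h4
      have hi' : (x : Perm GolayPt) ^ i = (x : Perm GolayPt) ^ k := hi
      rw [Finset.mem_image]
      refine ⟨i % 11, Finset.mem_range.2 (Nat.mod_lt _ (by norm_num)), ?_⟩
      rw [← hk, ← hi']
      conv_rhs => rw [← pow_mod_orderOf, hx']
    have h5 := Finset.card_le_card h1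
    have h6 := Finset.card_union_le ((Finset.range 11).image (fun i => ((x : Perm GolayPt) ^ i) a))
      ({none, ω} : Finset GolayPt)
    have h7 : ((Finset.range 11).image (fun i => ((x : Perm GolayPt) ^ i) a)).card ≤ 11 :=
      Finset.card_image_le.trans (by rw [Finset.card_range])
    have h8 : ({none, ω} : Finset GolayPt).card ≤ 2 := Finset.card_le_two
    omega
  obtain ⟨m, hmM, m1, m2, -, hmx⟩ := exists_not_normal hx' (by norm_num) (f₁ := none) (f₂ := ω) (f₃ := f)
    (a := a) (Ne.symm hωn) (Ne.symm hf0) (Ne.symm hf1) hx0 hxω (Or.inr hfa) ha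
  have hmM23 : m ∈ Cfsg.Spor.M23 := (hmem23 _).2 ⟨hmM, m1⟩
  let Y : Subgroup ↥Cfsg.Spor.M23 :=
    (MulAction.stabilizer (Perm GolayPt) ω).comap (Subgroup.subtype _)
  have hY : ∀ g : ↥Cfsg.Spor.M23, g ∈ Y ↔ (g : Perm GolayPt) ω = ω := fun g => Iff.rfl
  refine Row.of_prime_aut (p := 11) (by norm_num) hx ?_ Y ?_ ?_ (m := ⟨m, hmM23⟩) m2 ?_
  · have hsurj : Function.Surjective (MulAut.conj : ↥Cfsg.Spor.M23 →* MulAut ↥Cfsg.Spor.M23) := by
      intro α
      obtain ⟨k, hk⟩ := Cfsg.Agent.UGT.MTwentyThree.Aut.exists_conj α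
      exact ⟨k, hk.symm⟩
    intro h1
    have h2 := h1.trans (Subgroup.card_dvd_of_surjective _ hsurj)
    rw [hcard] at h2
    norm_num at h2
  · intro htop
    -- `M₂₃` moves `ω`
    obtain ⟨b, hb0, hbω, hba⟩ : ∃ b : GolayPt, b ≠ none ∧ b ≠ ω ∧ b ≠ a := by
      have h1 : ∃ b, b ∉ ({none, ω, a} : Finset GolayPt) := by
        by_contra hcon
        push Not at hcon
        have h2 := Finset.card_le_card (fun b _ => hcon b : (Finset.univ : Finset GolayPt) ⊆ {none, ω, a})
        have h3 : ({none, ω, a} : Finset GolayPt).card ≤ 3 := Finset.card_le_three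
        omega
      obtain ⟨b, hb⟩ := h1
      simp only [Finset.mem_insert, Finset.mem_singleton, not_or] at hb
      exact ⟨b, hb.1, hb.2.1, hb.2.2⟩
    have hex : ∀ s : Finset GolayPt, s.card < 24 → ∃ c, c ∉ s := by
      intro s hs
      by_contra hcon
      push Not at hcon
      have h2 := Finset.card_le_card (fun b _ => hcon b : (Finset.univ : Finset GolayPt) ⊆ s)
      omega
    obtain ⟨c, hc⟩ := hex {none, ω, b} (lt_of_le_of_lt Finset.card_le_three (by norm_num))
    simp only [Finset.mem_insert, Finset.mem_singleton, not_or] at hc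
    obtain ⟨d, hd⟩ := hex {none, ω, b, c} (lt_of_le_of_lt Finset.card_le_four (by norm_num))
    simp only [Finset.mem_insert, Finset.mem_singleton, not_or] at hd
    obtain ⟨e, he⟩ := hex {none, ω, b, c, d} (lt_of_le_of_lt Finset.card_le_five (by norm_num))
    simp only [Finset.mem_insert, Finset.mem_singleton, not_or] at he
    obtain ⟨g, hg, g1, -, -, -, g5⟩ := exists_fix_four (a := none) (b := c) (c := d) (d := e) (e := ω) (e' := b)
      (inj_five' (Ne.symm hc.1) (Ne.symm hd.1) (Ne.symm he.1) (Ne.symm hωn) (Ne.symm hd.2.2.2)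
        (Ne.symm he.2.2.2.1) hc.2.1 (Ne.symm he.2.2.2.2) hd.2.1 he.2.1)
      (inj_five' (Ne.symm hc.1) (Ne.symm hd.1) (Ne.symm he.1) (Ne.symm hb0) (Ne.symm hd.2.2.2)
        (Ne.symm he.2.2.2.1) hc.2.2 (Ne.symm he.2.2.2.2) hd.2.2.1 he.2.2.1)
    have h9 : (⟨g, (hmem23 g).2 ⟨hg, g1⟩⟩ : ↥Cfsg.Spor.M23) ∈ Y := by rw [htop]; exact mem_top _
    have h10 : g ω = ω := h9
    exact hbω (g5.symm.trans h10)
  · intro α hα y hy
    obtain ⟨k, hk⟩ := Cfsg.Agent.UGT.MTwentyThree.Aut.exists_conj α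
    rw [hk, MulAut.conj_apply] at hα
    have hcomm : (k : Perm GolayPt) * (x : Perm GolayPt) = (x : Perm GolayPt) * k := by
      rw [← mul_inv_eq_iff_eq_mul]
      exact congrArg Subtype.val hα
    have hk0 : (k : Perm GolayPt) none = none := ((hmem23 _).1 k.2).2
    have hsω : (k : Perm GolayPt) ω = ω := by
      have h2 := congrArg (fun g : Perm GolayPt => g ω) hcomm
      simp only [Perm.mul_apply, hxω] at h2
      rcases (hω _).1 h2.symm with h3 | h3
      · exact absurd ((k : Perm GolayPt).injective (h3.trans hk0.symm)) hωn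
      · exact h3
    rw [hY] at hy ⊢
    rw [hk, MulAut.conj_apply]
    change ((k : Perm GolayPt) * y * (k : Perm GolayPt)⁻¹) ω = ω
    rw [Perm.mul_apply, Perm.mul_apply]
    have h3 : (k : Perm GolayPt)⁻¹ ω = ω := by rw [Perm.inv_eq_iff_eq, hsω]
    rw [h3, hy, hsω]
  · intro hz
    apply hmx
    obtain ⟨k, hk⟩ := mem_zpowers_iff.1 hz
    exact mem_zpowers_iff.2 ⟨k, by simpa using congrArg Subtype.val hk⟩

end Cfsg.Agent.H480
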