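import Cfsg.Agent.H480.SporTools
import Cfsg.Agent.S1699
import Cfsg.Agent.KFacts.MulSpor.ONWords

/-!
# Nilpotent minimal covers: `O'N` (helper480, S3925, S3926)
-/

set_option autoImplicit false
set_option maxRecDepth 100000

namespace Cfsg.Agent.H480.ONRow

open Subgroup
open Cfsg.Spor (ON)
open Cfsg.Spor.ON (Gen)
open Cfsg.Agent.Lib.PackMat Cfsg.Agent.SporadicB.ON45Data Cfsg.Agent.SporadicB.ON45Rels
  Cfsg.Agent.SporadicB.ON45Word Cfsg.Agent.SporadicB.ON45Core Cfsg.Agent.SporadicB.ONHom
open Cfsg.Agent.KFacts.MulSpor.ON (w w_append w_one mats okw rel iw w_iw eqw)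

theorem ne_one_of_run {x : ON} {l : List ℕ} (hx : LW x l) (j : Fin 45) (hj : (0 : Fin 45) ≠ j)
    (h : ((dg C45.s (run C45 l (unitRow C45 1 0)) (C45.n - 1 - j.val) : ℕ) : ZMod 7) ≠ 0) : x ≠ 1 := by
  rintro rfl
  obtain ⟨hok, u, h2, h3⟩ := hx
  rw [map_one] at h3
  have hu : u ∈ Subgroup.center SL45 := (QuotientGroup.eq_one_iff u).1 h3
  have h4 : (u : M45) 0 j = 0 := by
    rcases center_cases hu with h5 | h5 | h5 <;> rw [h5] <;> simp [Matrix.one_apply_ne hj]
  rw [h2] at h4
  have hG : Good C45 := good_of_check good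
  have h5 := unitRow_ok hG (c := 1) (i := 0) (by decide) (by decide)
  have h6 := (run_spec hG l hok h5.1).2
  apply h
  have h7 : ((dg C45.s (run C45 l (unitRow C45 1 0)) (C45.n - 1 - j.val) : ℕ) : ZMod 7) =
      Matrix.vecMul (rowVec C45 (unitRow C45 1 0)) (List.map (mat C45) l).prod j := congrFun h6 j
  have h8 : ((1 : ℕ) : ZMod C45.p) • (Pi.single (⟨0, by decide⟩ : Fin C45.n) (1 : ZMod C45.p) : Fin C45.n → ZMod C45.p) =
      Pi.single ⟨0, by decide⟩ 1 := by
    rw [Nat.cast_one, one_smul]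
  rw [h7, h5.2, h8, Matrix.single_one_vecMul]
  exact h4

/-- the word of length 10 -/
def V : List Gen := [.a, .g, .b, .g, .c, .d, .g, .b, .c, .d]
def zw : List Gen := [.b, .c, .d, .g]

theorem z_five (hs : IsSimpleGroup ON) : w zw ^ 5 = 1 := by
  have h1 : w (zw ++ zw ++ zw ++ zw ++ zw) = 1 := rel hs _ (by decide +kernel)
  rw [w_append, w_append, w_append, w_append] at h1
  rw [← h1]
  simp only [pow_succ, pow_zero, one_mul]

theorem z_ne : w zw ≠ 1 := by
  refine ne_one_of_run (LW.word zw) 1 (by decide) ?_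
  decide +kernel

/-- the second involution -/
def tw : List Gen := V ++ [.e] ++ iw V

theorem ft_ne : w ([.f] ++ tw) ≠ 1 := by
  refine ne_one_of_run (LW.word (([.f] : List Gen) ++ tw)) 1 (by decide) ?_
  decide +kernel

theorem kill_on : Kill ON := by
  have h := Cfsg.Agent.S1699.result
  have hs : IsSimpleGroup ON := h.1
  have hcard : Nat.card ON = 460815505920 := h.2
  have hfin : Finite ON := Nat.finite_of_card_ne_zero (by rw [hcard]; norm_num)
  have hf5 : Fact (Nat.Prime 5) := ⟨by norm_num⟩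
  have hff : w [.f] * w [.f] = 1 := by
    rw [← w_append]
    exact rel hs _ (by decide +kernel)
  have hft3 : w ([.f] ++ tw) ^ 3 = 1 := by
    have h1 : w (([.f] ++ tw) ++ ([.f] ++ tw) ++ ([.f] ++ tw)) = 1 := rel hs _ (by decide +kernel)
    rw [w_append, w_append] at h1
    rw [← h1]
    simp only [pow_succ, pow_zero, one_mul]
  have htt : w tw * w tw = 1 := by
    rw [← w_append]
    exact rel hs _ (by decide +kernel)
  have hfz : w [.f] * w zw = w zw * w [.f] := by
    rw [← w_append, ← w_append]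
    exact eqw hs _ _ (by decide +kernel)
  have htz : w tw * w zw = w zw * w tw := by
    rw [← w_append, ← w_append]
    exact eqw hs _ _ (by decide +kernel)
  refine Kill.of_noncomm (r := 5) (by norm_num) (by rw [hcard]; norm_num) (z := w zw)
    (orderOf_eq_prime (z_five hs) z_ne) (a := w ([.f] ++ tw)) (b := w [.f]) ?_ hfz (m := 3) (n := 2) (by norm_num)
    hft3 (by rw [pow_two]; exact hff) ?_
  · rw [w_append, mul_assoc, htz, ← mul_assoc, hfz, mul_assoc]
  · intro hc
    apply ft_ne
    rw [w_append] at hc hft3 ⊢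
    have h2 : w tw * w [.f] = w [.f] * w tw := by
      calc w tw * w [.f] = (w [.f] * w [.f]) * (w tw * w [.f]) := by rw [hff, one_mul]
        _ = w [.f] * (w [.f] * w tw * w [.f]) := by group
        _ = w [.f] * (w [.f] * (w [.f] * w tw)) := by rw [hc]
        _ = (w [.f] * w [.f]) * (w [.f] * w tw) := by group
        _ = w [.f] * w tw := by rw [hff, one_mul]
    have h3 : (w [.f] * w tw) * (w [.f] * w tw) = 1 := by
      calc (w [.f] * w tw) * (w [.f] * w tw) = w [.f] * (w tw * w [.f]) * w tw := by group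
        _ = (w [.f] * w [.f]) * (w tw * w tw) := by rw [h2]; group
        _ = 1 := by rw [hff, htt, one_mul]
    rw [pow_succ, pow_two, h3, one_mul] at hft3
    exact hft3

end Cfsg.Agent.H480.ONRow
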