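import Cfsg.Agent.H480.SporTools
import Cfsg.Agent.KFacts.SuzTwoB

/-!
# Nilpotent minimal covers: `Suz` (helper480, S3925, S3926)
-/

set_option autoImplicit false

namespace Cfsg.Agent.H480

open Subgroup KFacts.SuzLFour

theorem kill_suz : Kill Cfsg.Spor.Suz := by
  have hcard : Nat.card Cfsg.Spor.Suz = 448345497600 := Cfsg.Agent.SporadicRecognition.SuzOrder.card_Suz
  have hfin : Finite Cfsg.Spor.Suz := Nat.finite_of_card_ne_zero (by rw [hcard]; norm_num)
  have hf7 : Fact (Nat.Prime 7) := ⟨by norm_num⟩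
  obtain ⟨z, hz⟩ := exists_prime_orderOf_dvd_card' (G := ↥L) 7 (by
    rw [Cfsg.Agent.KFacts.SuzTwoB.card_L]; norm_num)
  refine Kill.of_noncomm (r := 7) (by norm_num) (by rw [hcard]; norm_num) (z := (z : Cfsg.Spor.Suz))
    (by rw [orderOf_coe]; exact hz) (a := x0) (b := e0) (x0_comm z z.2) (e0_comm z z.2) (m := 3) (n := 2)
    (by norm_num) (by rw [pow_succ, pow_two]; exact x0_cube) (by rw [pow_two]; exact e0_sq) ?_
  intro h
  apply e1_ne
  rw [e1, h]
  group

end Cfsg.Agent.H480
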