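import Cfsg.Agent.H480.SporFi
import Cfsg.Agent.H480.SporMJ
import Cfsg.Agent.H480.SporJOne
import Cfsg.Agent.H480.SporLy
import Cfsg.Agent.H480.SporSuz
import Cfsg.Agent.H480.SporJThree
import Cfsg.Agent.H480.SporJTwo
import Cfsg.Agent.H480.SporCoOne
import Cfsg.Agent.H480.SporHN
import Cfsg.Agent.H480.SporON
import Cfsg.Agent.H480.SporMTwelve
import Cfsg.Agent.H480.SporIso
import Cfsg.Agent.H480.SporHe
import Cfsg.Agent.H480.SporRu
import Cfsg.Agent.H480.SporMSmall
import Cfsg.Agent.H480.SporHS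
import Cfsg.Agent.H480.SporCoTwo
import Cfsg.Agent.H480.SporM
import Cfsg.Agent.H480.SporB
import Cfsg.Agent.H480.SporTh
import Cfsg.Agent.H480.SporFiT
import Cfsg.Prelude.Def_Classification2

/-!
# Nilpotent minimal covers: the sporadic groups (helper480, S3925, S3926)
-/

set_option autoImplicit false

namespace Cfsg.Agent.H480

open Cfsg

universe u v

/-- **the sporadic groups** -/
theorem row_sporadic {S : Type v} [Group S] (h : IsSporadicGroup S) : Row.{u} S := by
  rcases h with h | h | h | h | h | h | h | h | h | h | h | h | h | h | h | h | h | h |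
      h | h | h | h | h | h | h | h
  · obtain ⟨e⟩ := h
    exact Row.of_kill (Kill.congr e.symm kill_m11)
  · obtain ⟨e⟩ := h
    exact Row.of_kill (Kill.congr e.symm kill_m12)
  · obtain ⟨e⟩ := h
    exact Row.congr e.symm row_m22
  · obtain ⟨e⟩ := h
    exact Row.congr e.symm row_m23
  · obtain ⟨e⟩ := h
    exact Row.of_kill (Kill.congr e.symm kill_m24)
  · obtain ⟨e⟩ := h
    exact Row.of_kill (Kill.congr e.symm kill_j1)
  · obtain ⟨e⟩ := h
    exact Row.of_kill (Kill.congr e.symm kill_j2)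
  · exact Row.of_kill (kill_j3 h)
  · obtain ⟨e⟩ := h
    exact Row.of_kill (Kill.congr e.symm kill_j4)
  · obtain ⟨e⟩ := h
    exact Row.of_kill (Kill.congr e.symm kill_co1)
  · obtain ⟨e⟩ := h
    exact Row.congr e.symm row_co2
  · obtain ⟨e⟩ := h
    exact Row.of_kill (Kill.congr e.symm kill_co3)
  · obtain ⟨e⟩ := h
    exact Row.of_kill (Kill.congr e.symm kill_mcl)
  · obtain ⟨e⟩ := h
    exact Row.congr e.symm row_hs
  · obtain ⟨e⟩ := h
    exact Row.of_kill (Kill.congr e.symm kill_suz)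
  · obtain ⟨e⟩ := h
    exact Row.of_kill (Kill.congr e.symm HeRow.kill_he)
  · obtain ⟨e⟩ := h
    exact Row.of_kill (Kill.congr e.symm RuRow.kill_ru)
  · obtain ⟨e⟩ := h
    exact Row.of_kill (Kill.congr e.symm ONRow.kill_on)
  · obtain ⟨e⟩ := h
    exact Row.of_kill (Kill.congr e.symm kill_ly)
  · obtain ⟨e⟩ := h
    exact Row.of_kill (Kill.congr e.symm kill_fi22)
  · obtain ⟨e⟩ := h
    exact Row.of_kill (Kill.congr e.symm kill_fi23)
  · obtain ⟨e⟩ := h
    exact Row.of_kill (Kill.congr e.symm kill_fi24)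
  · obtain ⟨e⟩ := h
    exact Row.of_kill (Kill.congr e.symm kill_hn)
  · obtain ⟨e⟩ := h
    exact Row.of_kill (Kill.congr e.symm kill_th)
  · obtain ⟨e⟩ := h
    exact Row.of_kill (Kill.congr e.symm kill_b)
  · obtain ⟨e⟩ := h
    exact Row.of_kill (Kill.congr e.symm kill_m)

end Cfsg.Agent.H480
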