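import Cfsg.Agent.H480.KillBound
import Cfsg.Agent.CpAutTits.Row

/-!
# Nilpotent minimal covers: the Tits group (helper480, S3925, S3926)

`y` of order five with `|C(y)| = 50`, `i` an involution of `C(y)` with `|C(y) ∩ C(i)| = 10`.
-/

set_option autoImplicit false

namespace Cfsg.Agent.H480

open Subgroup

/-- `|C(y)| = 50`, `|C(y) ∩ C(i)| = 10` -/
theorem Kill.of_fifty {X : Type*} [Group X] [Finite X] {y i : X} (hy : orderOf y = 5) (hi : orderOf i = 2)
    (hc : i * y = y * i) (h50 : Nat.card ↥(centralizer ({y} : Set X)) = 50)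
    (h10 : Nat.card ↥(centralizer ({y} : Set X) ⊓ centralizer ({i} : Set X)) = 10) : Kill X := by
  have hf5 : Fact (Nat.Prime 5) := ⟨by norm_num⟩
  -- an element of `C(y)` not commuting with `i`
  obtain ⟨q, hqy, hqi⟩ : ∃ q : X, q * y = y * q ∧ q * i ≠ i * q := by
    by_contra hn
    push Not at hn
    have h1 : centralizer ({y} : Set X) ⊓ centralizer ({i} : Set X) = centralizer ({y} : Set X) := by
      apply le_antisymm inf_le_left
      intro x hx
      exact ⟨hx, mem_centralizer_singleton_iff.2 (hn x (mem_centralizer_singleton_iff.1 hx))⟩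
    rw [h1, h50] at h10
    norm_num at h10
  -- the Sylow 5-subgroup of `C(y)`
  obtain ⟨P, hP⟩ := Sylow.exists_subgroup_card_pow_prime (G := ↥(centralizer ({y} : Set X))) 5 (n := 2)
    (by rw [h50]; norm_num)
  have hidx : P.index = 2 := by
    have h1 := P.card_mul_index
    rw [hP, h50] at h1
    omega
  have hcomm : (⟨q, mem_centralizer_singleton_iff.2 hqy⟩ : ↥(centralizer ({y} : Set X))) *
      ⟨i, mem_centralizer_singleton_iff.2 hc⟩ * (⟨q, mem_centralizer_singleton_iff.2 hqy⟩)⁻¹ *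
      (⟨i, mem_centralizer_singleton_iff.2 hc⟩)⁻¹ ∈ P := by
    rw [Subgroup.mul_mem_iff_of_index_two hidx, Subgroup.mul_mem_iff_of_index_two hidx,
      Subgroup.mul_mem_iff_of_index_two hidx, P.inv_mem_iff, P.inv_mem_iff]
    tauto
  have hodd : orderOf (q * i * q⁻¹ * i⁻¹) ∣ 25 := by
    have h1 := Subgroup.orderOf_dvd_natCard P hcomm
    rw [hP] at h1
    rw [← orderOf_coe] at h1
    exact h1
  have hii : i * i = 1 := by
    have h := pow_orderOf_eq_one i
    rw [hi, pow_two] at h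
    exact h
  have hiv : i⁻¹ = i := inv_eq_of_mul_eq_one_right hii
  refine Kill.of_inf (r := 5) (by norm_num) (z := y) (d := i) (q := q) hy (by rw [hi]; norm_num) hc.symm
    (by rw [h10]; norm_num) hqy (by rw [hi]; exact Nat.Coprime.coprime_dvd_left hodd (by norm_num)) ?_
  intro h
  apply hqi
  -- `[q, i]` is centralised by `i`, of odd order, and inverted by `i`
  set c : X := q * i * q⁻¹ * i⁻¹ with hcdef
  have h1 : i * c * i⁻¹ = c⁻¹ := by
    rw [hcdef, hiv]
    have e1 : (q * i * q⁻¹ * i)⁻¹ = i⁻¹ * q * i⁻¹ * q⁻¹ := by group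
    rw [e1, hiv]
    calc i * (q * i * q⁻¹ * i) * i = i * (q * i * q⁻¹) * (i * i) := by group
      _ = i * q * i * q⁻¹ := by rw [hii]; group
  have h2 : c = c⁻¹ := by
    rw [← h1, ← h]
    group
  have h3 : c ^ 2 = 1 := by
    rw [pow_two]
    nth_rewrite 1 [h2]
    exact inv_mul_cancel c
  have h4 : c = 1 := by
    have h5 : orderOf c ∣ 2 := orderOf_dvd_of_pow_eq_one h3
    have h6 : orderOf c ∣ Nat.gcd 25 2 := Nat.dvd_gcd hodd h5
    rw [show Nat.gcd 25 2 = 1 from rfl, Nat.dvd_one, orderOf_eq_one_iff] at h6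
    exact h6
  have h5 : q * i * q⁻¹ = i := mul_inv_eq_one.1 h4
  exact mul_inv_eq_iff_eq_mul.1 h5

theorem kill_of_facts {L : Type*} [Group L] {T : Subgroup L} {xf z jf d : L}
    (F : Cfsg.Agent.CpAutTits.Ten.Facts T xf z jf d) (hO : Cfsg.Agent.CpAutTits.Row.Out ↥T) : Kill ↥T := by
  have hfin : Finite ↥T := Nat.finite_of_card_ne_zero (by rw [hO.card]; norm_num)
  exact Kill.of_fifty F.order_x F.order_z F.comm_zx (hO.cent _ F.order_x) F.ten_base

theorem kill_TT : Kill ↥Cfsg.Agent.TitsK.TT :=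
  kill_of_facts Cfsg.Agent.CpAutTits.Ten.facts Cfsg.Agent.CpAutTits.Row.out_TT

theorem kill_tits {X : Type*} [Group X] (h : Cfsg.Lie.IsoTits X) : Kill X := by
  obtain ⟨e⟩ := Cfsg.Agent.CpAutTits.Row.exists_equiv h
  exact Kill.congr (S := ↥Cfsg.Agent.TitsK.TT) (T := X) e.symm kill_TT

end Cfsg.Agent.H480
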