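import Cfsg.Agent.H480.RowLie
import Cfsg.Agent.H480.RowAlt
import Cfsg.Agent.H480.SporAll
import Cfsg.Agent.H480.SporTits
import Cfsg.Agent.OddHalf.Known

/-!
# Nilpotent minimal covers: all the known simple groups (helper480, S3925, S3926)
-/

set_option autoImplicit false

namespace Cfsg.Agent.H480

open Cfsg

universe u v

theorem row_known {S : Type v} [Group S] [Finite S] (hna : ¬ IsMulCommutative S) (h : IsKnownSimple' S) :
    Row.{u} S := by
  rcases OddHalf.Known.classify' hna h with h | ⟨p, hp, h⟩ | h | h
  · obtain ⟨n, hn, ⟨e⟩⟩ := h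
    exact Row.congr e.symm (Cfsg.Agent.H480.RowAlt.row_alt hn)
  · exact row_lie hp h
  · exact Row.of_kill (kill_tits h)
  · exact row_sporadic h

end Cfsg.Agent.H480
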