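import Cfsg.Agent.H480.Swap
import Cfsg.Agent.H480.FrameRgd
import Cfsg.Agent.OddHalf.D4.G2.Center

/-!
# Nilpotent minimal covers: `G_2(q)` (helper480, S3925, S3926)
-/

set_option autoImplicit false
set_option linter.unusedSectionVars false

namespace Cfsg.Agent.H480.Fr

open CoxeterSystem Cfsg.Agent.ChevalleyStructure.CoxeterGeom Cfsg.Agent.Tits.Roots Cfsg.Agent.Tits.Core
  Cfsg.Agent.Tits.RootComb Cfsg.Agent.Nodes.Comb Cfsg.Agent.Nodes.Reps Cfsg.Agent.Nodes.BNOf Cfsg.Agent.FixBN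
  Cfsg.Agent.KFacts.RgdFilt Cfsg.Agent.KFacts.RgdBorelTits Subgroup
open scoped commutatorElement

universe u v

/-- **Root group data of rank two with a central root group.** -/
theorem row_of_rgd_center {S : Type v} [Group S] [Finite S] (hs : IsSimpleGroup S) {p : ℕ} [hp : Fact p.Prime]
    {W : Type*} [Group W] [Finite W] {M : CoxeterMatrix (Fin 2)} {cs : CoxeterSystem M W} {A : Fin 2 → Fin 2 → ℤ}
    {h : IsCartan M A} {T : Subgroup S} {n : Fin 2 → S} {X : (Fin 2 → ℤ) → Subgroup S} (R : RGD cs h p T n X)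
    (hG1 : Nodes.RGDLib.G1 cs h X = ⊤) (hI : IntComm cs h X) {i j : Fin 2} (hij : i ≠ j) {ρ : Fin 2 → ℤ}
    (hρ : ρ ∈ RGD.Pos cs h) (hX : ∃ z ∈ X ρ, z ≠ 1) (hab : ∀ a ∈ X ρ, ∀ b ∈ X ρ, b * a = a * b)
    (h1 : ∀ y ∈ RGD.Pos cs h, y ≠ ρ → ∀ z, ¬ IB cs h ρ y z) (h2 : ∀ z, ¬ IB cs h ρ (-sr i) z) (hρi : ρ ≠ sr i)
    (h3 : X (rep cs h (cs.simple j) ρ) ⊓ X ρ = ⊥)
    (hp2 : p ≠ 2 ∨ ∀ z ∈ RGD.Sup X (RGD.Pos cs h), (∀ u ∈ RGD.Sup X (RGD.Pos cs h), u * z = z * u) → z ∈ X ρ) :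
    Row.{u} S := by
  have hgen : RGD.B cs h T X ⊔ NN cs R.nsys = ⊤ := by
    rw [eq_top_iff, ← hG1]
    exact Nodes.RGDLib.rgd_G1_le R
  have hne : (R.bnPair hgen).S.Nonempty := ⟨n i, i, rfl⟩
  have hP := SplitRGD.split_of_rgd hp.1 R hgen (Cfsg.Agent.Tits.OfBN.normalCore_eq_bot (R.bnPair hgen) hne)
  have hall : ∀ k, k = i ∨ k = j := by
    intro k
    fin_cases i <;> fin_cases j <;> fin_cases k <;> first | exact absurd rfl hij | exact Or.inl rfl | exact Or.inr rfl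
  have hcomm0 : ∀ x y, IsRoot cs h x → IsRoot cs h y → x ≠ y → x ≠ -y → (∀ z, ¬ IB cs h x y z) →
      ∀ a ∈ X x, ∀ b ∈ X y, b * a = a * b := by
    intro x y hx hy hxy hxy' hn a ha b hb
    have e := hI x y hx hy hxy hxy' a ha b hb
    have e2 : FS X {z | IB cs h x y z} = ⊥ := by
      rw [eq_bot_iff]
      exact FS_le fun z hz => absurd hz (hn z)
    rw [e2, Subgroup.mem_bot, commutatorElement_eq_one_iff_mul_comm] at e
    exact e.symm
  have hneg : ∀ y ∈ RGD.Pos cs h, ρ ≠ -y := by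
    intro y hy h4
    have h5 := RGD.ht_pos hρ.1 hρ.2
    have h6 := RGD.ht_pos hy.1 hy.2
    have h7 : ∀ k, y k = 0 := by
      intro k
      have h8 : 0 ≤ ρ k := hρ.2 k
      have h9 : 0 ≤ y k := hy.2 k
      rw [h4, Pi.neg_apply] at h8
      omega
    exact hy.1.ne_zero (funext h7)
  refine row_of_center (P := R.bnPair hgen) (U := RGD.Sup X (RGD.Pos cs h)) hP (s := n i) (t := n j) ?_ ?_
    (Z := X ρ) ⟨hX, RGD.le_Sup hρ, ?_, ?_, ?_, ?_⟩ hp2
  · change Set.range n = _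
    ext x
    constructor
    · rintro ⟨k, rfl⟩
      rcases hall k with rfl | rfl
      · exact Set.mem_insert _ _
      · exact Set.mem_insert_of_mem _ rfl
    · rintro (rfl | rfl)
      · exact ⟨_, rfl⟩
      · exact ⟨_, rfl⟩
  · exact fun h4 => hij (R.n_injective h4)
  · intro z hz u hu
    refine Subgroup.iSup_induction (fun y : RGD.Pos cs h => X y.1) (C := fun u => u * z = z * u) hu ?_ ?_ ?_
    · rintro ⟨y, hy⟩ b hb
      by_cases hyρ : y = ρ
      · subst hyρ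
        exact hab z hz b hb
      · exact hcomm0 ρ y hρ.1 hy.1 (Ne.symm hyρ) (hneg y hy) (h1 y hy hyρ) z hz b hb
    · rw [one_mul, mul_one]
    · intro a b ha hb
      rw [mul_assoc, hb, ← mul_assoc, ha, mul_assoc]
  · intro b hb z hz
    obtain ⟨t, ht, u, hu, rfl⟩ := R.mem_B.1 (show b ∈ RGD.B cs h T X from hb)
    have h4 : u * z = z * u := by
      refine Subgroup.iSup_induction (fun y : RGD.Pos cs h => X y.1) (C := fun u => u * z = z * u) hu ?_ ?_ ?_
      · rintro ⟨y, hy⟩ b hb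
        by_cases hyρ : y = ρ
        · subst hyρ
          exact hab z hz b hb
        · exact hcomm0 ρ y hρ.1 hy.1 (Ne.symm hyρ) (hneg y hy) (h1 y hy hyρ) z hz b hb
      · rw [one_mul, mul_one]
      · intro a b ha hb
        rw [mul_assoc, hb, ← mul_assoc, ha, mul_assoc]
    have h5 : t * u * z * (t * u)⁻¹ = t * z * t⁻¹ := by
      calc t * u * z * (t * u)⁻¹ = t * (u * z) * u⁻¹ * t⁻¹ := by group
        _ = _ := by rw [h4]; group
    rw [h5]
    have h6 := R.tor ρ hρ.1 t ht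
    have h7 : t * z * t⁻¹ ∈ cj t (X ρ) := conj_mem_cj.2 hz
    rwa [h6] at h7
  · -- the negative root group
    have hXn : X (-sr i) ≠ ⊥ := Nodes.Bruhat.X_ne_bot R (isRoot_sr cs h i).neg
    obtain ⟨u, hu, hu1⟩ := (Subgroup.bot_or_exists_ne_one (X (-sr i))).resolve_left hXn
    obtain ⟨a, ha, t, ht, b, hb, hub⟩ := R.rk1 i u hu hu1
    have hXB : X (sr i) ≤ RGD.B cs h T X := RGD.X_le_B (isRoot_sr cs h i) (sr_nonneg i)
    refine ⟨a * t, mul_mem (hXB ha) (RGD.T_le_B ht), b, hXB hb, ?_⟩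
    intro z hz
    rw [← hub]
    refine hcomm0 ρ (-sr i) hρ.1 (isRoot_sr cs h i).neg ?_ ?_ h2 z hz u hu
    · intro h4
      have h5 := hneg (sr i) ⟨isRoot_sr cs h i, sr_nonneg i⟩
      exact h5 h4
    · rw [neg_neg]
      exact hρi
  · intro z hz hzt
    have h4 := R.conj_mem (rp_simple cs R.nsys j) hρ.1 hz
    have h5 : n j * z * (n j)⁻¹ ∈ X (rep cs h (cs.simple j) ρ) ⊓ X ρ := ⟨h4, hzt⟩
    rw [h3, Subgroup.mem_bot] at h5
    have h6 : z = (n j)⁻¹ * (n j * z * (n j)⁻¹) * n j := by group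
    rw [h6, h5]
    group

end Cfsg.Agent.H480.Fr

namespace Cfsg.Agent.H480.GTwo

open CoxeterSystem Cfsg.Agent.ChevalleyStructure.CoxeterGeom Cfsg.Agent.Tits.Roots Cfsg.Agent.Tits.Core
  Cfsg.Agent.Nodes.Reps Cfsg.Agent.Nodes.BNOf Cfsg.Agent.KFacts.RgdFilt Cfsg.Agent.KFacts.RgdBorelTits Subgroup
  Cfsg.Agent.OddHalf.D4.LineFilt Cfsg.Agent.OddHalf.D4.LineRgd Cfsg.Agent.OddHalf.D4.LineGTwoInst
open Cfsg.Lie Cfsg.Agent.ChevalleyStructure Cfsg.Agent.ChevalleyStructure.Elts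
  Cfsg.Agent.ChevalleyStructure.RootVec Cfsg.Agent.ChevalleyStructure.RootVecTab
  Cfsg.Agent.ChevalleyStructure.NPerm Cfsg.Agent.ChevalleyStructure.CoxeterGeomTypes Cfsg.Agent.Nodes.RGDChev
open scoped commutatorElement

universe u v

theorem tab : ∀ r ∈ List.range 12, 2 ≤ rt chevG2 r 1 → rt chevG2 r 0 = 3 ∧ rt chevG2 r 1 = 2 := by decide +kernel

theorem tab11 : rt chevG2 11 0 = 3 ∧ rt chevG2 11 1 = 2 := by decide +kernel

theorem tab_refl : chevG2.reflectRoot 1 11 = 10 := by decide +kernel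

theorem root_cases {z : Fin 2 → ℤ} (hz : IsRoot CS isType.isCartan z) (h : 2 ≤ z 1) : z 0 = 3 ∧ z 1 = 2 := by
  obtain ⟨r, hr, rfl⟩ := (isRoot_iff isType CS z).1 hz
  rw [nroots_eq] at hr
  exact tab r (List.mem_range.2 hr) h

theorem xg_add' {F : Type v} [Field F] (r : ℕ) (t u : F) : xg F r (t + u) = xg F r t * xg F r u :=
  Subtype.ext (xG_add isType.inList _ _ _).symm

theorem xg_inj' {F : Type v} [Field F] {r : ℕ} (hr : r < 12) {t : F} (h : xg F r t = 1) : t = 0 :=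
  (xG_eq_one_iff isType.inList (by rw [nroots_eq]; exact hr) t).1 (congrArg Subtype.val h)

/-- **The row `G_2(q)`.** -/
theorem row_g2 {p : ℕ} [hp : Fact p.Prime] (F : Type v) [Field F] [Finite F] [CharP F p] :
    Row.{u} ↥(chevG2.group F) := by
  intro G _ _ K hK hs hna hc hcyc f
  have hsS : IsSimpleGroup ↥(chevG2.group F) := (MulEquiv.isSimpleGroup_congr f).2 hs
  have hfin : Finite ↥(chevG2.group F) := inferInstance
  have hW : Finite CoxeterMatrix.G₂.Group := finite_W isType CS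
  have hρ := pos_vec (r := 11) (by norm_num) (by norm_num)
  have h11 : ∀ {g : ↥(chevG2.group F)}, g ∈ (XV chevG2 2 F (vec chevG2 2 11)).subgroupOf (chevG2.group F) ↔
      ∃ t, g = xg F 11 t := by
    intro g
    rw [Subgroup.mem_subgroupOf, XV_vec isType F (lt_nroots (by norm_num)), mem_rootSubgroup_iff isType.inList]
    constructor
    · rintro ⟨t, ht⟩
      exact ⟨t, Subtype.ext ht⟩
    · rintro ⟨t, rfl⟩
      exact ⟨t, rfl⟩
  have hsr : (sr 0 : Fin 2 → ℤ) 0 = 1 := sr_self 0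
  have hsr1 : (sr 0 : Fin 2 → ℤ) 1 = 0 := sr_ne (by decide)
  have hv0 : vec chevG2 2 11 0 = 3 := tab11.1
  have hv1 : vec chevG2 2 11 1 = 2 := tab11.2
  refine Fr.row_of_rgd_center hsS (rgd (K := F) isType CS p) (G1_eq_top isType CS) (intComm_group isType F CS)
    (i := 0) (j := 1) (by decide) (ρ := vec chevG2 2 11) hρ ?_ ?_ ?_ ?_ ?_ ?_ ?_ G K hK hs hna hc hcyc f
  · exact ⟨xg F 11 1, h11.2 ⟨1, rfl⟩, fun h => one_ne_zero (xg_inj' (by norm_num) h)⟩
  · intro a ha b hb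
    obtain ⟨t, rfl⟩ := h11.1 ha
    obtain ⟨u, rfl⟩ := h11.1 hb
    rw [← xg_add', ← xg_add', add_comm]
  · intro y hy hyρ z hz
    obtain ⟨hz1, i, j, hi, hj, rfl⟩ := hz
    have e0 : (i • vec chevG2 2 11 + j • y) 0 = i * 3 + j * y 0 := by
      rw [Pi.add_apply, Pi.smul_apply, Pi.smul_apply, hv0]; rfl
    have e1 : (i • vec chevG2 2 11 + j • y) 1 = i * 2 + j * y 1 := by
      rw [Pi.add_apply, Pi.smul_apply, Pi.smul_apply, hv1]; rfl
    have hy0 : 0 ≤ y 0 := hy.2 0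
    have hy1 : 0 ≤ y 1 := hy.2 1
    have h0 : 0 ≤ j * y 0 := mul_nonneg hj.le hy0
    have h1 : 0 ≤ j * y 1 := mul_nonneg hj.le hy1
    have h2 := root_cases hz1 (by rw [e1]; linarith)
    rw [e0, e1] at h2
    have h3 : j * y 0 = 0 := by linarith [h2.1]
    have h4 : j * y 1 = 0 := by linarith [h2.2]
    apply hy.1.ne_zero
    funext k
    fin_cases k
    · exact (mul_eq_zero.1 h3).resolve_left hj.ne'
    · exact (mul_eq_zero.1 h4).resolve_left hj.ne'
  · intro z hz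
    obtain ⟨hz1, i, j, hi, hj, rfl⟩ := hz
    have e0 : (i • vec chevG2 2 11 + j • (-sr 0) : Fin 2 → ℤ) 0 = i * 3 - j := by
      rw [Pi.add_apply, Pi.smul_apply, Pi.smul_apply, hv0, Pi.neg_apply, hsr, smul_eq_mul, smul_eq_mul]; ring
    have e1 : (i • vec chevG2 2 11 + j • (-sr 0) : Fin 2 → ℤ) 1 = i * 2 := by
      rw [Pi.add_apply, Pi.smul_apply, Pi.smul_apply, hv1, Pi.neg_apply, hsr1, smul_eq_mul, smul_eq_mul]; ring
    have h2 := root_cases hz1 (by rw [e1]; linarith)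
    rw [e0, e1] at h2
    linarith [h2.1, h2.2]
  · intro h
    have h1 := congrFun h 0
    rw [hv0, hsr] at h1
    norm_num at h1
  · rw [rep_vec isType CS 1 (lt_nroots (by norm_num))]
    have e : chevG2.reflectRoot ((1 : Fin 2) : ℕ) 11 = 10 := tab_refl
    rw [e]
    have h1 := X_inf_V (rgd (K := F) isType CS p) (intComm_group isType F CS)
      (pos_vec (r := 10) (by norm_num) (by norm_num)) (d := 5) (by
        rw [ht_vec]
        obtain ⟨h1, h2, h3, h4, h5, h6⟩ := tab_ht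
        rw [h5]; norm_num)
    have h2 : (XV chevG2 2 F (vec chevG2 2 11)).subgroupOf (chevG2.group F) ≤
        V (Yp (cs := CS) (h := isType.isCartan) (fun x => (XV chevG2 2 F x).subgroupOf (chevG2.group F))) wt 5 := by
      refine X_le_V (cs := CS) (h := isType.isCartan)
        (X := fun x => (XV chevG2 2 F x).subgroupOf (chevG2.group F)) hρ ?_
      rw [ht_vec]
      obtain ⟨h1, h2, h3, h4, h5, h6⟩ := tab_ht
      rw [h6]; norm_num
    rw [eq_bot_iff, ← h1]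
    exact inf_le_inf_left _ h2
  · by_cases h2 : p = 2
    · subst h2
      right
      intro z hz hz'
      obtain ⟨t, rfl⟩ := Cfsg.Agent.OddHalf.D4.G2.Center.center_le hz hz'
      exact h11.2 ⟨t, rfl⟩
    · exact Or.inl h2

end Cfsg.Agent.H480.GTwo
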