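import Cfsg.Agent.H480.RankOne
import Cfsg.Agent.H322.Tri.Suz
import Cfsg.Agent.OddCyclic.CaseESz

/-!
# Nilpotent minimal covers: the Suzuki groups (helper480, S3925, S3926)
-/

set_option autoImplicit false

namespace Cfsg.Agent.H480

open Subgroup Cfsg.Agent.ThreePrime

universe u v

theorem pair_sz {J : Type v} [Group J] [Finite J] (h : Cfsg.Lie.IsoSuzuki J) :
    ∃ r : ℕ, r.Prime ∧ Pair 2 r J := by
  have hf2 : Fact (Nat.Prime 2) := ⟨Nat.prime_two⟩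
  obtain ⟨P⟩ : Nonempty (Sylow 2 J) := inferInstance
  obtain ⟨F, _, _, R, h8, hT⟩ := H322.Tri.exists_rel_sylow h P
  have h2 : (2 : F) = 0 := R.two
  have hch : CharP F 2 := CharTwo.of_one_ne_zero_of_two_eq_zero one_ne_zero h2
  obtain ⟨n, -, hn⟩ := FiniteField.card F 2
  have hcu : Nat.card Fˣ = 2 ^ (n : ℕ) - 1 := by
    rw [Nat.card_units, Nat.card_eq_fintype_card, hn]
  rw [Nat.card_eq_fintype_card, hn] at h8
  have hev : Even (2 ^ (n : ℕ)) := (Nat.even_pow.2 ⟨even_two, n.pos.ne'⟩)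
  have hodd : Odd (Nat.card Fˣ) := by
    rw [hcu]
    exact Nat.Even.sub_odd (by omega) hev odd_one
  have h1 : Nat.card Fˣ ≠ 1 := by
    rw [hcu]
    omega
  obtain ⟨r, hr, hrd⟩ := Nat.exists_prime_and_dvd h1
  have hfr : Fact r.Prime := ⟨hr⟩
  have hro : Odd r := hodd.of_dvd_nat hrd
  have hr2 : r ≠ 2 := by
    rintro rfl
    exact absurd hro (by decide)
  obtain ⟨k, hk⟩ := exists_prime_orderOf_dvd_card' r hrd
  have hk1 : k ≠ 1 := by
    rintro rfl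
    rw [orderOf_one] at hk
    exact hr.one_lt.ne hk
  have hmemP : ∀ g : J, g ∈ (P : Subgroup J) ↔ ∃ a b : F, g = R.u a b := by
    intro g
    rw [← hT, R.mem_T]
  refine ⟨r, hr, pair_of_bn P R.D R.w (R.d k) ?_ ?_ ?_ ?_ ?_ ?_ ?_ hr2 hr2 (R.d_mem k) ?_ ?_ ?_ ?_⟩
  · rw [← hT]
    exact R.D_le
  · intro t ht htP
    obtain ⟨l, rfl⟩ := (R.mem_D t).1 ht
    obtain ⟨a, b, hab⟩ := (hmemP _).1 htP
    have h3 : R.u 0 0 * R.d l = R.u a b * R.d 1 := by rw [R.u_zero, one_mul, R.d_one, mul_one, hab]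
    rw [(R.ud_inj h3).2.2, R.d_one]
  · intro g
    rcases R.bruhat g with ⟨a, b, l, rfl⟩ | ⟨a, b, c, e, l, rfl⟩
    · exact Or.inl ⟨_, (hmemP _).2 ⟨a, b, rfl⟩, _, R.d_mem l, rfl⟩
    · exact Or.inr ⟨_, (hmemP _).2 ⟨a, b, rfl⟩, _, (hmemP _).2 ⟨c, e, rfl⟩, _, R.d_mem l, rfl⟩
  · intro a ha hN
    obtain ⟨b, c, rfl⟩ := (hmemP _).1 ha
    rw [← hT] at hN
    obtain ⟨b', c', l, h3⟩ := R.norm hN
    rw [R.w_inv] at h3
    obtain ⟨rfl, rfl⟩ := R.inter _ _ _ _ _ h3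
    exact R.u_zero
  · rw [R.w_inv, R.w_mul_d, mul_assoc, R.w_mul_w, mul_one]
    exact R.d_mem _
  · rw [← hT]
    exact R.w_not_mem_normalizer
  · refine orderOf_eq_prime ?_ ?_
    · have h3 : ∀ n : ℕ, R.d k ^ n = R.d (k ^ n) := by
        intro n
        induction n with
        | zero => simp [R.d_one]
        | succ n ih => rw [pow_succ, ih, R.d_mul, pow_succ]
      rw [h3, ← hk, pow_orderOf_eq_one, R.d_one]
    · intro h3
      exact hk1 (R.d_inj (h3.trans R.d_one.symm))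
  · intro t ht
    obtain ⟨l, rfl⟩ := (R.mem_D t).1 ht
    rw [R.d_mul, R.d_mul, mul_comm]
  · intro a ha hx
    obtain ⟨b, c, rfl⟩ := (hmemP _).1 ha
    rcases R.fpf (k := k) (a := b) (b := c) (by rw [hx, mul_inv_cancel_right]) with h3 | ⟨rfl, rfl⟩
    · exact absurd h3 hk1
    · exact R.u_zero
  · intro h3
    rw [R.w_inv, R.w_mul_d, mul_assoc, R.w_mul_w, mul_one] at h3
    have h4 := R.d_inj h3
    have h5 : k ^ 2 = 1 := by
      rw [pow_two]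
      nth_rw 1 [← h4]
      exact inv_mul_cancel k
    have h6 := orderOf_dvd_of_pow_eq_one h5
    rw [hk] at h6
    exact hr2 ((Nat.prime_dvd_prime_iff_eq hr Nat.prime_two).1 h6)
  · exact ⟨R.u 0 1, (hmemP _).2 ⟨0, 1, rfl⟩, R.u_ne_one one_ne_zero⟩

theorem row_sz {S : Type v} [Group S] [Finite S] (h : Cfsg.Lie.IsoSuzuki S) : Row.{u} S := by
  intro G _ _ K hK hs hna hc hcyc f 𝓐 hA
  have hf2 : Fact (Nat.Prime 2) := ⟨Nat.prime_two⟩
  obtain ⟨r, hr, hP⟩ := pair_sz h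
  have hfr : Fact r.Prime := ⟨hr⟩
  have hKS : Cfsg.Lie.IsoSuzuki ↥K := by
    obtain ⟨F, i1, i2, m, hm, hF, ⟨e⟩⟩ := h
    exact ⟨F, i1, i2, m, hm, hF, ⟨f.symm.trans e⟩⟩
  refine hP.not_nmc f ?_ hA
  intro g hg
  have h1 := OddCyclic.CaseESz.inner hKS (x := g) (by rw [normalizer_eq_top]; exact mem_top g) hg
  rw [hc, sup_bot_eq] at h1
  exact h1

end Cfsg.Agent.H480
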