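import Cfsg.Agent.H480.Row

/-!
# Nilpotent minimal covers: `SL₂` in the centralizer (helper480, S3925, S3926)
-/

set_option autoImplicit false

namespace Cfsg.Agent.H480

open Subgroup Matrix

theorem not_nilpotent_of_coprime {S : Type*} [Group S] {D : Subgroup S} {a b : S} (ha : a ∈ D) (hb : b ∈ D)
    {m n : ℕ} (h : m.Coprime n) (ham : a ^ m = 1) (hbn : b ^ n = 1) (hab : a * b ≠ b * a) :
    ¬ Group.IsNilpotent ↥D := by
  intro hn
  apply hab
  have h3 : Commute (⟨a, ha⟩ : ↥D) ⟨b, hb⟩ :=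
    Lib.NilpotentCoprime.commute_of_coprime_orderOf (by
      rw [← orderOf_coe, ← orderOf_coe]
      exact Nat.Coprime.coprime_dvd_left (orderOf_dvd_of_pow_eq_one ham)
        (Nat.Coprime.coprime_dvd_right (orderOf_dvd_of_pow_eq_one hbn) h))
  exact congrArg Subtype.val h3.eq

variable {F : Type*} [Field F]

/-- the upper transvection -/
def uu (F : Type*) [Field F] : SpecialLinearGroup (Fin 2) F := ⟨!![1, 1; 0, 1], by simp [det_fin_two]⟩
/-- the lower transvection -/
def ll (F : Type*) [Field F] : SpecialLinearGroup (Fin 2) F := ⟨!![1, 0; -1, 1], by simp [det_fin_two]⟩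
/-- the Weyl element -/
def ww (F : Type*) [Field F] : SpecialLinearGroup (Fin 2) F := ⟨!![0, 1; -1, 0], by simp [det_fin_two]⟩

theorem uu_coe : ((uu F : SpecialLinearGroup (Fin 2) F) : Matrix (Fin 2) (Fin 2) F) = !![1, 1; 0, 1] := rfl
theorem ll_coe : ((ll F : SpecialLinearGroup (Fin 2) F) : Matrix (Fin 2) (Fin 2) F) = !![1, 0; -1, 1] := rfl
theorem ww_coe : ((ww F : SpecialLinearGroup (Fin 2) F) : Matrix (Fin 2) (Fin 2) F) = !![0, 1; -1, 0] := rfl

theorem ww_uu : ww F * uu F * (ww F)⁻¹ = ll F := by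
  rw [mul_inv_eq_iff_eq_mul]
  ext i j; fin_cases i <;> fin_cases j <;> simp [uu_coe, ll_coe, ww_coe]

theorem uu_ll_uu : uu F * ll F * uu F = ww F := by
  ext i j; fin_cases i <;> fin_cases j <;> simp [uu_coe, ll_coe, ww_coe]

theorem uu_pow (n : ℕ) : (!![1, 1; 0, 1] : Matrix (Fin 2) (Fin 2) F) ^ n = !![1, (n : F); 0, 1] := by
  induction n with
  | zero => ext i j; fin_cases i <;> fin_cases j <;> simp
  | succ n ih =>
    rw [pow_succ, ih]
    ext i j; fin_cases i <;> fin_cases j <;> simp [add_comm]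

theorem uu_pow_char (p : ℕ) [CharP F p] : uu F ^ p = 1 := by
  have h : (uu F : Matrix (Fin 2) (Fin 2) F) ^ p = 1 := by
    rw [uu_coe, uu_pow, CharP.cast_eq_zero]
    ext i j; fin_cases i <;> fin_cases j <;> simp
  exact Subtype.ext ((Matrix.SpecialLinearGroup.coe_pow (uu F) p).trans h)

theorem ww_sq : ww F * ww F = -1 := by
  ext i j; fin_cases i <;> fin_cases j <;> simp [ww_coe]

theorem ul_cube : (uu F * ll F) ^ 3 = -1 := by
  rw [pow_succ, pow_two]
  ext i j; fin_cases i <;> fin_cases j <;> simp [uu_coe, ll_coe]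

/-- **The conjugates of a transvection under `SL₂(F)` do not generate a nilpotent group.** -/
theorem not_nilpotent_of_sl {S : Type*} [Group S] {C : Subgroup S} (θ : SpecialLinearGroup (Fin 2) F →* S)
    (hθ : ∀ A, θ A = 1 → A = 1 ∨ A = -1) (hw : θ (ww F) ∈ C) (p : ℕ) [hp : Fact p.Prime] [CharP F p] :
    ¬ Group.IsNilpotent ↥(closure (cjs C (θ (uu F)))) := by
  have hu : θ (uu F) ∈ closure (cjs C (θ (uu F))) := subset_closure (mem_cjs_self _ _)
  have hl : θ (ll F) ∈ closure (cjs C (θ (uu F))) :=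
    subset_closure ⟨_, hw, by rw [← ww_uu, map_mul, map_mul, map_inv]⟩
  have hne : ∀ A B : SpecialLinearGroup (Fin 2) F, θ A = θ B → A = B ∨ A = -B := by
    intro A B h
    have h1 := hθ (A * B⁻¹) (by rw [map_mul, h, map_inv, mul_inv_cancel])
    rcases h1 with h1 | h1
    · exact Or.inl (mul_inv_eq_one.1 h1)
    · right
      have h2 := mul_inv_eq_iff_eq_mul.1 h1
      rw [h2, neg_mul, one_mul]
  rcases hp.1.eq_two_or_odd' with rfl | hodd
  · have h2 : (2 : F) = 0 := CharTwo.two_eq_zero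
    have hneg : (-1 : SpecialLinearGroup (Fin 2) F) = 1 := by
      ext i j
      fin_cases i <;> fin_cases j <;> simp [CharTwo.neg_eq]
    refine not_nilpotent_of_coprime (mul_mem hu hl) hu (m := 3) (n := 2) (by norm_num) ?_ ?_ ?_
    · rw [← map_mul, ← map_pow, ul_cube, hneg, map_one]
    · rw [← map_pow, uu_pow_char 2, map_one]
    · intro h
      rw [← map_mul, ← map_mul, ← map_mul] at h
      rcases hne _ _ h with h1 | h1
      · have h3 := congrArg (fun A : SpecialLinearGroup (Fin 2) F => (A : Matrix (Fin 2) (Fin 2) F) 0 0) h1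
        simp [uu_coe, ll_coe] at h3
      · have h3 := congrArg (fun A : SpecialLinearGroup (Fin 2) F => (A : Matrix (Fin 2) (Fin 2) F) 0 0) h1
        simp [uu_coe, ll_coe] at h3
  · have hww : θ (ww F) ∈ closure (cjs C (θ (uu F))) := by
      rw [← uu_ll_uu, map_mul, map_mul]
      exact mul_mem (mul_mem hu hl) hu
    refine not_nilpotent_of_coprime hww hu (m := 4) (n := p) (by
      exact Nat.Coprime.pow_left 2 (hodd.coprime_two_left)) ?_ ?_ ?_
    · rw [← map_pow, show 4 = 2 * 2 from rfl, pow_mul, pow_two (ww F), ww_sq]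
      simp
    · rw [← map_pow, uu_pow_char p, map_one]
    · intro h
      rw [← map_mul, ← map_mul] at h
      rcases hne _ _ h with h1 | h1
      · have h3 := congrArg (fun A : SpecialLinearGroup (Fin 2) F => (A : Matrix (Fin 2) (Fin 2) F) 0 0) h1
        simp [uu_coe, ww_coe] at h3
      · have h3 := congrArg (fun A : SpecialLinearGroup (Fin 2) F => (A : Matrix (Fin 2) (Fin 2) F) 0 0) h1
        simp [uu_coe, ww_coe] at h3

end Cfsg.Agent.H480
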