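import Cfsg.Agent.H480.Sl
import Cfsg.Agent.ClassicalGeometry.SympInvolutions

/-!
# Nilpotent minimal covers: `PSp₄(q)` (helper480, S3925, S3926)
-/

set_option autoImplicit false
set_option linter.unusedSectionVars false
set_option linter.unusedSimpArgs false

namespace Cfsg.Agent.H480.SpFour

open Subgroup Matrix Cfsg Cfsg.Agent.ClassicalGeometry

variable {F : Type*} [Field F]

abbrev Mx (F : Type*) := Matrix (Fin 2 ⊕ Fin 2) (Fin 2 ⊕ Fin 2) F

/-- two orthogonal planes -/
def emb (A B : Matrix (Fin 2) (Fin 2) F) : Mx F :=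
  fromBlocks (diagonal ![A 0 0, B 0 0]) (diagonal ![A 0 1, B 0 1]) (diagonal ![A 1 0, B 1 0])
    (diagonal ![A 1 1, B 1 1])

theorem emb_mul (A B A' B' : Matrix (Fin 2) (Fin 2) F) : emb A B * emb A' B' = emb (A * A') (B * B') := by
  unfold emb
  rw [fromBlocks_multiply]
  simp only [diagonal_mul_diagonal, diagonal_add]
  congr 2 <;> (ext i; fin_cases i <;> simp [Matrix.mul_apply, Fin.sum_univ_two])

theorem emb_one : emb (1 : Matrix (Fin 2) (Fin 2) F) 1 = 1 := by
  unfold emb
  rw [← fromBlocks_one]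
  congr 1 <;> (ext i j; fin_cases i <;> fin_cases j <;> simp)

theorem emb_neg (A B : Matrix (Fin 2) (Fin 2) F) : emb (-A) (-B) = - emb A B := by
  unfold emb
  rw [fromBlocks_neg]
  congr 1 <;> (ext i j; fin_cases i <;> fin_cases j <;> simp)

theorem emb_mem {A B : Matrix (Fin 2) (Fin 2) F} : emb A B ∈ symplecticGroup (Fin 2) F ↔ A.det = 1 ∧ B.det = 1 := by
  rw [_root_.SymplecticGroup.mem_iff]
  unfold emb Matrix.J
  rw [fromBlocks_transpose, fromBlocks_multiply, fromBlocks_multiply]
  rw [det_fin_two, det_fin_two, fromBlocks_inj]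
  simp only [diagonal_transpose, mul_zero, mul_one, zero_mul, mul_neg, neg_mul, zero_add, add_zero,
    diagonal_mul_diagonal, diagonal_neg, diagonal_add]
  simp only [← ext_iff, Fin.forall_fin_two, diagonal_apply]
  simp
  constructor
  · rintro ⟨h1, h2, h3, h4⟩
    exact ⟨by linear_combination h3.1, by linear_combination h3.2⟩
  · rintro ⟨hA, hB⟩
    refine ⟨⟨by ring, by ring⟩, ⟨by linear_combination (-1 : F) * hA, by linear_combination (-1 : F) * hB⟩,
      ⟨by linear_combination hA, by linear_combination hB⟩, ⟨by ring, by ring⟩⟩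

theorem emb_inj {A B A' B' : Matrix (Fin 2) (Fin 2) F} (h : emb A B = emb A' B') : A = A' ∧ B = B' := by
  unfold emb at h
  rw [fromBlocks_inj] at h
  simp only [← ext_iff, Fin.forall_fin_two, diagonal_apply] at h ⊢
  simp at h
  obtain ⟨h1, h2, h3, h4⟩ := h
  exact ⟨⟨⟨h1.1, h2.1⟩, ⟨h3.1, h4.1⟩⟩, ⟨⟨h1.2, h2.2⟩, ⟨h3.2, h4.2⟩⟩⟩

/-- `SL₂ × SL₂ → Sp₄` -/
def J (F : Type*) [Field F] : Matrix.SpecialLinearGroup (Fin 2) F × Matrix.SpecialLinearGroup (Fin 2) F →*
    symplecticGroup (Fin 2) F where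
  toFun A := ⟨emb A.1 A.2, emb_mem.2 ⟨A.1.2, A.2.2⟩⟩
  map_one' := Subtype.ext (by simp [emb_one])
  map_mul' A B := Subtype.ext (by simp [emb_mul])

theorem J_coe (A : Matrix.SpecialLinearGroup (Fin 2) F × Matrix.SpecialLinearGroup (Fin 2) F) :
    (J F A : Mx F) = emb A.1 A.2 := rfl

/-- the projection -/
def pi (F : Type*) [Field F] : symplecticGroup (Fin 2) F →* PSp 2 F := QuotientGroup.mk' _

theorem pi_surj : Function.Surjective (pi F) := QuotientGroup.mk'_surjective _

theorem eq_or_neg {X Y : symplecticGroup (Fin 2) F} (h : pi F X = pi F Y) :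
    (X : Mx F) = Y ∨ (X : Mx F) = - (Y : Mx F) := by
  have h1 : X * Y⁻¹ ∈ center (symplecticGroup (Fin 2) F) := by
    rw [← QuotientGroup.eq_one_iff]
    change pi F (X * Y⁻¹) = 1
    rw [map_mul, h, map_inv, mul_inv_cancel]
  have h2 : (X : Mx F) = ((X * Y⁻¹ : symplecticGroup (Fin 2) F) : Mx F) * (Y : Mx F) := by
    rw [← Submonoid.coe_mul, inv_mul_cancel_right]
  rcases SympInvolutions.center_eq h1 with h3 | h3
  · left; rw [h2, h3, one_mul]
  · right; rw [h2, h3, neg_mul, one_mul]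

theorem pi_neg_one : pi F (J F (-1, -1)) = 1 := by
  refine (QuotientGroup.eq_one_iff _).2 (mem_center_iff.2 fun g => ?_)
  apply Subtype.ext
  have h : (J F (-1, -1) : Mx F) = -1 := by
    rw [J_coe]
    simp only [Matrix.SpecialLinearGroup.coe_neg, Matrix.SpecialLinearGroup.coe_one]
    rw [emb_neg, emb_one]
  rw [Submonoid.coe_mul, Submonoid.coe_mul, h]
  simp

theorem pi_of_neg {X Y : symplecticGroup (Fin 2) F} (h : (X : Mx F) = - (Y : Mx F)) : pi F X = pi F Y := by
  have h1 : X = J F (-1, -1) * Y := by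
    apply Subtype.ext
    rw [Submonoid.coe_mul, J_coe]
    simp only [Matrix.SpecialLinearGroup.coe_neg, Matrix.SpecialLinearGroup.coe_one]
    rw [emb_neg, emb_one, h, neg_mul, one_mul]
  rw [h1, map_mul, pi_neg_one, one_mul]

/-- elements commuting with a transvection and with `diag(y, y⁻¹)` on the other plane -/
theorem eq_emb {X : Mx F} (hX : X ∈ symplecticGroup (Fin 2) F) {y y' : F} (hy : y ≠ 1) (hy' : y' ≠ 1)
    {l : F} (hd : X * emb 1 !![1, 1; 0, 1] = emb 1 !![1, 1; 0, 1] * X)
    (hz : X * emb !![y, 0; 0, y'] 1 = l • (emb !![y, 0; 0, y'] 1 * X)) :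
    ∃ (A : Matrix (Fin 2) (Fin 2) F) (c n : F), X = emb A !![c, n; 0, c] ∧ (y ≠ y' → A 0 1 = 0 ∧ A 1 0 = 0) := by
  have e1 : X = fromBlocks X.toBlocks₁₁ X.toBlocks₁₂ X.toBlocks₂₁ X.toBlocks₂₂ := (fromBlocks_toBlocks X).symm
  set P := X.toBlocks₁₁ with hP
  set Q := X.toBlocks₁₂ with hQ
  set R := X.toBlocks₂₁ with hR
  set T := X.toBlocks₂₂ with hT
  clear_value P Q R T
  subst e1
  unfold emb at hd hz ⊢
  rw [fromBlocks_multiply, fromBlocks_multiply, fromBlocks_inj] at hd
  rw [fromBlocks_multiply, fromBlocks_multiply, fromBlocks_smul, fromBlocks_inj] at hz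
  simp only [← ext_iff, Fin.forall_fin_two, diagonal_apply, Matrix.add_apply, Matrix.mul_diagonal,
    Matrix.diagonal_mul, Matrix.smul_apply] at hd hz
  simp at hd hz
  obtain ⟨⟨hR10, hR11⟩, ⟨hP01, hT10, hPT⟩, hR01, -⟩ := hd
  obtain ⟨⟨⟨hz1, -⟩, hz2, hz3⟩, ⟨⟨hz4, hz5⟩, hz6, -⟩, ⟨⟨hz7, -⟩, -, -⟩, ⟨-, hz8⟩, -, -⟩ := hz
  have hPT' : P 1 1 = T 1 1 := by linear_combination hPT
  have hc : P 1 1 ≠ 0 := by
    intro h0
    have h1 := SymplecticGroup.symplectic_det hX
    rw [Matrix.det_eq_zero_of_row_eq_zero (Sum.inr 1) (by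
      rintro (j | j)
      · rw [fromBlocks_apply₂₁]; fin_cases j; exacts [hR10, hR11]
      · rw [fromBlocks_apply₂₂]; fin_cases j; exacts [hT10, hPT'.symm.trans h0])] at h1
    exact not_isUnit_zero h1
  have hl : l = 1 := by
    have h1 : (l - 1) * P 1 1 = 0 := by linear_combination -hz3
    rcases mul_eq_zero.1 h1 with h | h
    · linear_combination h
    · exact absurd h hc
  subst hl
  have key : ∀ a t : F, t ≠ 1 → a * t = a → a = 0 := by
    intro a t ht h
    have h1 : a * (t - 1) = 0 := by linear_combination h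
    exact (mul_eq_zero.1 h1).resolve_right (sub_ne_zero.2 ht)
  have hP10 : P 1 0 = 0 := key _ y hy (by linear_combination hz2)
  have hQ01 : Q 0 1 = 0 := key _ y hy (by linear_combination -hz5)
  have hQ10 : Q 1 0 = 0 := key _ y' hy' (by linear_combination hz6)
  have hT01 : T 0 1 = 0 := key _ y' hy' (by linear_combination -hz8)
  refine ⟨!![P 0 0, Q 0 0; R 0 0, T 0 0], P 1 1, Q 1 1, ?_, ?_⟩
  · rw [fromBlocks_inj]
    simp only [← ext_iff, Fin.forall_fin_two, diagonal_apply]
    simp [hP01, hP10, hQ01, hQ10, hR01, hR10, hR11, hT01, hT10, hPT']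
  · intro hyy
    have key2 : ∀ a : F, a * (y - y') = 0 → a = 0 := fun a h =>
      (mul_eq_zero.1 h).resolve_right (sub_ne_zero.2 hyy)
    constructor
    · exact key2 _ (show Q 0 0 * (y - y') = 0 by linear_combination -hz4)
    · exact key2 _ (show R 0 0 * (y - y') = 0 by linear_combination hz7)

theorem eq_of_sq {A : Matrix (Fin 2) (Fin 2) F} (h2 : (2 : F) ≠ 0) (hA : A.det = 1) (h : A * A = 1) :
    A = 1 ∨ A = -1 := by
  have h1 : A = A.adjugate := by
    have e1 : A * A.adjugate = 1 := by rw [Matrix.mul_adjugate, hA, one_smul]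
    calc A = A * (A * A.adjugate) := by rw [e1, mul_one]
      _ = A.adjugate := by rw [← mul_assoc, h, one_mul]
  rw [Matrix.adjugate_fin_two] at h1
  rw [det_fin_two] at hA
  simp only [← ext_iff, Fin.forall_fin_two] at h1 ⊢
  simp at h1 ⊢
  obtain ⟨⟨h3, h4⟩, h5, -⟩ := h1
  have key : ∀ a : F, a = -a → a = 0 := by
    intro a ha
    have : (2 : F) * a = 0 := by linear_combination ha
    exact (mul_eq_zero.1 this).resolve_left h2
  have hb := key _ h4
  have hc := key _ h5
  have h6 : (A 0 0 - 1) * (A 0 0 + 1) = 0 := by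
    rw [hb] at hA
    linear_combination hA + A 0 0 * h3
  rcases mul_eq_zero.1 h6 with h7 | h7
  · left
    have h8 : A 0 0 = 1 := by linear_combination h7
    exact ⟨⟨h8, hb⟩, hc, h3.symm.trans h8⟩
  · right
    have h8 : A 0 0 = -1 := by linear_combination h7
    exact ⟨⟨h8, hb⟩, hc, h3.symm.trans h8⟩

/-- the second factor -/
theorem eq_one_or {B : Matrix.SpecialLinearGroup (Fin 2) F} (h : pi F (J F (1, B)) = 1) : B = 1 ∨ B = -1 := by
  rcases eq_or_neg (h.trans (map_one (pi F)).symm) with h1 | h1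
  · left
    rw [J_coe] at h1
    have h2 := emb_inj (h1.trans (show _ = emb (1 : Matrix (Fin 2) (Fin 2) F) 1 from emb_one.symm))
    exact Subtype.ext h2.2
  · right
    rw [J_coe] at h1
    have h2 := emb_inj (h1.trans (show _ = emb (-1 : Matrix (Fin 2) (Fin 2) F) (-1) by rw [emb_neg, emb_one]; rfl))
    exact Subtype.ext h2.2

theorem hneg (A B : Matrix (Fin 2) (Fin 2) F) : (-1 : Mx F) * emb A B = emb (-A) (-B) := by
  rw [emb_neg, neg_mul, one_mul]

/-- commuting with the transvection up to sign -/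
theorem comm_of_neg (h2 : (2 : F) ≠ 0) {X : symplecticGroup (Fin 2) F} {B : Matrix.SpecialLinearGroup (Fin 2) F}
    (hB : (B : Matrix (Fin 2) (Fin 2) F) = !![1, 1; 0, 1])
    (h : pi F X * pi F (J F (1, B)) = pi F (J F (1, B)) * pi F X) :
    (X : Mx F) * emb 1 !![1, 1; 0, 1] = emb 1 !![1, 1; 0, 1] * (X : Mx F) := by
  rw [← map_mul, ← map_mul] at h
  have hJ : (J F (1, B) : Mx F) = emb 1 !![1, 1; 0, 1] := by
    rw [J_coe]; simp only [Matrix.SpecialLinearGroup.coe_one]; rw [hB]
  rcases eq_or_neg h with h1 | h1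
  · rw [Submonoid.coe_mul, Submonoid.coe_mul, hJ] at h1
    exact h1
  · exfalso
    rw [Submonoid.coe_mul, Submonoid.coe_mul, hJ] at h1
    have hX := SymplecticGroup.symplectic_det X.2
    generalize (X : Mx F) = Y at h1 hX
    have e1 : Y = fromBlocks Y.toBlocks₁₁ Y.toBlocks₁₂ Y.toBlocks₂₁ Y.toBlocks₂₂ := (fromBlocks_toBlocks Y).symm
    generalize Y.toBlocks₁₁ = P at e1
    generalize Y.toBlocks₁₂ = Q at e1
    generalize Y.toBlocks₂₁ = R at e1
    generalize Y.toBlocks₂₂ = T at e1
    subst e1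
    unfold emb at h1
    rw [fromBlocks_multiply, fromBlocks_multiply, fromBlocks_neg, fromBlocks_inj] at h1
    simp only [← ext_iff, Fin.forall_fin_two, diagonal_apply, Matrix.add_apply, Matrix.mul_diagonal,
      Matrix.diagonal_mul, Matrix.neg_apply] at h1
    simp at h1
    have key : ∀ a : F, a = -a → a = 0 := by
      intro a ha
      have : (2 : F) * a = 0 := by linear_combination ha
      exact (mul_eq_zero.1 this).resolve_left h2
    obtain ⟨-, -, ⟨-, h3, h4⟩, -, h5, h6⟩ := h1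
    have h7 := key _ h4
    rw [h7, zero_add] at h6
    rw [Matrix.det_eq_zero_of_row_eq_zero (Sum.inr 1) (by
      rintro (j | j)
      · rw [fromBlocks_apply₂₁]; fin_cases j; exacts [key _ h3, h7]
      · rw [fromBlocks_apply₂₂]; fin_cases j; exacts [key _ h5, key _ h6])] at hX
    exact not_isUnit_zero hX

theorem diag_det {y : F} (hy : y ≠ 0) : (!![y, 0; 0, y⁻¹] : Matrix (Fin 2) (Fin 2) F).det = 1 := by
  rw [det_fin_two]; simp [hy]

/-- `diag(y, y⁻¹)` -/
def tt (y : F) (hy : y ≠ 0) : Matrix.SpecialLinearGroup (Fin 2) F := ⟨!![y, 0; 0, y⁻¹], diag_det hy⟩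

theorem tt_coe (y : F) (hy : y ≠ 0) : (tt y hy : Matrix (Fin 2) (Fin 2) F) = !![y, 0; 0, y⁻¹] := rfl

/-- the torus -/
def tq (F : Type*) [Field F] : Fˣ →* Matrix.SpecialLinearGroup (Fin 2) F where
  toFun y := tt (y : F) y.ne_zero
  map_one' := by
    ext i j
    fin_cases i <;> fin_cases j <;> simp [tt_coe]
  map_mul' a b := by
    ext i j
    fin_cases i <;> fin_cases j <;> simp [tt_coe, mul_comm]

theorem J_comm (A B : Matrix.SpecialLinearGroup (Fin 2) F) : J F (A, 1) * J F (1, B) = J F (1, B) * J F (A, 1) := by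
  rw [← map_mul, ← map_mul]; simp

theorem piJ_comm (A B : Matrix.SpecialLinearGroup (Fin 2) F) :
    pi F (J F (A, 1)) * pi F (J F (1, B)) = pi F (J F (1, B)) * pi F (J F (A, 1)) := by
  have h := congrArg (pi F) (J_comm A B)
  rwa [map_mul, map_mul] at h

theorem not_nil (A : Matrix.SpecialLinearGroup (Fin 2) F) (p : ℕ) [Fact p.Prime] [CharP F p] :
    ¬ Group.IsNilpotent ↥(closure (cjs (centralizer ({pi F (J F (A, 1))} : Set (PSp 2 F)))
      (pi F (J F (1, uu F))))) := by
  refine not_nilpotent_of_sl (((pi F).comp (J F)).comp (MonoidHom.inr _ _)) (fun B hB => eq_one_or hB) ?_ p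
  rw [mem_centralizer_singleton_iff]
  exact (piJ_comm A (ww F)).symm

theorem kill_odd (h2 : (2 : F) ≠ 0) (p : ℕ) [hp : Fact p.Prime] [CharP F p] : Kill (PSp 2 F) := by
  have hp2 : Odd p := by
    rcases hp.1.eq_two_or_odd' with rfl | h
    · exact absurd (CharTwo.two_eq_zero (R := F)) h2
    · exact h
  have h1 : (-1 : F) ≠ 1 := by
    intro h
    apply h2
    linear_combination -h
  have hm : (-1 : F) ≠ 0 := neg_ne_zero.2 one_ne_zero
  refine Kill.of_inv (z := pi F (J F (tt (-1) hm, 1))) (d := pi F (J F (1, uu F))) ?_ ?_ ?_ ?_ (not_nil _ p)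
  · refine orderOf_eq_prime ?_ ?_
    · rw [← map_pow, ← map_pow, ← map_one (pi F), ← map_one (J F)]
      congr 2
      refine Prod.ext ?_ ?_
      · ext i j
        fin_cases i <;> fin_cases j <;> simp [pow_two, tt_coe, inv_neg]
      · simp
    · intro h
      rcases eq_or_neg (h.trans (map_one (pi F)).symm) with h3 | h3
      · rw [J_coe] at h3
        have h4 := congrFun (congrFun (emb_inj (h3.trans (show _ = emb (1 : Matrix (Fin 2) (Fin 2) F) 1 from
          emb_one.symm))).1 0) 0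
        simp [tt_coe] at h4
        exact h1 h4
      · rw [J_coe] at h3
        have h4 := congrFun (congrFun (emb_inj (h3.trans (show _ = emb (-1 : Matrix (Fin 2) (Fin 2) F) (-1) by
          rw [emb_neg, emb_one]; rfl))).2 0) 0
        simp at h4
        exact h1 h4.symm
  · refine Odd.of_dvd_nat hp2 (orderOf_dvd_of_pow_eq_one ?_)
    rw [← map_pow, ← map_pow, ← map_one (pi F), ← map_one (J F)]
    congr 2
    refine Prod.ext ?_ ?_
    · simp
    · simpa using uu_pow_char p
  · exact piJ_comm _ _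
  · intro x hx hxz hxd
    obtain ⟨X, rfl⟩ := pi_surj x
    have hd := comm_of_neg h2 uu_coe hxd
    have hz : ∃ l : F, (X : Mx F) * emb !![-1, 0; 0, -1] 1 = l • (emb !![-1, 0; 0, -1] 1 * (X : Mx F)) := by
      rw [← map_mul, ← map_mul] at hxz
      have hJ : (J F (tt (-1) hm, 1) : Mx F) = emb !![-1, 0; 0, -1] 1 := by
        rw [J_coe]; simp only [Matrix.SpecialLinearGroup.coe_one]; rw [tt_coe, inv_neg, inv_one]
      rcases eq_or_neg hxz with h3 | h3
      · rw [Submonoid.coe_mul, Submonoid.coe_mul, hJ] at h3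
        exact ⟨1, by rw [one_smul]; exact h3⟩
      · rw [Submonoid.coe_mul, Submonoid.coe_mul, hJ] at h3
        exact ⟨-1, by rw [neg_one_smul]; exact h3⟩
    obtain ⟨l, hz⟩ := hz
    obtain ⟨A, c, n, hX, -⟩ := eq_emb X.2 h1 h1 hd hz
    have hdet := emb_mem.1 (hX ▸ X.2)
    have hc : c * c = 1 := by
      have := hdet.2
      rw [det_fin_two] at this
      simpa using this
    have hXX : (A * A = 1 ∧ n = 0) := by
      rw [← map_mul] at hx
      rcases eq_or_neg (hx.trans (map_one (pi F)).symm) with h3 | h3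
      · rw [Submonoid.coe_mul, hX, emb_mul] at h3
        have h4 := emb_inj (h3.trans (show _ = emb (1 : Matrix (Fin 2) (Fin 2) F) 1 from emb_one.symm))
        refine ⟨h4.1, ?_⟩
        have h5 := congrFun (congrFun h4.2 0) 1
        simp at h5
        have h6 : (2 : F) * n = 0 := by linear_combination c * h5 - 2 * n * hc
        exact (mul_eq_zero.1 h6).resolve_left h2
      · rw [Submonoid.coe_mul, hX, emb_mul] at h3
        have h4 := emb_inj (h3.trans (show _ = emb (-1 : Matrix (Fin 2) (Fin 2) F) (-1) by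
          rw [emb_neg, emb_one]; rfl))
        have h5 := congrFun (congrFun h4.2 0) 0
        simp at h5
        exact absurd (hc.symm.trans h5).symm h1
    obtain ⟨hAA, rfl⟩ := hXX
    have hA := eq_of_sq h2 hdet.1 hAA
    have hB : (!![c, 0; 0, c] : Matrix (Fin 2) (Fin 2) F) = 1 ∨ (!![c, 0; 0, c] : Matrix (Fin 2) (Fin 2) F) = -1 :=
      eq_of_sq h2 hdet.2 (by
        ext i j
        fin_cases i <;> fin_cases j <;> simp [hc])
    have hZ : (J F (tt (-1) hm, 1) : Mx F) = emb (-1) 1 := by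
      rw [J_coe]; simp only [Matrix.SpecialLinearGroup.coe_one]; rw [tt_coe, inv_neg, inv_one]
      congr 1
      ext i j
      fin_cases i <;> fin_cases j <;> simp
    have h11 : ((1 : symplecticGroup (Fin 2) F) : Mx F) = emb 1 1 := emb_one.symm
    rcases hA with hA | hA <;> rcases hB with hB | hB
    · left
      rw [← map_one (pi F)]
      congr 1
      apply Subtype.ext
      rw [hX, hA, hB, h11]
    · right
      apply pi_of_neg
      rw [hX, hA, hB, hZ, ← emb_neg, neg_neg]
    · right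
      congr 1
      apply Subtype.ext
      rw [hX, hA, hB, hZ]
    · left
      rw [← map_one (pi F)]
      apply pi_of_neg
      rw [hX, hA, hB, h11, ← emb_neg]

/-- even characteristic -/
theorem kill_even [Finite F] [CharP F 2] (h4 : 3 ≤ Nat.card F) : Kill (PSp 2 F) := by
  have hp : Fact (Nat.Prime 2) := ⟨Nat.prime_two⟩
  have h2 : (2 : F) = 0 := CharTwo.two_eq_zero
  have : Fintype F := Fintype.ofFinite F
  obtain ⟨n, -, hn⟩ := FiniteField.card F 2
  have hcu : Nat.card Fˣ = 2 ^ (n : ℕ) - 1 := by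
    rw [Nat.card_units, Nat.card_eq_fintype_card, hn]
  rw [Nat.card_eq_fintype_card, hn] at h4
  have hev : Even (2 ^ (n : ℕ)) := (Nat.even_pow.2 ⟨even_two, n.pos.ne'⟩)
  have hodd : Odd (Nat.card Fˣ) := by
    rw [hcu]
    exact Nat.Even.sub_odd (by omega) hev odd_one
  have h1 : Nat.card Fˣ ≠ 1 := by
    rw [hcu]
    omega
  obtain ⟨r, hr, hrd⟩ := Nat.exists_prime_and_dvd h1
  have hfr : Fact r.Prime := ⟨hr⟩
  have hro : Odd r := hodd.of_dvd_nat hrd
  obtain ⟨y, hy⟩ := exists_prime_orderOf_dvd_card' r hrd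
  have hy0 : (y : F) ≠ 0 := y.ne_zero
  have hy1 : (y : F) ≠ 1 := by
    intro h
    have : y = 1 := Units.ext h
    rw [this, orderOf_one] at hy
    exact hr.one_lt.ne hy
  have hprim : IsPrimitiveRoot (y : F) r := by
    rw [← hy]
    exact IsPrimitiveRoot.coe_units_iff.2 (IsPrimitiveRoot.orderOf y)
  have hyy : (y : F) ≠ (y : F)⁻¹ := by
    intro h
    have h5 : (y : F) ^ 2 = 1 := by
      rw [pow_two]
      nth_rw 2 [h]
      exact mul_inv_cancel₀ hy0
    have h6 := hprim.dvd_of_pow_eq_one _ h5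
    have := (Nat.prime_dvd_prime_iff_eq hr Nat.prime_two).1 h6
    rw [this] at hro
    exact absurd hro (by decide)
  have hinj : ∀ X Y : symplecticGroup (Fin 2) F, pi F X = pi F Y → X = Y := by
    intro X Y h
    apply Subtype.ext
    rcases eq_or_neg h with h5 | h5
    · exact h5
    · rw [h5]
      ext i j
      simp [CharTwo.neg_eq]
  refine ⟨r, pi F (J F (tt (y : F) hy0, 1)), pi F (J F (1, uu F)), hr, ?_, ?_, piJ_comm _ _, ?_, not_nil _ 2⟩
  · refine orderOf_eq_prime ?_ ?_
    · rw [← map_pow, ← map_pow, ← map_one (pi F), ← map_one (J F)]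
      congr 2
      refine Prod.ext ?_ (by simp)
      change tq F y ^ r = 1
      rw [← map_pow, ← hy, pow_orderOf_eq_one, map_one]
    · intro h
      have h3 := congrArg (fun X : symplecticGroup (Fin 2) F => (X : Mx F)) (hinj _ _ (h.trans (map_one (pi F)).symm))
      have h4 := congrFun (congrFun (emb_inj (h3.trans (show _ = emb (1 : Matrix (Fin 2) (Fin 2) F) 1 from
          emb_one.symm))).1 0) 0
      simp [tt_coe] at h4
      exact hy1 (by rw [h4]; rfl)
  · refine Nat.Coprime.coprime_dvd_left (orderOf_dvd_of_pow_eq_one (n := 2) ?_) hro.coprime_two_left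
    rw [← map_pow, ← map_pow, ← map_one (pi F), ← map_one (J F)]
    congr 2
    refine Prod.ext ?_ ?_
    · simp
    · simpa using uu_pow_char 2
  · intro x hx hxz hxd
    obtain ⟨X, rfl⟩ := pi_surj x
    rw [← map_mul, ← map_mul] at hxz hxd
    have hz := congrArg (fun X : symplecticGroup (Fin 2) F => (X : Mx F)) (hinj _ _ hxz)
    have hd := congrArg (fun X : symplecticGroup (Fin 2) F => (X : Mx F)) (hinj _ _ hxd)
    simp only [Submonoid.coe_mul] at hz hd
    have hJ : (J F (tt (y : F) hy0, 1) : Mx F) = emb !![(y : F), 0; 0, (y : F)⁻¹] 1 := by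
      rw [J_coe]; simp only [Matrix.SpecialLinearGroup.coe_one]; rw [tt_coe]
    have hJd : (J F (1, uu F) : Mx F) = emb 1 !![1, 1; 0, 1] := by
      rw [J_coe]; simp only [Matrix.SpecialLinearGroup.coe_one]; rw [uu_coe]
    rw [hJ] at hz
    rw [hJd] at hd
    have hy1' : (y : F)⁻¹ ≠ 1 := fun h => hy1 (by rw [← inv_inv (y : F), h, inv_one])
    obtain ⟨A, c, n, hX, hdiag⟩ := eq_emb X.2 hy1 hy1' (l := 1) hd (by rw [one_smul]; exact hz)
    obtain ⟨hA01, hA10⟩ := hdiag hyy
    have hdet := emb_mem.1 (hX ▸ X.2)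
    have hc : c = 1 := by
      have h5 := hdet.2
      rw [det_fin_two] at h5
      simp at h5
      have h6 : (c - 1) * (c - 1) = 0 := by linear_combination h5 + (1 - c) * h2
      have h7 := mul_self_eq_zero.1 h6
      linear_combination h7
    subst hc
    have hXr : X ^ r = 1 := by
      apply hinj
      rw [map_pow, map_one, ← hx, pow_orderOf_eq_one]
    have hpow : ∀ (A B : Matrix (Fin 2) (Fin 2) F) (k : ℕ), emb A B ^ k = emb (A ^ k) (B ^ k) := by
      intro A B k
      induction k with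
      | zero => simp [emb_one]
      | succ k ih => rw [pow_succ, ih, emb_mul, ← pow_succ, ← pow_succ]
    have hXr' : emb (A ^ r) (!![1, n; 0, 1] ^ r) = emb 1 1 := by
      rw [← hpow, ← hX, emb_one, ← SubmonoidClass.coe_pow, hXr]
      rfl
    obtain ⟨hAr, hBr⟩ := emb_inj hXr'
    have hn' : n = 0 := by
      have h5 : ∀ k : ℕ, (!![1, n; 0, 1] : Matrix (Fin 2) (Fin 2) F) ^ k = !![1, (k : F) * n; 0, 1] := by
        intro k
        induction k with
        | zero => ext i j; fin_cases i <;> fin_cases j <;> simp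
        | succ k ih =>
          rw [pow_succ, ih]
          ext i j; fin_cases i <;> fin_cases j <;> simp [add_comm, add_mul]
      rw [h5] at hBr
      have h6 := congrFun (congrFun hBr 0) 1
      simp at h6
      rcases h6 with h6 | h6
      · exfalso
        have h7 := (CharP.cast_eq_zero_iff F 2 r).1 h6
        exact absurd hro (Nat.not_odd_iff_even.2 (even_iff_two_dvd.2 h7))
      · exact h6
    subst hn'
    have hAd : A = !![A 0 0, 0; 0, A 1 1] := by
      ext i j; fin_cases i <;> fin_cases j <;> simp [hA01, hA10]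
    have ha : A 0 0 ^ r = 1 := by
      have h5 : ∀ k : ℕ, (!![A 0 0, 0; 0, A 1 1] : Matrix (Fin 2) (Fin 2) F) ^ k = !![A 0 0 ^ k, 0; 0, A 1 1 ^ k] := by
        intro k
        induction k with
        | zero => ext i j; fin_cases i <;> fin_cases j <;> simp
        | succ k ih =>
          rw [pow_succ, ih]
          ext i j; fin_cases i <;> fin_cases j <;> simp [pow_succ]
      rw [hAd, h5] at hAr
      have h6 := congrFun (congrFun hAr 0) 0
      simpa using h6
    obtain ⟨i, -, hi⟩ := hprim.eq_pow_of_pow_eq_one ha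
    have hA11 : A 1 1 = (A 0 0)⁻¹ := by
      have h5 := hdet.1
      rw [det_fin_two, hA01, zero_mul, sub_zero] at h5
      exact (eq_inv_of_mul_eq_one_right h5)
    refine mem_zpowers_iff.2 ⟨(i : ℤ), ?_⟩
    rw [zpow_natCast, ← map_pow, ← map_pow]
    congr 1
    apply Subtype.ext
    have h5 : ((tt (y : F) hy0, 1) : Matrix.SpecialLinearGroup (Fin 2) F × Matrix.SpecialLinearGroup (Fin 2) F) ^ i =
        (tq F (y ^ i), 1) := by
      refine Prod.ext ?_ (by simp)
      rw [map_pow]
      rfl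
    rw [h5, hX, J_coe]
    simp only [Matrix.SpecialLinearGroup.coe_one]
    congr 1
    · rw [hAd]
      change (tt ((y ^ i : Fˣ) : F) (y ^ i).ne_zero : Matrix (Fin 2) (Fin 2) F) = _
      rw [tt_coe, hA11, Units.val_pow_eq_pow_val, hi]
    · ext i j; fin_cases i <;> fin_cases j <;> simp

theorem kill {F : Type*} [Field F] [Fintype F] (p : ℕ) [CharP F p] (h : 3 ≤ Fintype.card F) : Kill (PSp 2 F) := by
  have hp : Fact p.Prime := ⟨CharP.char_is_prime F p⟩
  by_cases h2 : (2 : F) = 0
  · have h3 : p = 2 := by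
      have h4 : ((2 : ℕ) : F) = 0 := by exact_mod_cast h2
      rw [CharP.cast_eq_zero_iff F p] at h4
      exact (Nat.prime_dvd_prime_iff_eq hp.1 Nat.prime_two).1 h4
    subst h3
    exact kill_even (by rw [Nat.card_eq_fintype_card]; exact h)
  · exact kill_odd h2 p

end Cfsg.Agent.H480.SpFour
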