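import Cfsg.Agent.H480.Row
import Cfsg.Agent.H480.FrameSplit
import Cfsg.Agent.FixBN.Transport
import Cfsg.Agent.Tits.Labels

/-!
# Nilpotent minimal covers: split (B,N)-pairs of rank two with different parameters (helper480, S3925, S3926)
-/

set_option autoImplicit false
set_option linter.unusedSectionVars false

namespace Cfsg.Agent.H480.Fr

open Cfsg.Agent.Tits.Core Cfsg.Agent.FixBN Subgroup Cfsg.Agent.Schreier.BNSch

universe u v

/-- the group `V` of a node is determined by the node -/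
theorem node_unique {K : Type*} [Group K] {P : Cfsg.BNPair K} {U V V' : Subgroup K} {s : K} (hUB : U ≤ P.B)
    (h : Node P U s V) (h' : Node P U s V') : V = V' :=
  le_antisymm (fun v hv => h'.stab v (h.le hv) (hUB (h.le (h.conj_s v hv))))
    (fun v hv => h.stab v (h'.le hv) (hUB (h'.le (h'.conj_s v hv))))

/-- a group is not the union of two proper subgroups -/
theorem exists_not_mem_two {K : Type*} [Group K] {U V V' : Subgroup K} (h : ∃ u ∈ U, u ∉ V) (h' : ∃ u ∈ U, u ∉ V') :
    ∃ u ∈ U, u ∉ V ∧ u ∉ V' := by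
  obtain ⟨a, ha, haV⟩ := h
  obtain ⟨b, hb, hbV⟩ := h'
  by_cases h1 : a ∈ V'
  · by_cases h2 : b ∈ V
    · refine ⟨a * b, U.mul_mem ha hb, fun h3 => haV ?_, fun h3 => hbV ?_⟩
      · have := V.mul_mem h3 (V.inv_mem h2)
        rwa [mul_inv_cancel_right] at this
      · have := V'.mul_mem (V'.inv_mem h1) h3
        rwa [inv_mul_cancel_left] at this
    · exact ⟨b, hb, h2, hbV⟩
  · exact ⟨a, ha, haV, h1⟩

theorem node_comap {K L : Type*} [Group K] [Group L] (e : K ≃* L) {P : Cfsg.BNPair K} {U : Subgroup K} {s : K}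
    {V : Subgroup K} (h : Node P U s V) :
    Node (Transport.mapBN e P) (U.map e.toMonoidHom) (e s) (V.map e.toMonoidHom) where
  le := Subgroup.map_mono h.le
  ne := by
    obtain ⟨u, hu, huV⟩ := h.ne
    refine ⟨e u, ⟨u, hu, rfl⟩, ?_⟩
    rw [Subgroup.mem_map_equiv]
    simpa using huV
  conj_B := by
    intro b hb v hv
    change b ∈ P.B.map e.toMonoidHom at hb
    rw [Subgroup.mem_map_equiv] at hb hv ⊢
    simpa using h.conj_B _ hb _ hv
  conj_s := by
    intro v hv
    rw [Subgroup.mem_map_equiv] at hv ⊢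
    simpa using h.conj_s _ hv
  stab := by
    intro u hu hB
    change _ ∈ P.B.map e.toMonoidHom at hB
    rw [Subgroup.mem_map_equiv] at hu hB ⊢
    exact h.stab _ hu (by simpa using hB)

/-- **Rank two, different parameters.** -/
theorem row_of_split {S : Type v} [Group S] [Finite S] {p : ℕ} [hp : Fact p.Prime] {P : Cfsg.BNPair S}
    {U : Subgroup S} (hP : Split P p U) {s t : S} (hS : P.S = {s, t}) (hst : s ≠ t) {V : Subgroup S}
    (hV : Node P U s V) {r k : ℕ} (hr : V.relIndex U ≤ r) (hk : p ^ k ∣ Nat.card S) (hlt : r ^ 8 < p ^ k) :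
    Row.{u} S := by
  intro G _ _ K hK hs hna hc hcyc f 𝓐 hA
  have hP' := Transport.split f P hP
  set P' := Transport.mapBN f P with hP'def
  have hS' : P'.S = {f s, f t} := by
    change f '' P.S = _
    rw [hS, Set.image_pair]
  have hsS : f s ∈ P'.S := by rw [hS']; exact Set.mem_insert _ _
  have htS : f t ∈ P'.S := by rw [hS']; exact Set.mem_insert_of_mem _ rfl
  obtain ⟨M, hM⟩ := Tits.Labels.exists_bnType (P := P')
  obtain ⟨Vs, hVs⟩ := hP'.node _ hsS
  obtain ⟨Vt, hVt⟩ := hP'.node _ htS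
  obtain ⟨x, hx, hxs, hxt⟩ := exists_not_mem_two hVs.ne hVt.ne
  have hall : ∀ i : P'.S, i = ⟨f s, hsS⟩ ∨ i = ⟨f t, htS⟩ := by
    rintro ⟨i, hi⟩
    have h1 := hi
    rw [hS'] at h1
    rcases h1 with rfl | h1
    · exact Or.inl rfl
    · rw [Set.mem_singleton_iff] at h1
      subst h1
      exact Or.inr rfl
  have hne : (⟨f s, hsS⟩ : P'.S) ≠ ⟨f t, htS⟩ := fun h => hst (f.injective (congrArg Subtype.val h))
  have hK : K.Normal := hK
  refine not_nmc_of_split hK hP' (Equiv.refl P'.S) hM hx ?_ {⟨f s, hsS⟩} ⟨_, rfl⟩ ?_ ?_ hA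
  · intro i V' hV'
    rcases hall i with rfl | rfl
    · rw [node_unique hP'.le hV' hVs]; exact hxs
    · rw [node_unique hP'.le hV' hVt]; exact hxt
  · intro h1
    have h2 : (⟨f t, htS⟩ : P'.S) ∈ ({⟨f s, hsS⟩} : Set P'.S) := by rw [h1]; trivial
    exact hne (Set.mem_singleton_iff.1 h2).symm
  · intro σ N h1 h2 h3 h4 i hi
    rw [Set.mem_singleton_iff] at hi ⊢
    subst hi
    by_contra hne2
    have h5 : N ⟨f s, hsS⟩ ≤ r := by
      refine (h3 ⟨f s, hsS⟩ (V.map f.toMonoidHom) (node_comap f hV)).trans (le_trans (le_of_eq ?_) hr)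
      exact relIndex_map_map_of_injective V U f.injective
    have h6 : ∀ i, N i ≤ r := by
      intro i
      have h7 : i = ⟨f s, hsS⟩ ∨ i = σ ⟨f s, hsS⟩ := by
        rcases hall i with h | h
        · exact Or.inl h
        · rcases hall (σ ⟨f s, hsS⟩) with h' | h'
          · exact absurd h' hne2
          · exact Or.inr (h.trans h'.symm)
      rcases h7 with rfl | rfl
      · exact h5
      · rw [h2]; exact h5
    have h7 := h4 r h6 ⟨f s, hsS⟩ ⟨f t, htS⟩ hall k (by rw [← Nat.card_congr f.toEquiv]; exact hk)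
    have hfin : Finite K := inferInstance
    have h8 : M ⟨f s, hsS⟩ ⟨f t, htS⟩ ≤ 8 := by
      have := Tits.Labels.labels hM hne
      omega
    have h9 : 0 < r := by
      rcases Nat.eq_zero_or_pos r with rfl | h
      · exfalso
        have h10 : V.relIndex U = 0 := Nat.le_zero.1 hr
        rw [relIndex] at h10
        exact (V.subgroupOf U).index_ne_zero_of_finite h10
      · exact h
    have h10 := Nat.pow_le_pow_right h9 h8
    omega

end Cfsg.Agent.H480.Fr
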