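import Cfsg.Agent.H480.Prime
import Cfsg.Agent.H480.Row
import Cfsg.Agent.H480.SporMSmall
import Cfsg.Agent.S2072
import Cfsg.Agent.HN.AutHS

/-!
# Nilpotent minimal covers: `HS` (helper480, S3925, S3926)
-/

set_option autoImplicit false

namespace Cfsg.Agent.H480

open Subgroup Equiv

universe u v

theorem card_mulAut_dvd (S : Type v) [Group S] [Finite S] : Nat.card (MulAut S) ∣ Nat.card S * Nat.card (Cfsg.Out S) := by
  have h1 : Nat.card (MulAut S) = Nat.card ↥(Cfsg.Inn S) * (Cfsg.Inn S).index := (Subgroup.card_mul_index _).symm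
  have h2 : (Cfsg.Inn S).index = Nat.card (Cfsg.Out S) := rfl
  have h3 : Nat.card ↥(Cfsg.Inn S) ∣ Nat.card S := Subgroup.card_range_dvd _
  rw [h1, h2]
  exact Nat.mul_dvd_mul_right h3 _

namespace HSRow

open Cfsg.Agent.SporadicA.PermTab Cfsg.Agent.HN.HS100 Cfsg.Agent.HN.AutHS

/-- the element of order 11 on the points -/
def xe (i : ℕ) : ℕ := lk s4 (lk s3 (lk s3 (lk s3 i)))

/-- iteration -/
def xpow (k i : ℕ) : ℕ := Nat.rec i (fun _ j => xe j) k

theorem c11 : (allB (fun i => Nat.beq (xpow 11 i) i) 100) = true := by decide +kernel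

theorem cfix : (allB (fun i => cond (Nat.beq (xe i) i) (Nat.beq i 0) true) 100) = true := by decide +kernel

/-- a point where `m x` and `x ^ k m` differ -/
theorem cnorm : ∀ k : Fin 11, ∃ i : Fin 100, lk s3 (xe (i : ℕ)) ≠ xpow (k : ℕ) (lk s3 (i : ℕ)) := by decide +kernel

theorem row_Q : Row.{u} ↥Q := by
  obtain ⟨g3, hg3, e3⟩ := in3
  obtain ⟨g4, hg4, e4⟩ := in4
  have hfin : Finite ↥Q := finite_Q
  obtain ⟨⟨e⟩, -⟩ := nonempty_Q
  have h3Q : g3 ∈ Q := ps_le _ _ hg3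
  have h4Q : g4 ∈ Q := ps_le _ _ hg4
  have hg30 : g3 0 = 0 := (mem_ps.1 hg3).2
  have hg40 : g4 0 = 0 := (mem_ps.1 hg4).2
  set x : Perm (Fin 100) := g4 * (g3 * (g3 * g3)) with hxdef
  have hxQ : x ∈ Q := mul_mem h4Q (mul_mem h3Q (mul_mem h3Q h3Q))
  have hxe : ∀ i, ((x i : Fin 100) : ℕ) = xe i := by
    intro i
    rw [hxdef, Perm.mul_apply, Perm.mul_apply, Perm.mul_apply, e4, e3, e3, e3]
    rfl
  have hpow : ∀ (k : ℕ) (i : Fin 100), (((x ^ k) i : Fin 100) : ℕ) = xpow k i := by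
    intro k
    induction k with
    | zero => intro i; rfl
    | succ k ih =>
      intro i
      rw [pow_succ', Perm.mul_apply, hxe, ih]
      rfl
  have hx11 : x ^ 11 = 1 := by
    apply Equiv.ext
    intro i
    apply Fin.ext
    rw [hpow]
    exact Nat.eq_of_beq_eq_true ((allB_iff _ _).1 c11 i i.2)
  have hxfix : ∀ i, x i = i → i = 0 := by
    intro i hi
    have h1 := (allB_iff _ _).1 cfix i i.2
    have h2 : Nat.beq (xe i) i = true := by
      rw [← hxe, hi]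
      exact Nat.beq_refl _
    rw [h2] at h1
    exact Fin.ext (Nat.eq_of_beq_eq_true h1)
  have hx0 : x 0 = 0 := by
    rw [hxdef, Perm.mul_apply, Perm.mul_apply, Perm.mul_apply, hg30, hg30, hg30, hg40]
  have hxne : x ≠ 1 := by
    intro h
    have h1 := hxfix 1 (by rw [h]; rfl)
    exact absurd h1 (by decide)
  have hord : orderOf (⟨x, hxQ⟩ : ↥Q) = 11 := by
    have : Fact (Nat.Prime 11) := ⟨by norm_num⟩
    rw [← orderOf_coe]
    exact orderOf_eq_prime hx11 hxne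
  let Y : Subgroup ↥Q := (MulAction.stabilizer (Perm (Fin 100)) (0 : Fin 100)).comap (Subgroup.subtype _)
  have hY : ∀ g : ↥Q, g ∈ Y ↔ (g : Perm (Fin 100)) 0 = 0 := fun g => Iff.rfl
  refine Row.of_prime_aut (p := 11) (by norm_num) hord ?_ Y ?_ ?_ (m := ⟨g3, h3Q⟩) hg30 ?_
  · intro h1
    have h2 : Nat.card (MulAut ↥Q) = Nat.card (MulAut ↥Cfsg.Spor.HS) := Nat.card_congr (MulAut.congr e).toEquiv
    rw [h2] at h1
    have hfin' : Finite ↥Cfsg.Spor.HS := Finite.of_equiv _ e.toEquiv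
    have h3 := h1.trans (card_mulAut_dvd ↥Cfsg.Spor.HS)
    have hcard : Nat.card ↥Cfsg.Spor.HS = 44352000 := Cfsg.Agent.KFacts.HS.card ⟨MulEquiv.refl _⟩
    rw [Cfsg.Agent.S2072.result, hcard] at h3
    norm_num at h3
  · intro htop
    have h1 := trans_Q
    obtain ⟨g, hg⟩ := h1.exists_smul_eq (0 : Fin 100) 1
    have h2 : g ∈ Y := by rw [htop]; exact mem_top _
    have h3 : (g : Perm (Fin 100)) 0 = 0 := h2
    have h4 : (g : Perm (Fin 100)) 0 = 1 := hg
    rw [h3] at h4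
    exact absurd h4 (by decide)
  · intro α hα y hy
    obtain ⟨p, -, hp⟩ := exists_perm α
    have h1 := hp ⟨x, hxQ⟩
    rw [hα] at h1
    have hcomm : p * x = x * p := by
      rw [← mul_inv_eq_iff_eq_mul]
      exact h1.symm
    have hp0 : p 0 = 0 := by
      apply hxfix
      have h2 := congrArg (fun g : Perm (Fin 100) => g 0) hcomm
      simp only [Perm.mul_apply, hx0] at h2
      exact h2.symm
    rw [hY] at hy ⊢
    rw [hp, Perm.mul_apply, Perm.mul_apply]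
    have h3 : p⁻¹ 0 = 0 := by rw [Perm.inv_eq_iff_eq, hp0]
    rw [h3, hy, hp0]
  · intro hz
    have h1 : (⟨g3, h3Q⟩ : ↥Q) * ⟨x, hxQ⟩ * (⟨g3, h3Q⟩ : ↥Q)⁻¹ ∈ Submonoid.powers (⟨x, hxQ⟩ : ↥Q) :=
      mem_powers_iff_mem_zpowers.2 hz
    obtain ⟨k, hk⟩ := h1
    have hk' : x ^ k = g3 * x * g3⁻¹ := congrArg Subtype.val hk
    have hk2 : x ^ (k % 11) = g3 * x * g3⁻¹ := by
      rw [← hk']
      conv_rhs => rw [← pow_mod_orderOf]
      rw [← hord, ← orderOf_coe]
    obtain ⟨i, hi⟩ := cnorm ⟨k % 11, Nat.mod_lt _ (by norm_num)⟩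
    apply hi
    have h5 : g3 * x = x ^ (k % 11) * g3 := by
      rw [hk2]
      group
    have h6 := congrArg (fun g : Perm (Fin 100) => ((g i : Fin 100) : ℕ)) h5
    simp only [Perm.mul_apply] at h6
    rw [e3, hxe, hpow, e3] at h6
    exact h6

end HSRow

/-- **`HS`** -/
theorem row_hs : Row.{u} ↥Cfsg.Spor.HS := by
  obtain ⟨⟨e⟩, -⟩ := Cfsg.Agent.HN.AutHS.nonempty_Q
  exact Row.congr e HSRow.row_Q

end Cfsg.Agent.H480
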