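import Cfsg.Agent.H480.SplitTwo
import Cfsg.Agent.H480.Conj

/-!
# Nilpotent minimal covers: groups of Lie type of rank two with an element swapping the nodes (helper480, S3925, S3926)

`Z` is a central subgroup of the Sylow subgroup `U c`, centralised by an element at distance `s_i` but by no element
at distance `s_j`.
-/

set_option autoImplicit false
set_option linter.unusedSectionVars false

namespace Cfsg.Agent.H480.Fr

open Cfsg.Agent.Tits.Core Cfsg.Agent.Tits.Core.Bldg Cfsg.Agent.Tits.Exchange Cfsg.Agent.Tits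
open Cfsg.Agent.FixBN Cfsg.Agent.FixBN.Cox Cfsg.Agent.UGT.U2.FOne Cfsg.Agent.ZN
open Cfsg.Agent.Omega.ML.LieRow Subgroup

variable {I : Type*} {M : CoxeterMatrix I} {W : Type*} [Group W] {cs : CoxeterSystem M W} {C : Type*}
  {Δ : Bldg cs C}

variable {H : Type*} [Group H] {K : Subgroup H} [MulAction K C] (A : HAct Δ K) {p : ℕ} (S : Sys Δ K p)

include A S

theorem conj_smul [K.Normal] (g : H) (k : K) (y : C) :
    A.θ g (k • y) = (MulAut.conjNormal g k : K) • A.θ g y := by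
  rw [← A.θ_K, ← A.θ_K, ← A.θ_mul, ← A.θ_mul, MulAut.conjNormal_apply]
  congr 1
  group

/-- elements swapping the nodes and fixing `c` do not fuse elements of `Z` -/
theorem not_mem_of_swap [K.Normal] {c : C} {i j : I} {Z : Subgroup K}
    (hu : ∃ u : K, Δ.δ c (u • c) = cs.simple i ∧ ∀ z ∈ Z, u * z = z * u)
    (hj : ∀ u : K, Δ.δ c (u • c) = cs.simple j → ∀ z ∈ Z, z ≠ 1 → u * z ≠ z * u)
    {g : H} (hg : A.θ g c = c) (hgi : A.σ g i = j) {z : K} (hz : z ∈ Z) (hz1 : z ≠ 1) :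
    (MulAut.conjNormal g z : K) ∉ Z := by
  intro hzZ
  obtain ⟨u, hu1, hu2⟩ := hu
  refine hj (MulAut.conjNormal g u) ?_ _ hzZ ?_ ?_
  · have h1 := conj_smul A S g u c
    rw [hg] at h1
    rw [← h1]
    have h2 := A.δ_θ g c (u • c)
    rw [hg, hu1, A.φ_simple, hgi] at h2
    exact h2
  · intro h1
    exact hz1 ((MulEquiv.map_eq_one_iff _).1 h1)
  · rw [← map_mul, hu2 z hz, map_mul]

/-- **No element swaps the nodes.** -/
theorem no_swap [K.Normal] [Finite H] [hp : Fact p.Prime] [F : OppRes.Cox cs] (hth : Δ.Thick) {c : C} {x : K}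
    (hx : x ∈ S.U c) (hreg : ∀ i y, Δ.δ c y = cs.simple i → x • y ≠ y)
    {i j : I} (hij : i ≠ j) (hall : ∀ k, k = i ∨ k = j)
    {Z : Subgroup K} (hZ1 : ∃ z ∈ Z, z ≠ 1) (hZU : Z ≤ S.U c) (hZc : ∀ z ∈ Z, ∀ u ∈ S.U c, u * z = z * u)
    (hu : ∃ u : K, Δ.δ c (u • c) = cs.simple i ∧ ∀ z ∈ Z, u * z = z * u)
    (hj : ∀ u : K, Δ.δ c (u • c) = cs.simple j → ∀ z ∈ Z, z ≠ 1 → u * z ≠ z * u)
    (hF : ∀ N : Subgroup H, N.Normal → Group.IsNilpotent ↥N → N = ⊥)
    (hp2 : p ≠ 2 ∨ ∀ z ∈ S.U c, (∀ u ∈ S.U c, u * z = z * u) → z ∈ Z)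
    {𝓐 : Finset (Subgroup H)} (h : NMC 𝓐) (g : H) : A.σ g i = i := by
  have hne : Nonempty C := ⟨c⟩
  obtain ⟨z, hz, hz1⟩ := hZ1
  by_contra hg0
  have hg0' : A.σ g i = j := (hall _).resolve_left hg0
  have key : ∀ g : H, A.θ g c = c → A.σ g i = j → (MulAut.conjNormal g z : K) ∉ Z := fun g h1 h2 =>
    not_mem_of_swap A S hu hj h1 h2 hz hz1
  rcases hp2 with hp2 | hp2
  · -- odd characteristic
    set K1 : Subgroup H :=
      { carrier := {g | A.σ g i = i}
        mul_mem' := by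
          intro a b ha hb
          change A.σ (a * b) i = i
          rw [A.σ_mul, hb, ha]
        one_mem' := A.σ_one i
        inv_mem' := by
          intro a ha
          change A.σ a⁻¹ i = i
          have h1 := A.σ_inv_σ a i
          rwa [ha] at h1 } with hK1
    have hmem : ∀ g, g ∈ K1 ↔ A.σ g i = i := fun g => Iff.rfl
    have hidx : K1.index = 2 := by
      rw [Subgroup.index_eq_two_iff]
      refine ⟨g⁻¹, fun b => ?_⟩
      rw [hmem, hmem, A.σ_mul]
      have h1 : A.σ g⁻¹ i = j := by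
        rcases hall (A.σ g⁻¹ i) with h2 | h2
        · exfalso
          have h3 := A.σ_inv_σ g⁻¹ i
          rw [h2, inv_inv] at h3
          exact hg0 h3
        · exact h2
      rw [h1]
      rcases hall (A.σ b i) with h2 | h2
      · right
        refine ⟨h2, fun h3 => ?_⟩
        have h4 := A.σ_inv_σ b i
        have h5 := A.σ_inv_σ b j
        rw [h2] at h4
        rw [h3] at h5
        exact hij (h4.symm.trans h5)
      · left
        refine ⟨?_, fun h3 => hij (h3.symm.trans h2)⟩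
        rcases hall (A.σ b j) with h3 | h3
        · exact h3
        · exfalso
          have h4 := A.σ_inv_σ b i
          have h5 := A.σ_inv_σ b j
          rw [h2] at h4
          rw [h3] at h5
          exact hij (h4.symm.trans h5)
    have hn1 : K1.Normal := Subgroup.normal_of_index_eq_two hidx
    have hz1' : (z : H) ≠ 1 := fun h1 => hz1 (Subtype.ext h1)
    have hcop : (orderOf (z : H)).Coprime 2 := by
      obtain ⟨n, hn⟩ := S.isP c ⟨z, hZU hz⟩
      have hn' : (z : H) ^ p ^ n = 1 := by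
        have h1 := congrArg (fun y : ↥(S.U c) => ((y : K) : H)) hn
        simpa using h1
      refine Nat.Coprime.coprime_dvd_left (orderOf_dvd_of_pow_eq_one hn') ?_
      refine Nat.Coprime.pow_left n ?_
      rw [Nat.coprime_primes hp.1 Nat.prime_two]
      exact hp2
    obtain ⟨g, hg1, -, hgz⟩ := h.exists_outside hF K1 Nat.prime_two hidx hz1' hcop
    have hg1' : A.σ g i = j := (hall _).resolve_left hg1
    have hgz' : (MulAut.conjNormal g z : K) = z := by
      apply Subtype.ext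
      rw [MulAut.conjNormal_apply, hgz]
      group
    -- the centraliser of `z`
    set Cz : Subgroup K := centralizer ({z} : Set K) with hCz
    have hUC : S.U c ≤ Cz := by
      intro u hu'
      rw [hCz, mem_centralizer_singleton_iff]
      exact hZc z hz u hu'
    set V : Subgroup K := (S.U c).map (MulAut.conjNormal g : K ≃* K).toMonoidHom with hV
    have hVC : V ≤ Cz := by
      rintro _ ⟨u, hu', rfl⟩
      have h1 := hUC hu'
      rw [hCz, mem_centralizer_singleton_iff] at h1 ⊢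
      have h2 := congrArg (MulAut.conjNormal g : K ≃* K) h1
      rw [map_mul, map_mul, hgz'] at h2
      exact h2
    have hfixc : ∀ y : C, (∀ u ∈ S.U c, u • y = y) → y = c := fun y hy =>
      fix_unique S (S.fix c x hx) hreg (hy x hx)
    have hfixV : ∀ y : C, (∀ u ∈ V, u • y = y) → y = A.θ g c := by
      intro y hy
      have h1 : A.θ g⁻¹ y = c := by
        apply hfixc
        intro u hu'
        apply A.θ_inj g
        rw [conj_smul A S, A.θ_θ_inv]
        exact hy _ ⟨u, hu', rfl⟩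
      rw [← h1, A.θ_θ_inv]
    -- both groups are Sylow subgroups of `Cz`
    have hsyl : ∀ (Q : Subgroup K) (d : C), IsPGroup p Q → (hQ : Q ≤ Cz) → (∀ y : C, (∀ u ∈ Q, u • y = y) → y = d) →
        (∀ R : Subgroup K, IsPGroup p R → (∀ v ∈ R, v • d = d) → Q ≤ R → R ≤ Q) →
        ∃ P : Sylow p Cz, (P : Subgroup Cz) = Q.subgroupOf Cz := by
      intro Q d hQp hQ hfd hmax
      refine ⟨⟨Q.subgroupOf Cz, hQp.comap_of_injective _ Cz.subtype_injective, ?_⟩, rfl⟩
      intro R hR hle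
      apply le_antisymm ?_ hle
      have hRp : IsPGroup p (R.map Cz.subtype) := hR.map _
      have hQR : Q ≤ R.map Cz.subtype := by
        intro q hq
        exact ⟨⟨q, hQ hq⟩, hle (by rw [mem_subgroupOf]; exact hq), rfl⟩
      obtain ⟨d', hd'⟩ := S.exists_fix _ hRp
      have h1 : d' = d := hfd d' fun u hu' => hd' u (hQR hu')
      subst h1
      have h2 := hmax _ hRp hd' hQR
      intro r hr
      rw [mem_subgroupOf]
      exact h2 ⟨r, hr, rfl⟩
    obtain ⟨P1, hP1⟩ := hsyl (S.U c) c (S.isP c) hUC hfixc fun R hR hR' _ => S.max c R hR hR'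
    obtain ⟨P2, hP2⟩ := hsyl V (A.θ g c) ((S.isP c).map _) hVC hfixV (by
      intro R hR hR' _
      -- conjugate back
      have h1 : R.map (MulAut.conjNormal g⁻¹ : K ≃* K).toMonoidHom ≤ S.U c := by
        refine S.max c _ (hR.map _) ?_
        rintro _ ⟨r, hr, rfl⟩
        apply A.θ_inj g
        rw [conj_smul A S]
        have h2 := hR' r hr
        have h3 : (MulAut.conjNormal g ((MulAut.conjNormal g⁻¹ : K ≃* K).toMonoidHom r) : K) = r := by
          change (MulAut.conjNormal g) ((MulAut.conjNormal g⁻¹) r) = r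
          rw [map_inv, MulAut.apply_inv_self]
        rw [h3]
        exact h2
      intro r hr
      refine ⟨(MulAut.conjNormal g⁻¹) r, h1 ⟨r, hr, rfl⟩, ?_⟩
      change (MulAut.conjNormal g) ((MulAut.conjNormal g⁻¹) r) = r
      rw [map_inv, MulAut.apply_inv_self])
    obtain ⟨k, hk⟩ := MulAction.exists_smul_eq Cz P1 P2
    have hk2 : ∀ u ∈ S.U c, (k : K) * u * (k : K)⁻¹ ∈ V := by
      intro u hu'
      have h1 : (⟨u, hUC hu'⟩ : Cz) ∈ (P1 : Subgroup Cz) := by
        rw [hP1, mem_subgroupOf]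
        exact hu'
      have h2 : k * ⟨u, hUC hu'⟩ * k⁻¹ ∈ ((k • P1 : Sylow p Cz) : Subgroup Cz) := by
        rw [Sylow.coe_subgroup_smul]
        exact ⟨⟨u, hUC hu'⟩, h1, rfl⟩
      rw [hk, hP2, mem_subgroupOf] at h2
      exact h2
    have hk3 : ∀ v ∈ V, (k : K)⁻¹ * v * (k : K) ∈ S.U c := by
      intro v hv
      have h1 : (⟨v, hVC hv⟩ : Cz) ∈ (P2 : Subgroup Cz) := by
        rw [hP2, mem_subgroupOf]
        exact hv
      rw [← hk, Sylow.coe_subgroup_smul] at h1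
      obtain ⟨w, hw, hwv⟩ := h1
      have h2 : k * w * k⁻¹ = ⟨v, hVC hv⟩ := hwv
      have h3 : (w : K) = (k : K)⁻¹ * v * (k : K) := by
        have h4 := congrArg Subtype.val h2
        have h5 : (k : K) * (w : K) * (k : K)⁻¹ = v := h4
        rw [← h5]
        group
      rw [← h3]
      have h6 : w ∈ (P1 : Subgroup Cz) := hw
      rw [hP1, mem_subgroupOf] at h6
      exact h6
    have hkc : (k : K) • c = A.θ g c := by
      apply hfixV
      intro v hv
      have h1 := S.fix c _ (hk3 v hv)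
      rw [mul_smul, mul_smul, inv_smul_eq_iff] at h1
      exact h1
    refine key (((k : K)⁻¹ : K) * g) ?_ ?_ ?_
    · rw [A.θ_mul, A.θ_K, ← hkc, inv_smul_smul]
    · rw [A.σ_mul, A.σ_K S, hg1']
    · have h1 : (MulAut.conjNormal ((((k : K)⁻¹ : K) : H) * g) z : K) = z := by
        rw [map_mul, MulAut.mul_apply, hgz']
        apply Subtype.ext
        rw [MulAut.conjNormal_apply]
        have h2 : (k : K) * z = z * (k : K) := mem_centralizer_singleton_iff.1 k.2
        have h3 : (((k : K)⁻¹ : K) : H) * (z : H) * (((k : K)⁻¹ : K) : H)⁻¹ = (((k : K)⁻¹ * z * (k : K) : K) : H) := by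
          simp
        rw [h3]
        congr 1
        rw [mul_assoc, ← h2]
        group
      rw [h1]
      exact hz
  · -- the centre of `U c` is `Z`
    obtain ⟨k, hk⟩ := exists_smul_top S hth c (A.θ g c)
    have hg1 : A.θ (((k : K)⁻¹ : K) * g) c = c := by
      rw [A.θ_mul, A.θ_K, ← hk, inv_smul_smul]
    have hg2 : A.σ (((k : K)⁻¹ : K) * g) i = j := by
      rw [A.σ_mul, A.σ_K S, hg0']
    obtain ⟨g', hg'⟩ : ∃ g' : H, g' = ((k : K)⁻¹ : K) * g := ⟨_, rfl⟩
    rw [← hg'] at hg1 hg2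
    apply key g' hg1 hg2
    have hle : ∀ a : H, A.θ a c = c → ∀ u ∈ S.U c, (MulAut.conjNormal a u : K) ∈ S.U c := by
      intro a ha u hu'
      refine S.max c ((S.U c).map (MulAut.conjNormal a : K ≃* K).toMonoidHom) ((S.isP c).map _) ?_ ⟨u, hu', rfl⟩
      rintro _ ⟨v, hv, rfl⟩
      have h1 := conj_smul A S a v c
      rw [ha, S.fix c v hv, ha] at h1
      exact h1.symm
    refine hp2 _ (hle g' hg1 z (hZU hz)) ?_
    intro u hu'
    have hginv : A.θ g'⁻¹ c = c := by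
      have h1 := A.θ_inv_θ g' c
      rwa [hg1] at h1
    have h1 := hle g'⁻¹ hginv u hu'
    have h2 := hZc z hz _ h1
    have h3 := congrArg (MulAut.conjNormal g' : K ≃* K) h2
    rw [map_mul, map_mul, map_inv, MulAut.apply_inv_self] at h3
    exact h3

end Cfsg.Agent.H480.Fr

namespace Cfsg.Agent.H480.Fr

open Cfsg.Agent.Tits.Core Cfsg.Agent.Tits.Core.Bldg Cfsg.Agent.Tits.Exchange Cfsg.Agent.Tits
open Cfsg.Agent.FixBN Cfsg.Agent.FixBN.Cox Cfsg.Agent.UGT.U2.FOne Cfsg.Agent.ZN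
open Cfsg.Agent.Omega.ML.LieRow Subgroup Cfsg.Agent.Tits.OfBN Cfsg.Agent.Schreier.BNSch
  Cfsg.Agent.LieExceptional.BNPairCore

universe u v

/-- `Z` is central in `U`, centralised by an element of `B s B` but by no element of `B t B` -/
structure Cen {S : Type*} [Group S] (P : Cfsg.BNPair S) (U : Subgroup S) (s t : S) (Z : Subgroup S) : Prop where
  ne : ∃ z ∈ Z, z ≠ 1
  le : Z ≤ U
  comm : ∀ z ∈ Z, ∀ u ∈ U, u * z = z * u
  nrm : ∀ b ∈ P.B, ∀ z ∈ Z, b * z * b⁻¹ ∈ Z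
  ex : ∃ b ∈ P.B, ∃ b' ∈ P.B, ∀ z ∈ Z, (b * s * b') * z = z * (b * s * b')
  tri : ∀ z ∈ Z, t * z * t⁻¹ ∈ Z → z = 1

theorem Cen.map {K L : Type*} [Group K] [Group L] (e : K ≃* L) {P : Cfsg.BNPair K} {U : Subgroup K} {s t : K}
    {Z : Subgroup K} (h : Cen P U s t Z) :
    Cen (Transport.mapBN e P) (U.map e.toMonoidHom) (e s) (e t) (Z.map e.toMonoidHom) where
  ne := by
    obtain ⟨z, hz, hz1⟩ := h.ne
    exact ⟨e z, ⟨z, hz, rfl⟩, fun h1 => hz1 ((MulEquiv.map_eq_one_iff _).1 h1)⟩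
  le := Subgroup.map_mono h.le
  comm := by
    rintro _ ⟨z, hz, rfl⟩ _ ⟨u, hu, rfl⟩
    exact (map_mul e u z).symm.trans ((congrArg e (h.comm z hz u hu)).trans (map_mul e z u))
  nrm := by
    rintro _ ⟨b, hb, rfl⟩ _ ⟨z, hz, rfl⟩
    refine ⟨_, h.nrm b hb z hz, ?_⟩
    simp
  ex := by
    obtain ⟨b, hb, b', hb', h1⟩ := h.ex
    refine ⟨e b, ⟨b, hb, rfl⟩, e b', ⟨b', hb', rfl⟩, ?_⟩
    rintro _ ⟨z, hz, rfl⟩
    have h2 := congrArg e (h1 z hz)
    simpa using h2
  tri := by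
    rintro _ ⟨z, hz, rfl⟩ h1
    obtain ⟨y, hy, hyz⟩ := h1
    have h2 : y = t * z * t⁻¹ := by
      apply e.injective
      rw [map_mul, map_mul, map_inv]
      exact hyz
    have h3 := h.tri z hz (by rw [← h2]; exact hy)
    rw [h3]
    exact map_one e

/-- **Rank two, with a central subgroup distinguishing the nodes.** -/
theorem row_of_center {S : Type v} [Group S] [Finite S] {p : ℕ} [hp : Fact p.Prime] {P : Cfsg.BNPair S}
    {U : Subgroup S} (hP : Split P p U) {s t : S} (hS : P.S = {s, t}) (hst : s ≠ t) {Z : Subgroup S}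
    (hZ : Cen P U s t Z) (hp2 : p ≠ 2 ∨ ∀ z ∈ U, (∀ u ∈ U, u * z = z * u) → z ∈ Z) : Row.{u} S := by
  intro G _ _ K hK hs hna hc hcyc f 𝓐 hA
  have hP' := Transport.split f P hP
  have hZ' := hZ.map f
  have hp2' : p ≠ 2 ∨ ∀ z ∈ U.map f.toMonoidHom, (∀ u ∈ U.map f.toMonoidHom, u * z = z * u) →
      z ∈ Z.map f.toMonoidHom := by
    rcases hp2 with h | h
    · exact Or.inl h
    · right
      rintro _ ⟨z, hz, rfl⟩ h1
      refine ⟨z, h z hz fun u hu => f.injective ?_, rfl⟩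
      rw [map_mul, map_mul]
      exact h1 _ ⟨u, hu, rfl⟩
  obtain ⟨P', hP'def⟩ : ∃ P', P' = Transport.mapBN f P := ⟨_, rfl⟩
  have hS' : P'.S = {f s, f t} := by
    rw [hP'def]
    change f '' P.S = _
    rw [hS, Set.image_pair]
  rw [← hP'def] at hP' hZ'
  obtain ⟨U', hU'def⟩ : ∃ U', U' = U.map f.toMonoidHom := ⟨_, rfl⟩
  obtain ⟨Z', hZ'def⟩ : ∃ Z', Z' = Z.map f.toMonoidHom := ⟨_, rfl⟩
  rw [← hU'def] at hP' hZ' hp2'
  rw [← hZ'def] at hZ' hp2'
  have hsS : f s ∈ P'.S := by rw [hS']; exact Set.mem_insert _ _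
  have htS : f t ∈ P'.S := by rw [hS']; exact Set.mem_insert_of_mem _ rfl
  obtain ⟨M, hM⟩ := Tits.Labels.exists_bnType (P := P')
  obtain ⟨Vs, hVs⟩ := hP'.node _ hsS
  obtain ⟨Vt, hVt⟩ := hP'.node _ htS
  obtain ⟨x, hx, hxs, hxt⟩ := exists_not_mem_two hVs.ne hVt.ne
  set i₀ : P'.S := ⟨f s, hsS⟩ with hi₀
  set j₀ : P'.S := ⟨f t, htS⟩ with hj₀
  have hall : ∀ i : P'.S, i = i₀ ∨ i = j₀ := by
    rintro ⟨i, hi⟩
    have h1 := hi
    rw [hS'] at h1
    rcases h1 with rfl | h1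
    · exact Or.inl rfl
    · rw [Set.mem_singleton_iff] at h1
      subst h1
      exact Or.inr rfl
  have hne : i₀ ≠ j₀ := fun h => hst (f.injective (congrArg Subtype.val h))
  have hK : K.Normal := hK
  have hxreg : ∀ i : P'.S, ∀ V : Subgroup K, Node P' U' (i : K) V → x ∉ V := by
    intro i V' hV'
    rcases hall i with rfl | rfl
    · rw [node_unique hP'.le hV' hVs]; exact hxs
    · rw [node_unique hP'.le hV' hVt]; exact hxt
  obtain ⟨hN, cs, hcs⟩ := hM
  have hI : Finite P'.S := OfBN.finite_I (Equiv.refl P'.S)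
  have hth := thick P' (Equiv.refl P'.S) cs hcs
  obtain ⟨A⟩ := exists_hact (OfBN.sys (Equiv.refl P'.S) cs hcs hP') hth
    (fun τ => UGT.U2.FOne.exists_mv hP' (Equiv.refl P'.S) cs hcs τ)
  have hUc : (OfBN.sys (Equiv.refl P'.S) cs hcs hP').U (QuotientGroup.mk 1) = U' := by
    ext y
    change y ∈ OfBN.UU P' U' (QuotientGroup.mk 1) ↔ _
    rw [OfBN.mem_UU hP']
    have h1 : (1 : K)⁻¹ * y * 1 = y := by group
    rw [h1]
  obtain ⟨Δ, hΔ, Sy, A, hth, hUc⟩ : ∃ (Δ : Bldg cs (K ⧸ P'.B)) (_ : Δ = bldg P' (Equiv.refl P'.S) cs hcs)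
      (Sy : Sys Δ K p) (_ : HAct Δ K), Δ.Thick ∧ Sy.U (QuotientGroup.mk 1) = U' := ⟨_, rfl, _, A, hth, hUc⟩
  set c : K ⧸ P'.B := QuotientGroup.mk 1 with hcdef
  have hcne : Nonempty (K ⧸ P'.B) := ⟨c⟩
  have hdist : ∀ (i : P'.S) (g : K), Δ.δ c (g • c) = cs.simple i ↔ ∃ b ∈ P'.B, ∃ b' ∈ P'.B, g = b * (i : K) * b' := by
    intro i g
    have h1 : g • c = QuotientGroup.mk g := by
      rw [hcdef]
      change QuotientGroup.mk (g * 1) = _
      rw [mul_one]
    have h2 : Δ.δ c (g • c) = wt P' g := by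
      rw [h1, hcdef, hΔ, bldg_δ_mk, inv_one, one_mul]
    rw [h2, hcs]
    constructor
    · intro h3
      obtain ⟨b, hb, b', hb', h4⟩ := mem_C.1 (mem_C_of_wt _ h3)
      exact ⟨b, hb, b', hb', h4⟩
    · rintro ⟨b, hb, b', hb', h4⟩
      exact wt_of_mem _ (mem_C.2 ⟨b, hb, b', hb', h4⟩)
  -- the chambers adjacent to `c`
  have hadj : ∀ (i : P'.S) y, Δ.δ c y = cs.simple i → ∃ u ∈ U', y = QuotientGroup.mk (u * (i : K)) := by
    intro i y hy
    induction y using QuotientGroup.induction_on with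
    | _ a =>
    have h0 : a • c = (QuotientGroup.mk a : K ⧸ P'.B) := by
      rw [hcdef]
      change QuotientGroup.mk (a * 1) = _
      rw [mul_one]
    obtain ⟨b, hb, b', hb', h2⟩ := (hdist i a).1 (by rw [h0]; exact hy)
    obtain ⟨u, hu, t, ht, rfl⟩ := hP'.cover' hb
    refine ⟨u, hu, ?_⟩
    have h3 := P'.conj_mem (i : K)⁻¹ (inv_mem (P'.subset i.2)) _ ht
    rw [inv_inv] at h3
    have h4 : a = u * (i : K) * ((i : K)⁻¹ * t * (i : K) * b') := by rw [h2]; group
    rw [h4]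
    exact QuotientGroup.mk_mul_of_mem _ (mul_mem h3 hb')
  have hfix : ∀ i : P'.S, ∀ u ∈ U', ∀ v ∈ U', v • (QuotientGroup.mk (u * (i : K)) : K ⧸ P'.B) =
      QuotientGroup.mk (u * (i : K)) → ∀ V : Subgroup K, Node P' U' (i : K) V → v ∈ V := by
    intro i u hu v hv hfix V hV
    rw [OfBN.smul_mk_eq] at hfix
    have h1 : (i : K)⁻¹ * (u⁻¹ * v * u) * (i : K) ∈ P'.B := by
      have : (i : K)⁻¹ * (u⁻¹ * v * u) * (i : K) = (u * (i : K))⁻¹ * v * (u * (i : K)) := by group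
      rwa [this]
    have h2 := hV.stab _ (mul_mem (mul_mem (inv_mem hu) hv) hu) h1
    have h3 := hV.conj_B u (hP'.le hu) _ h2
    have : u * (u⁻¹ * v * u) * u⁻¹ = v := by group
    rwa [this] at h3
  have hreg' : ∀ i y, Δ.δ c y = cs.simple i → x • y ≠ y := by
    intro i y hy hxy
    obtain ⟨u, hu, rfl⟩ := hadj i y hy
    obtain ⟨V, hV⟩ := hP'.node i i.2
    exact hxreg i V hV (hfix i u hu x hx hxy V hV)
  have hx' : x ∈ Sy.U c := by rw [hUc]; exact hx
  have hZc : ∀ z ∈ Z', ∀ u ∈ Sy.U c, u * z = z * u := by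
    rw [hUc]
    exact hZ'.comm
  have hF : ∀ N : Subgroup G, N.Normal → Group.IsNilpotent ↥N → N = ⊥ := no_nilpotent_normal K hs hna hc
  have hfixσ : ∀ g : G, A.σ g i₀ = i₀ := by
    intro g
    refine no_swap A Sy hth hx' hreg' hne hall hZ'.ne (by rw [hUc]; exact hZ'.le) hZc ?_ ?_ hF
      (by rw [hUc]; exact hp2') hA g
    · obtain ⟨b, hb, b', hb', h1⟩ := hZ'.ex
      exact ⟨b * f s * b', (hdist i₀ _).2 ⟨b, hb, b', hb', rfl⟩, h1⟩
    · intro u hu z hz hz1 h1
      obtain ⟨b, hb, b', hb', rfl⟩ := (hdist j₀ u).1 hu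
      have h2 := hZ'.nrm b' hb' z hz
      have h3 := hZ'.nrm b⁻¹ (inv_mem hb) z hz
      rw [inv_inv] at h3
      have h4 : f t * (b' * z * b'⁻¹) * (f t)⁻¹ = b⁻¹ * z * b := by
        have h5 : (b * f t * b') * z = z * (b * f t * b') := h1
        calc f t * (b' * z * b'⁻¹) * (f t)⁻¹ = b⁻¹ * ((b * f t * b') * z) * (b'⁻¹ * (f t)⁻¹) := by group
          _ = b⁻¹ * (z * (b * f t * b')) * (b'⁻¹ * (f t)⁻¹) := by rw [h5]
          _ = _ := by group
      have h6 := hZ'.tri _ h2 (by rw [h4]; exact h3)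
      apply hz1
      have h7 : z = b'⁻¹ * (b' * z * b'⁻¹) * b' := by group
      rw [h7, h6]
      group
  refine not_nmc A Sy hth hx' hreg' (J := {i₀}) ?_ ⟨i₀, rfl⟩ ?_ hA
  · intro g i hi
    rw [Set.mem_singleton_iff] at hi ⊢
    rw [hi]
    exact hfixσ g
  · intro h1
    have h2 : j₀ ∈ ({i₀} : Set P'.S) := by rw [h1]; trivial
    exact hne (Set.mem_singleton_iff.1 h2).symm

end Cfsg.Agent.H480.Fr
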