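import Cfsg.Agent.H480.Sl

/-!
# Nilpotent minimal covers: three dimensional groups (helper480, S3925, S3926)
-/

set_option autoImplicit false
set_option linter.unusedSectionVars false
set_option linter.unusedSimpArgs false

namespace Cfsg.Agent.H480.Three

open Subgroup Matrix Cfsg

variable {F : Type*} [Field F]

/-- the torus element -/
def mz (y : F) : Matrix (Fin 3) (Fin 3) F := !![(y ^ 2)⁻¹, 0, 0; 0, y, 0; 0, 0, y]
/-- the transvection -/
def md (e : F) : Matrix (Fin 3) (Fin 3) F := !![1, 0, 0; 0, 1, e; 0, 0, 1]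
/-- the opposite transvection -/
def ml (e : F) : Matrix (Fin 3) (Fin 3) F := !![1, 0, 0; 0, 1, 0; 0, -e⁻¹, 1]
/-- the Weyl element -/
def mw (e : F) : Matrix (Fin 3) (Fin 3) F := !![1, 0, 0; 0, 0, e; 0, -e⁻¹, 0]

theorem ml_mw {e : F} (he : e ≠ 0) : ml e * mw e = mw e * md e := by
  ext i j
  fin_cases i <;> fin_cases j <;> simp [ml, mw, md, Matrix.mul_apply, Fin.sum_univ_three, he]

theorem md_ml_md {e : F} (he : e ≠ 0) : md e * ml e * md e = mw e := by
  ext i j
  fin_cases i <;> fin_cases j <;> simp [ml, mw, md, Matrix.mul_apply, Fin.sum_univ_three, he]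

theorem mw_four {e : F} (he : e ≠ 0) : mw e ^ 4 = 1 := by
  have h : mw e * mw e = !![1, 0, 0; 0, -1, 0; 0, 0, -1] := by
    ext i j
    fin_cases i <;> fin_cases j <;> simp [mw, Matrix.mul_apply, Fin.sum_univ_three, he]
  rw [show (4 : ℕ) = 2 * 2 from rfl, pow_mul, pow_two (mw e), h]
  ext i j
  fin_cases i <;> fin_cases j <;> simp [pow_two, Matrix.mul_apply, Fin.sum_univ_three]

theorem md_pow (e : F) (n : ℕ) : md e ^ n = md (n * e) := by
  induction n with
  | zero => ext i j; fin_cases i <;> fin_cases j <;> simp [md]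
  | succ n ih =>
    rw [pow_succ, ih]
    ext i j
    fin_cases i <;> fin_cases j <;> simp [md, Matrix.mul_apply, Fin.sum_univ_three]
    ring

theorem md_zero : md (0 : F) = 1 := by
  ext i j; fin_cases i <;> fin_cases j <;> simp [md]

theorem dl_cube {e : F} (he : e ≠ 0) (h2 : (2 : F) = 0) : (md e * ml e) ^ 3 = 1 := by
  have h : md e * ml e = !![1, 0, 0; 0, 0, e; 0, -e⁻¹, 1] := by
    ext i j
    fin_cases i <;> fin_cases j <;> simp [md, ml, Matrix.mul_apply, Fin.sum_univ_three, he]
  have h1 : (-1 : F) = 1 := by linear_combination -h2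
  rw [h, pow_succ, pow_two]
  ext i j
  have h3 : e + e = 0 := by linear_combination e * h2
  have h4 : (1 : F) + 1 = 0 := by linear_combination h2
  fin_cases i <;> fin_cases j <;> simp [Matrix.mul_apply, Fin.sum_univ_three, he, h1, h3, h4]

theorem mz_pow (y : F) (n : ℕ) : mz y ^ n = mz (y ^ n) := by
  induction n with
  | zero => ext i j; fin_cases i <;> fin_cases j <;> simp [mz]
  | succ n ih =>
    rw [pow_succ, ih]
    ext i j
    fin_cases i <;> fin_cases j <;> simp [mz, Matrix.mul_apply, Fin.sum_univ_three, pow_succ]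
    ring

theorem mz_md (y e : F) : mz y * md e = md e * mz y := by
  ext i j
  fin_cases i <;> fin_cases j <;> simp [mz, md, Matrix.mul_apply, Fin.sum_univ_three, mul_comm]

theorem mz_mw (y e : F) : mz y * mw e = mw e * mz y := by
  ext i j
  fin_cases i <;> fin_cases j <;> simp [mz, mw, Matrix.mul_apply, Fin.sum_univ_three, mul_comm]

/-- commuting with the transvection up to a scalar -/
theorem comm_md {X : Matrix (Fin 3) (Fin 3) F} (hX : X.det ≠ 0) {e c : F} (he : e ≠ 0)
    (h : X * md e = c • (md e * X)) : c = 1 ∧ X 0 1 = 0 ∧ X 2 1 = 0 ∧ X 2 0 = 0 ∧ X 1 1 = X 2 2 := by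
  have h' := fun i j => congrFun (congrFun h i) j
  simp only [md, Matrix.mul_apply, Fin.sum_univ_three, Matrix.smul_apply] at h'
  have h00 := h' 0 0
  have h01 := h' 0 1
  have h02 := h' 0 2
  have h10 := h' 1 0
  have h11 := h' 1 1
  have h12 := h' 1 2
  have h20 := h' 2 0
  have h21 := h' 2 1
  have h22 := h' 2 2
  simp at h00 h01 h02 h10 h11 h12 h20 h21 h22
  by_cases hc : c = 1
  · subst hc
    refine ⟨rfl, ?_, ?_, ?_, ?_⟩
    · have : X 0 1 * e = 0 := by linear_combination h02
      exact (mul_eq_zero.1 this).resolve_right he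
    · have : X 2 1 * e = 0 := by linear_combination -h11
      exact (mul_eq_zero.1 this).resolve_right he
    · have : X 2 0 * e = 0 := by linear_combination -h10
      exact (mul_eq_zero.1 this).resolve_right he
    · have : (X 1 1 - X 2 2) * e = 0 := by linear_combination h12
      exact sub_eq_zero.1 ((mul_eq_zero.1 this).resolve_right he)
  · exfalso
    have key : ∀ a : F, a = c * a → a = 0 := by
      intro a ha
      have : (1 - c) * a = 0 := by linear_combination ha
      exact (mul_eq_zero.1 this).resolve_left (sub_ne_zero.2 (Ne.symm hc))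
    apply hX
    rw [Matrix.det_eq_zero_of_row_eq_zero 0]
    intro j
    have h1 := key _ h01
    fin_cases j
    · exact key _ h00
    · exact h1
    · exact key _ (by rw [h1, zero_mul, zero_add] at h02; exact h02)

/-- commuting with the torus element up to a scalar as well -/
theorem comm_mz {X : Matrix (Fin 3) (Fin 3) F} (hX : X.det ≠ 0) {e c c' y : F} (he : e ≠ 0) (hy : y ≠ 0)
    (hy3 : y ^ 3 ≠ 1) (h : X * md e = c • (md e * X)) (h' : X * mz y = c' • (mz y * X)) :
    ∃ a b n : F, b ≠ 0 ∧ X = !![a, 0, 0; 0, b, n; 0, 0, b] := by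
  obtain ⟨-, h01, h21, h20, h12⟩ := comm_md hX he h
  have h1 := fun i j => congrFun (congrFun h' i) j
  simp only [mz, Matrix.mul_apply, Fin.sum_univ_three, Matrix.smul_apply] at h1
  have k02 := h1 0 2
  have k10 := h1 1 0
  have k11 := h1 1 1
  simp at k02 k10 k11
  have hb : X 1 1 ≠ 0 := by
    intro h0
    apply hX
    rw [Matrix.det_eq_zero_of_column_eq_zero 1]
    intro i
    fin_cases i
    exacts [h01, h0, h21]
  have hc : c' = 1 := by
    have : (1 - c') * (X 1 1 * y) = 0 := by linear_combination k11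
    rcases mul_eq_zero.1 this with h2 | h2
    · linear_combination -h2
    · exact absurd h2 (mul_ne_zero hb hy)
  subst hc
  have hne : y - (y ^ 2)⁻¹ ≠ 0 := by
    intro h2
    apply hy3
    field_simp at h2
    linear_combination h2
  have h02 : X 0 2 = 0 := by
    have : X 0 2 * (y - (y ^ 2)⁻¹) = 0 := by linear_combination k02
    exact (mul_eq_zero.1 this).resolve_right hne
  have h10 : X 1 0 = 0 := by
    have : X 1 0 * (y - (y ^ 2)⁻¹) = 0 := by linear_combination -k10
    exact (mul_eq_zero.1 this).resolve_right hne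
  refine ⟨X 0 0, X 1 1, X 1 2, hb, ?_⟩
  ext i j
  fin_cases i <;> fin_cases j <;> simp [h01, h02, h10, h20, h21, h12]

theorem pow_shape (a b n : F) (k : ℕ) : (!![a, 0, 0; 0, b, n; 0, 0, b] : Matrix (Fin 3) (Fin 3) F) ^ k =
    !![a ^ k, 0, 0; 0, b ^ k, k * b ^ (k - 1) * n; 0, 0, b ^ k] := by
  induction k with
  | zero => ext i j; fin_cases i <;> fin_cases j <;> simp
  | succ k ih =>
    rw [pow_succ, ih]
    ext i j
    fin_cases i <;> fin_cases j <;> simp [Matrix.mul_apply, Fin.sum_univ_three, pow_succ]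
    rcases k with - | k
    · simp
    · simp only [Nat.add_sub_cancel, pow_succ]
      push_cast
      ring

variable {Γ : Type*} [Group Γ]

theorem kill_three (ρ : Γ →* Matrix (Fin 3) (Fin 3) F) (hinj : Function.Injective ρ)
    (hdet : ∀ g, (ρ g).det ≠ 0) (hcen : ∀ g ∈ center Γ, ∃ c : F, ρ g = c • (1 : Matrix (Fin 3) (Fin 3) F))
    {p r : ℕ} [CharP F p] [hp : Fact p.Prime] (hr : r.Prime) (hrp : r ≠ p) {y e : F}
    (hη : IsPrimitiveRoot (y ^ 3) r) (he : e ≠ 0) {z d w : Γ} (hz : ρ z = mz y) (hd : ρ d = md e)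
    (hw : ρ w = mw e) : Kill (Γ ⧸ center Γ) := by
  have hr0 : (r : F) ≠ 0 := by
    intro h
    rw [CharP.cast_eq_zero_iff F p] at h
    exact hrp ((Nat.prime_dvd_prime_iff_eq hp.1 hr).1 h).symm
  have hy3 : y ^ 3 ≠ 1 := hη.ne_one hr.one_lt
  have hy : y ≠ 0 := by
    rintro rfl
    have := hη.pow_eq_one
    simp [hr.ne_zero] at this
  set π : Γ →* Γ ⧸ center Γ := QuotientGroup.mk' _ with hπ
  have hπs : Function.Surjective π := QuotientGroup.mk'_surjective _
  have hsc : ∀ X Y : Γ, π X = π Y → ∃ c : F, ρ X = c • ρ Y := by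
    intro X Y h
    have h1 : X * Y⁻¹ ∈ center Γ := by
      rw [← QuotientGroup.eq_one_iff]
      change π (X * Y⁻¹) = 1
      rw [map_mul, h, map_inv, mul_inv_cancel]
    obtain ⟨c, hc⟩ := hcen _ h1
    refine ⟨c, ?_⟩
    have h2 : X = X * Y⁻¹ * Y := by group
    rw [h2, map_mul, hc, smul_mul_assoc, one_mul]
  have hsc' : ∀ (X Y : Γ) (c : F), ρ X = c • ρ Y → π X = π Y := by
    intro X Y c h
    have h1 : X * Y⁻¹ ∈ center Γ := by
      rw [mem_center_iff]
      intro g
      apply hinj
      have h2 : ρ (X * Y⁻¹) = c • (1 : Matrix (Fin 3) (Fin 3) F) := by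
        rw [map_mul, h, smul_mul_assoc, ← map_mul, mul_inv_cancel, map_one]
      rw [map_mul ρ g, map_mul ρ _ g, h2]
      simp
    have h2 : π (X * Y⁻¹) = 1 := (QuotientGroup.eq_one_iff _).2 h1
    rw [map_mul, map_inv] at h2
    exact mul_inv_eq_one.1 h2
  have hdp : d ^ p = 1 := by
    apply hinj
    rw [map_pow, hd, md_pow, CharP.cast_eq_zero, zero_mul, md_zero, map_one]
  have hzd : z * d = d * z := by
    apply hinj
    rw [map_mul, map_mul, hz, hd, mz_md]
  have hzw : z * w = w * z := by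
    apply hinj
    rw [map_mul, map_mul, hz, hw, mz_mw]
  refine ⟨r, π z, π d, hr, ?_, ?_, ?_, ?_, ?_⟩
  · have hfr : Fact r.Prime := ⟨hr⟩
    refine orderOf_eq_prime ?_ ?_
    · rw [← map_pow, ← map_one π]
      apply hsc' _ _ (y ^ r)
      have h1 : (y ^ r) ^ 3 = 1 := by rw [← pow_mul, mul_comm, pow_mul, hη.pow_eq_one]
      have h0 : y ^ r ≠ 0 := pow_ne_zero _ hy
      rw [map_pow, hz, mz_pow, map_one]
      have h2 : ((y ^ r) ^ 2)⁻¹ = y ^ r := by
        refine inv_eq_of_mul_eq_one_left ?_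
        rw [← h1]
        ring
      ext i j
      fin_cases i <;> fin_cases j <;> simp [mz]
      simpa using h2
    · intro h
      obtain ⟨c, hc⟩ := hsc _ _ (h.trans (map_one π).symm)
      rw [hz, map_one] at hc
      have h0 := congrFun (congrFun hc 0) 0
      have h1 := congrFun (congrFun hc 1) 1
      simp [mz] at h0 h1
      apply hy3
      rw [← h1] at h0
      field_simp at h0
      linear_combination -h0
  · refine Nat.Coprime.coprime_dvd_left (orderOf_dvd_of_pow_eq_one (n := p) ?_)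
      ((Nat.coprime_primes hp.1 hr).2 hrp.symm)
    rw [← map_pow, hdp, map_one]
  · rw [← map_mul, ← map_mul, hzd]
  · intro x hx hxz hxd
    obtain ⟨X, rfl⟩ := hπs x
    rw [← map_mul, ← map_mul] at hxz hxd
    obtain ⟨c', hc'⟩ := hsc _ _ hxz
    obtain ⟨c, hc⟩ := hsc _ _ hxd
    rw [map_mul, map_mul, hz] at hc'
    rw [map_mul, map_mul, hd] at hc
    obtain ⟨a, b, n, hb, hX⟩ := comm_mz (hdet X) he hy hy3 hc hc'
    have hXr : π (X ^ r) = π 1 := by
      rw [map_pow, map_one, ← hx, pow_orderOf_eq_one]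
    obtain ⟨t, ht⟩ := hsc _ _ hXr
    rw [map_pow, hX, pow_shape, map_one] at ht
    have h00 := congrFun (congrFun ht 0) 0
    have h11 := congrFun (congrFun ht 1) 1
    have h12 := congrFun (congrFun ht 1) 2
    simp at h00 h11 h12
    have hn : n = 0 := by
      rcases h12 with (h12 | h12) | h12
      · exact absurd h12 hr0
      · exact absurd h12.1 hb
      · exact h12
    have hab : (a / b) ^ r = 1 := by
      rw [div_pow, h00, ← h11, div_self (pow_ne_zero _ hb)]
    have hη' : IsPrimitiveRoot (y ^ 3)⁻¹ r := hη.inv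
    have hnz : NeZero r := ⟨hr.ne_zero⟩
    obtain ⟨i, -, hi⟩ := hη'.eq_pow_of_pow_eq_one hab
    refine mem_zpowers_iff.2 ⟨(i : ℤ), ?_⟩
    rw [zpow_natCast, ← map_pow]
    apply hsc' _ _ (y ^ i * b⁻¹)
    rw [map_pow, hz, mz_pow, hX, hn]
    have ha : a = b * ((y ^ 3)⁻¹) ^ i := by
      rw [hi]
      field_simp
    ext i' j'
    fin_cases i' <;> fin_cases j' <;> simp [mz, ha]
    · field_simp
      ring
    · field_simp
    · field_simp
  · -- the conjugates
    set l : Γ := w * d * w⁻¹ with hl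
    have hlm : ρ l = ml e := by
      have h1 : ρ w * ρ w⁻¹ = 1 := by rw [← map_mul, mul_inv_cancel, map_one]
      rw [hl, map_mul, map_mul, hw, hd, ← ml_mw he, mul_assoc, ← hw, h1, mul_one]
    have hC : π w ∈ centralizer ({π z} : Set (Γ ⧸ center Γ)) := by
      rw [mem_centralizer_singleton_iff, ← map_mul, ← map_mul, hzw]
    have hdD : π d ∈ closure (cjs (centralizer ({π z} : Set (Γ ⧸ center Γ))) (π d)) :=
      subset_closure (mem_cjs_self _ _)
    have hlD : π l ∈ closure (cjs (centralizer ({π z} : Set (Γ ⧸ center Γ))) (π d)) :=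
      subset_closure ⟨π w, hC, by rw [hl, map_mul, map_mul, map_inv]⟩
    have hwl : d * l * d = w := by
      apply hinj
      rw [map_mul, map_mul, hd, hlm, hw, md_ml_md he]
    rcases hp.1.eq_two_or_odd' with rfl | hodd
    · have h2 : (2 : F) = 0 := by
        have := CharP.cast_eq_zero F 2
        exact_mod_cast this
      refine not_nilpotent_of_coprime (mul_mem hdD hlD) hdD (m := 3) (n := 2) (by norm_num) ?_ ?_ ?_
      · rw [← map_mul, ← map_pow]
        rw [show (d * l) ^ 3 = 1 from hinj (by rw [map_pow, map_mul, hd, hlm, dl_cube he h2, map_one]), map_one]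
      · rw [← map_pow, hdp, map_one]
      · intro h
        rw [← map_mul, ← map_mul, ← map_mul, hwl] at h
        obtain ⟨c, hc⟩ := hsc _ _ h
        rw [map_mul, map_mul, hw, hd, hlm] at hc
        have h0 := congrFun (congrFun hc 0) 0
        have h1 := congrFun (congrFun hc 1) 1
        simp [mw, md, ml, Matrix.mul_apply, Fin.sum_univ_three, he] at h0 h1
        exact one_ne_zero (h0.trans h1)
    · have hwD : π w ∈ closure (cjs (centralizer ({π z} : Set (Γ ⧸ center Γ))) (π d)) := by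
        rw [← hwl, map_mul, map_mul]
        exact mul_mem (mul_mem hdD hlD) hdD
      refine not_nilpotent_of_coprime hwD hdD (m := 4) (n := p) (by
        exact Nat.Coprime.pow_left 2 (hodd.coprime_two_left)) ?_ ?_ ?_
      · rw [← map_pow, show w ^ 4 = 1 from hinj (by rw [map_pow, hw, mw_four he, map_one]), map_one]
      · rw [← map_pow, hdp, map_one]
      · intro h
        rw [← map_mul, ← map_mul] at h
        obtain ⟨c, hc⟩ := hsc _ _ h
        rw [map_mul, map_mul, hw, hd] at hc
        have h0 := congrFun (congrFun hc 0) 0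
        have h1 := congrFun (congrFun hc 1) 1
        simp [mw, md, ml, Matrix.mul_apply, Fin.sum_univ_three, he] at h0 h1
        exact one_ne_zero (h0.trans h1)

theorem exists_root {F : Type*} [Field F] [Finite F] {m : ℕ} (hm : m ∣ Nat.card Fˣ) (h : 1 < m / Nat.gcd m 3) :
    ∃ r : ℕ, r.Prime ∧ r ∣ m ∧ ∃ y : F, y ^ m = 1 ∧ IsPrimitiveRoot (y ^ 3) r := by
  obtain ⟨r, hr, hrd⟩ := Nat.exists_prime_and_dvd h.ne'
  have hm0 : m ≠ 0 := by
    rintro rfl
    simp at h
  obtain ⟨g0, hg0⟩ := IsCyclic.exists_ofOrder_eq_natCard (α := Fˣ)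
  obtain ⟨k, hk⟩ := hm
  have hk0 : k ≠ 0 := by
    rintro rfl
    rw [mul_zero] at hk
    exact Nat.card_pos.ne' hk
  have hg : orderOf (g0 ^ k) = m := by
    rw [orderOf_pow_of_dvd hk0 (by rw [hg0, hk]; exact dvd_mul_left _ _), hg0, hk,
      Nat.mul_div_cancel _ (Nat.pos_of_ne_zero hk0)]
  set g := g0 ^ k with hgdef
  have hg3 : orderOf (g ^ 3) = m / Nat.gcd m 3 := by rw [orderOf_pow, hg]
  obtain ⟨j, hj⟩ := hrd
  have hj0 : j ≠ 0 := by
    rintro rfl
    rw [mul_zero] at hj
    omega
  have h1 : orderOf ((g ^ 3) ^ j) = r := by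
    rw [orderOf_pow_of_dvd hj0 (by rw [hg3, hj]; exact dvd_mul_left _ _), hg3, hj,
      Nat.mul_div_cancel _ (Nat.pos_of_ne_zero hj0)]
  refine ⟨r, hr, ?_, ((g ^ j : Fˣ) : F), ?_, ?_⟩
  · refine (Dvd.intro _ hj.symm).trans (Nat.div_dvd_of_dvd (Nat.gcd_dvd_left m 3))
  · rw [← Units.val_pow_eq_pow_val, ← pow_mul, mul_comm, pow_mul, ← hg, pow_orderOf_eq_one, one_pow, Units.val_one]
  · rw [← Units.val_pow_eq_pow_val]
    have h2 : (g ^ j) ^ 3 = (g ^ 3) ^ j := pow_right_comm g j 3
    rw [h2, ← h1]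
    exact IsPrimitiveRoot.coe_units_iff.2 (IsPrimitiveRoot.orderOf _)

/-! ### the linear group -/

/-- the inclusion -/
def rhoSL (F : Type*) [Field F] : Matrix.SpecialLinearGroup (Fin 3) F →* Matrix (Fin 3) (Fin 3) F where
  toFun g := g
  map_one' := Matrix.SpecialLinearGroup.coe_one
  map_mul' := Matrix.SpecialLinearGroup.coe_mul

theorem det_md (e : F) : (md e).det = 1 := by
  simp [md, det_fin_three]

theorem det_mw {e : F} (he : e ≠ 0) : (mw e).det = 1 := by
  simp [mw, det_fin_three, he]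

theorem det_mz {y : F} (hy : y ≠ 0) : (mz y).det = 1 := by
  simp [mz, det_fin_three]
  field_simp

theorem kill_PSL {F : Type*} [Field F] [Finite F] (p : ℕ) [hp : Fact p.Prime] [CharP F p]
    (h : 1 < (Nat.card F - 1) / Nat.gcd (Nat.card F - 1) 3) :
    Kill (Matrix.ProjectiveSpecialLinearGroup (Fin 3) F) := by
  obtain ⟨r, hr, hrm, y, -, hy⟩ := exists_root (F := F) (m := Nat.card F - 1) (by rw [Nat.card_units]) h
  have hy0 : y ≠ 0 := by
    rintro rfl
    have := hy.pow_eq_one
    simp [hr.ne_zero] at this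
  have hrp : r ≠ p := by
    rintro rfl
    have : Fintype F := Fintype.ofFinite F
    obtain ⟨n, -, hn⟩ := FiniteField.card F r
    have h1 : r ∣ Nat.card F := by
      rw [Nat.card_eq_fintype_card, hn]
      exact dvd_pow_self r n.pos.ne'
    have h2 : 1 ≤ Nat.card F := Nat.card_pos
    have h3 := (Nat.dvd_sub_iff_right h2 h1).1 hrm
    exact hr.one_lt.ne' (Nat.dvd_one.1 h3)
  refine kill_three (rhoSL F) (fun a b hab => Subtype.ext hab) (fun g => by
    change (g : Matrix (Fin 3) (Fin 3) F).det ≠ 0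
    rw [g.2]
    exact one_ne_zero) ?_ hr hrp hy (one_ne_zero) (z := ⟨mz y, det_mz hy0⟩) (d := ⟨md 1, det_md 1⟩)
      (w := ⟨mw 1, det_mw one_ne_zero⟩) rfl rfl rfl
  intro g hg
  obtain ⟨c, -, hc⟩ := Matrix.SpecialLinearGroup.mem_center_iff.1 hg
  refine ⟨c, ?_⟩
  change (g : Matrix (Fin 3) (Fin 3) F) = _
  rw [← hc]
  ext i j
  fin_cases i <;> fin_cases j <;> simp

end Cfsg.Agent.H480.Three
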