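import Cfsg.Agent.H480.LieTwo
import Cfsg.Agent.ChevalleyStructure.TwD4Card

/-!
# Nilpotent minimal covers: `³D₄(q)` (helper480, S3925, S3926)
-/

set_option autoImplicit false
set_option linter.unusedSectionVars false

namespace Cfsg.Agent.H480.Fr

open Cfsg.Lie
open CoxeterSystem Cfsg.Agent.ChevalleyStructure.CoxeterGeom Cfsg.Agent.Tits.Roots Cfsg.Agent.Tits.Core
  Cfsg.Agent.Nodes.BNOf Cfsg.Agent.Nodes.RGDTwGen Cfsg.Agent.Nodes.RGDChev Cfsg.Agent.Nodes.RGDFold
  Cfsg.Agent.Nodes.RGDTwD4 Cfsg.Agent.Omega.ML.Ex.Typ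
open Cfsg.Agent.ChevalleyStructure
  Cfsg.Agent.ChevalleyStructure.TwistedU Cfsg.Agent.ChevalleyStructure.TwistedFix
open Cfsg.Agent.ChevalleyStructure.D4Comm Cfsg.Agent.ChevalleyStructure.D4RGD
open Cfsg.Agent.ChevalleyStructure.GraphSymm
open Cfsg.Agent.ChevalleyStructure.D4U Cfsg.Agent.ChevalleyStructure.D4Twisted
open Cfsg.Agent.ChevalleyStructure.D4Fixed (sig)

universe u v

theorem card_pow_eq_le {K : Type*} [Field K] [Finite K] {q : ℕ} (hq : 2 ≤ q) :
    Nat.card {c : K // c ^ q = c} ≤ q := by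
  classical
  have : Fintype K := Fintype.ofFinite K
  let f : Polynomial K := Polynomial.X ^ q - Polynomial.X
  have hdeg : (Polynomial.X : Polynomial K).natDegree < q := by
    rw [Polynomial.natDegree_X]; omega
  have hf : f.natDegree = q := by
    rw [Polynomial.natDegree_sub_eq_left_of_natDegree_lt (by rwa [Polynomial.natDegree_X_pow]),
      Polynomial.natDegree_X_pow]
  have hf0 : f ≠ 0 := by
    intro h
    rw [h, Polynomial.natDegree_zero] at hf
    omega
  have h1 : ∀ c : K, c ^ q = c → c ∈ f.roots.toFinset := by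
    intro c hc
    rw [Multiset.mem_toFinset, Polynomial.mem_roots hf0, Polynomial.IsRoot.def]
    simp only [f, Polynomial.eval_sub, Polynomial.eval_pow, Polynomial.eval_X]
    rw [hc, sub_self]
  have h2 : Nat.card {c : K // c ^ q = c} ≤ Nat.card f.roots.toFinset :=
    Nat.card_le_card_of_injective (fun c => (⟨c.1, h1 c.1 c.2⟩ : f.roots.toFinset)) fun x y e =>
      Subtype.ext (congrArg (fun z => (z.1 : K)) e)
  refine h2.trans ?_
  rw [Nat.card_eq_fintype_card, Fintype.card_coe]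
  exact (Multiset.toFinset_card_le _).trans ((Polynomial.card_roots' f).trans hf.le)

theorem card_X0 {K : Type*} [Field K] [Fintype K] {φ : K →+* K} {q : ℕ} (hq : 2 ≤ q) (hφ : ∀ x, φ x = x ^ q) :
    Nat.card (X φ q (sr 0)) ≤ q := by
  refine le_trans ?_ (card_pow_eq_le (K := K) hq)
  have h1 : ∀ g : X φ q (sr 0), ∃ t : {c : K // c ^ q = c},
      ((g : ↥(twistedD4 K q)) : GL chevD4.Idx K) = D4Comm.xG 14 (t : K) := by
    rintro ⟨g, hg⟩
    have h2 : (g : GL chevD4.Idx K) ∈ R chevD4 hp K J (sig φ) (sr 0) := hg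
    rw [R0, Subgroup.mem_inf] at h2
    obtain ⟨t, ht⟩ : ∃ t, (g : GL chevD4.Idx K) = D4Comm.xG 14 t := by
      have h3 : RS K [14] ≤ chevD4.rootSubgroup K 14 := by
        refine rspan_le D4Comm.xG fun s hs t => ?_
        have h4 : s = 14 := by simpa using hs
        subst h4
        exact xG_mem_rootSubgroup (F := K) 14 t
      exact mem_rootSubgroup.1 (h3 h2.1)
    refine ⟨⟨t, ?_⟩, ht⟩
    have h3 := h2.2
    rw [ht, ← D4U.xU_eq, D4Fixed.mem_fix, D4Fixed.sig_14, D4U.xU_eq, D4U.xU_eq] at h3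
    have h4 := Elts.xG_injective (F := K) hp.inList (r := 14) (by decide) (by exact h3)
    rw [← hφ]
    exact h4
  choose f hf using h1
  refine Nat.card_le_card_of_injective f ?_
  intro g g' hgg
  apply Subtype.ext
  apply Subtype.ext
  rw [hf g, hf g', hgg]

theorem row_twD4 {K : Type} [Field K] [Fintype K] {q : ℕ} (hq : IsPrimePow q) (hK : Fintype.card K = q ^ 3)
    (p : ℕ) [CharP K p] : Row.{u} ↥(Lie.twistedD4 K q) := by
  have : Fact p.Prime := ⟨CharP.char_is_prime K p⟩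
  obtain ⟨φ, hφ⟩ := D4Fixed.exists_frob hq hK
  have h2 : 2 ≤ q := hq.two_le
  have hpar : ParT p CoxeterMatrix.G₂ (0 : Fin 2) q ↥(Lie.twistedD4 K q) :=
    ⟨_, isCartan, _, _, _, Cfsg.Agent.Nodes.RGDFold.finite_W (hp := hp) CoxeterMatrix.G₂.toCoxeterSystem isCartan foldData,
      rgd _ hK hφ p, G1_eq_top _ hK hφ, card_X0 h2 hφ⟩
  -- the order
  obtain ⟨n, -, hn⟩ := FiniteField.card K p
  obtain ⟨a, -, ha⟩ : ∃ a ≤ (n : ℕ), q = p ^ a := (Nat.dvd_prime_pow Fact.out).1 (by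
    rw [← hn, hK]; exact dvd_pow_self q three_ne_zero)
  have hdvd : p ^ (a * 12) ∣ Nat.card ↥(Lie.twistedD4 K q) := by
    rw [TwD4Card.card_twistedD4 hq hK]
    refine Dvd.dvd.mul_left (Dvd.dvd.mul_right ?_ _) _
    rw [D4U.card_U1 hq hK, pow_mul, ← ha]
  refine row_of_par (m := 6) (k := a * 12) rfl hdvd ?_ hpar
  rw [pow_mul, ← ha]
  exact Nat.pow_lt_pow_right (by omega) (by omega)

end Cfsg.Agent.H480.Fr
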