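import Cfsg.Agent.H480.SplitTwo
import Cfsg.Agent.Mrg.ParSys.Fam.TwoFFour
import Cfsg.Agent.S1090

/-!
# Nilpotent minimal covers: `²F₄(q)`, `q ≥ 8` (helper480, S3925, S3926)
-/

set_option autoImplicit false
set_option linter.unusedSectionVars false

namespace Cfsg.Agent.H480.Fr

open Cfsg.Lie Cfsg.Agent.ParSys.Fam.TwoFFour
open Cfsg.Agent.ChevalleyStructure.TwF4.Tables
open Cfsg.Agent.ChevalleyStructure.TwF4.Rel
open Cfsg.Agent.ChevalleyStructure.TwF4.Groups Cfsg.Agent.ChevalleyStructure.TwF4.RankOne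
open Cfsg.Agent.ChevalleyStructure.TwF4.Twisted Cfsg.Agent.ChevalleyStructure.TwF4.TwistedFix
open Cfsg.Agent.ChevalleyStructure.TwF4.BN
open Cfsg.Agent.ChevalleyStructure.TwF4.Torus (T chi T_conj_X T_inr chi_def)
open Cfsg.Agent.ChevalleyStructure.TwF4.TwGen (tc tc_mul chi_tc_24 chi_tc_25 chi_tc_33 chi_tc_27 chi28 chi30 pow_all
  n1_eq n2_eq n1_conj_T n2_conj_T)
open Cfsg.Agent.ChevalleyStructure.TwF4.TorusFix (mem_iff pow_unit T_rt rt)
open Cfsg.Agent.Schreier.TwFFour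

universe u

theorem row_twistedF4 {K : Type} [Field K] [Fintype K] {m : ℕ} (hm : 1 ≤ m)
    (hK : Fintype.card K = 2 ^ (2 * m + 1)) : Row.{u} ↥(twistedF4 K (2 ^ m)) := by
  have : CharP K 2 := charP_two hK
  have : Fact (Nat.Prime 2) := ⟨Nat.prime_two⟩
  obtain ⟨φ, hφ⟩ := exists_rln hK
  obtain ⟨P, hPB, hPN, -, hPS⟩ := Cfsg.Agent.ChevalleyStructure.TwF4.BNIrred.exists_bnPair_irreducible hφ
  have hB : P.B = B0 K (2 ^ m) := hPB
  have hdec := dec hK hφ
  have hUp := isPGroup_U0 hK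
  set s1 : ↥(twistedF4 K (2 ^ m)) := ⟨n1 K, n1_mem⟩ with hs1
  set s2 : ↥(twistedF4 K (2 ^ m)) := ⟨n2 K, n2_mem hφ.pos⟩ with hs2
  have node_1 : Cfsg.Agent.Schreier.BNSch.Node P (U0 K (2 ^ m)) s1 (V1 K (2 ^ m)) := node1 hφ hB
  have node_2 : Cfsg.Agent.Schreier.BNSch.Node P (U0 K (2 ^ m)) s2 (V8 K (2 ^ m)) := node2 hφ hB
  have hdB : ∀ b ∈ P.B, ∃ s t : Kˣ, ∃ u ∈ U0 K (2 ^ m), b = u * tt hdec s t := by
    intro b hb
    rw [hB] at hb
    obtain ⟨s, t, u, hu, hbu⟩ := hdec.1 b hb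
    exact ⟨s, t, u, hu, Subtype.ext hbu⟩
  have httN : ∀ s t : Kˣ, tt hdec s t ∈ P.N := fun s t => by
    rw [hPN]
    exact Cfsg.Agent.ChevalleyStructure.TwF4.NStruct.T_mem_N _
  have hH : ∀ h ∈ P.B, h ∈ P.N → ∃ s t : Kˣ, h = tt hdec s t := by
    intro h hh hN
    rw [hPB, Subgroup.mem_subgroupOf] at hh
    rw [hPN, Subgroup.mem_subgroupOf] at hN
    have h1 := borel_inf_N ⟨hh, hN⟩
    obtain ⟨s, t, hst⟩ := (mem_iff hK (h : GL chevF4.Idx K)).1 ⟨h1, h.2⟩
    exact ⟨s, t, Subtype.ext hst⟩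
  have hUB : U0 K (2 ^ m) ≤ P.B := by rw [hB]; exact U0_le_B0
  have hnorm : ∀ b ∈ P.B, ∀ u ∈ U0 K (2 ^ m), b * u * b⁻¹ ∈ U0 K (2 ^ m) := fun b hb u hu => by
    rw [hB] at hb
    exact conj_U0 hb hu
  have hsplit : FixBN.Split P 2 (U0 K (2 ^ m)) :=
    { le := hUB
      norm := hnorm
      isP := hUp
      cover := fun b hb => by
        obtain ⟨s, t, u, hu, rfl⟩ := hdB b hb
        refine ⟨u, hu, ?_⟩
        rw [inv_mul_cancel_left]
        exact httN s t
      tor := ⟨2 ^ (2 * m + 1) - 1, by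
        have h1 : 2 ∣ 2 ^ (2 * m + 1) := dvd_pow_self 2 (by omega)
        have h2 : 0 < 2 ^ (2 * m + 1) := by positivity
        omega, fun h hh hN => by
        obtain ⟨s, t, rfl⟩ := hH h hh hN
        apply Subtype.ext
        show T (tc (2 ^ m) s t) ^ (2 ^ (2 * m + 1) - 1) = 1
        rw [← map_pow]
        have h2 : tc (2 ^ m) s t ^ (2 ^ (2 * m + 1) - 1) = 1 := by
          have h3 : ∀ x : Kˣ, x ^ (2 ^ (2 * m + 1) - 1) = 1 := by
            intro x
            have h4 := pow_card_eq_one' (x := x)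
            rwa [Nat.card_units, Nat.card_eq_fintype_card, hK] at h4
          funext l
          rw [Pi.pow_apply, h3]; rfl
        rw [h2, map_one]⟩
      node := by
        intro s hs
        rw [hPS] at hs
        rcases hs with rfl | hs
        · exact ⟨_, node_1⟩
        · rw [Set.mem_singleton_iff] at hs
          subst hs
          exact ⟨_, node_2⟩
      core := by
        obtain ⟨hsimp, -⟩ := Cfsg.Agent.S1072.result hm hK
        rcases hsimp.eq_bot_or_eq_top_of_normal P.B.normalCore inferInstance with h | h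
        · exact h
        · exfalso
          have h1 : P.B = ⊤ := by
            rw [eq_top_iff, ← h]
            exact Subgroup.normalCore_le _
          obtain ⟨u, hu, huV⟩ := node_1.ne
          exact huV (node_1.stab u hu (by rw [h1]; exact Subgroup.mem_top _)) }
  have hne : s1 ≠ s2 := by
    intro h
    have h1 := congrArg (fun x : ↥(twistedF4 K (2 ^ m)) => (x : GL chevF4.Idx K)) h
    have h2 : n1 K = n2 K := h1
    apply n1_inv_mul_n2 (K := K)
    rw [h2, inv_mul_cancel]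
    exact one_mem _
  refine row_of_split (s := s1) (t := s2) (r := 2 ^ (2 * m + 1)) (k := (2 * m + 1) * 12) hsplit hPS hne node_1 ?_ ?_ ?_
  · -- the index of `V1`
    rw [← hK, ← Nat.card_eq_fintype_card]
    rw [Subgroup.relIndex]
    have hxU : ∀ t : K, (⟨xa (2 ^ m) t, xa_mem t⟩ : ↥(twistedF4 K (2 ^ m))) ∈ U0 K (2 ^ m) := fun t =>
      Subgroup.mem_subgroupOf.2 (xa_U t)
    refine Nat.card_le_card_of_surjective (fun t : K => (QuotientGroup.mk (⟨⟨xa (2 ^ m) t, xa_mem t⟩, hxU t⟩ :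
      ↥(U0 K (2 ^ m))) : _ ⧸ (V1 K (2 ^ m)).subgroupOf (U0 K (2 ^ m)))) ?_
    intro q
    induction q using QuotientGroup.induction_on with
    | _ u =>
    obtain ⟨u, hu⟩ := u
    obtain ⟨v, hv, t, hut⟩ := decU_a hφ hu
    refine ⟨t, ?_⟩
    rw [QuotientGroup.eq, Subgroup.mem_subgroupOf]
    change (⟨xa (2 ^ m) t, xa_mem t⟩ : ↥(twistedF4 K (2 ^ m)))⁻¹ * u ∈ _
    rw [hut]
    have h1 := node_1.conj_B _ (hUB (inv_mem (hxU t))) v hv
    rw [inv_inv, mul_assoc] at h1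
    exact h1
  · have h1 := Cfsg.Agent.S1090.result (K := K) (m := m) hK
    rw [pow_mul, ← h1]
    have h2 : chevF4.posUnipotent K ⊓ twistedF4 K (2 ^ m) ≤ twistedF4 K (2 ^ m) := inf_le_right
    exact Subgroup.card_dvd_of_le h2
  · rw [pow_mul, ← pow_mul, ← pow_mul]
    exact Nat.pow_lt_pow_right (by norm_num) (by omega)

end Cfsg.Agent.H480.Fr
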