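import Cfsg.Agent.H480.Three
import Cfsg.Agent.H155.Unit
import Cfsg.Agent.LieClassical.HermBasic

/-!
# Nilpotent minimal covers: `PSU₃(q)` (helper480, S3925, S3926)
-/

set_option autoImplicit false
set_option linter.unusedSectionVars false
set_option linter.unusedSimpArgs false

namespace Cfsg.Agent.H480.Three

open Subgroup Matrix Cfsg Cfsg.Agent.LieClassical.HermBasic

section gram

variable {F : Type*} [Field F] (σ : F →+* F)

/-- the change of basis -/
def mp (s t : F) : Matrix (Fin 3) (Fin 3) F := !![1, 0, 0; 0, 1, 1 + s; 0, t, s * t]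
/-- the Gram matrix -/
def mg (F : Type*) [Field F] : Matrix (Fin 3) (Fin 3) F := !![1, 0, 0; 0, 0, 1; 0, 1, 0]

theorem gram {s t : F} (hs : s + σ s = -1) (ht : t * σ t = -1) : (mp s t)ᵀ * (mp s t).map σ = mg F := by
  ext i j
  fin_cases i <;> fin_cases j <;> simp [mp, mg, Matrix.mul_apply, Fin.sum_univ_three]
  · linear_combination ht
  · linear_combination σ s * ht
  · linear_combination s * ht
  · linear_combination hs + s * σ s * ht

theorem det_mp (s t : F) : (mp s t).det = -t := by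
  simp [mp, det_fin_three]
  ring

theorem gram_md {e : F} (he : e + σ e = 0) : (md e)ᵀ * mg F * (md e).map σ = mg F := by
  ext i j
  fin_cases i <;> fin_cases j <;> simp [md, mg, Matrix.mul_apply, Fin.sum_univ_three]
  linear_combination he

theorem gram_mw {e : F} (h0 : e ≠ 0) (he : e + σ e = 0) : (mw e)ᵀ * mg F * (mw e).map σ = mg F := by
  have h1 : σ e = -e := by linear_combination he
  ext i j
  fin_cases i <;> fin_cases j <;> simp [mw, mg, Matrix.mul_apply, Fin.sum_univ_three, h1, h0]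

theorem gram_mz {y : F} (h0 : y ≠ 0) (hy : y * σ y = 1) : (mz y)ᵀ * mg F * (mz y).map σ = mg F := by
  have h1 : σ y = y⁻¹ := eq_inv_of_mul_eq_one_right hy
  ext i j
  fin_cases i <;> fin_cases j <;> simp [mz, mg, Matrix.mul_apply, Fin.sum_univ_three, h1, h0]

variable {σ} in
/-- conjugates of isometries of the Gram form -/
theorem conj_iso {P G M : Matrix (Fin 3) (Fin 3) F} (hP : IsUnit P.det) (hG : Pᵀ * P.map σ = G)
    (hM : Mᵀ * G * M.map σ = G) : (P * M * P⁻¹)ᵀ * (P * M * P⁻¹).map σ = 1 := by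
  have h1 : P * P⁻¹ = 1 := Matrix.mul_nonsing_inv P hP
  have h2 : P⁻¹ᵀ * Pᵀ = 1 := by rw [← transpose_mul, h1, transpose_one]
  have h3 : P.map σ * P⁻¹.map σ = 1 := by
    rw [← Matrix.map_mul, h1, Matrix.map_one σ (map_zero σ) (map_one σ)]
  rw [transpose_mul, transpose_mul, Matrix.map_mul, Matrix.map_mul]
  calc P⁻¹ᵀ * (Mᵀ * Pᵀ) * (P.map σ * M.map σ * P⁻¹.map σ)
      = P⁻¹ᵀ * (Mᵀ * (Pᵀ * P.map σ) * M.map σ) * P⁻¹.map σ := by simp only [mul_assoc]
    _ = P⁻¹ᵀ * (Pᵀ * P.map σ) * P⁻¹.map σ := by rw [hG, hM]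
    _ = (P⁻¹ᵀ * Pᵀ) * (P.map σ * P⁻¹.map σ) := by simp only [mul_assoc]
    _ = 1 := by rw [h2, h3, mul_one]

end gram

variable {F : Type*} [Field F] [Fintype F] {q : ℕ}

/-- the representation in the new basis -/
noncomputable def rhoSU (q : ℕ) (P : Matrix (Fin 3) (Fin 3) F) (hP : IsUnit P.det) : SU 3 F q →* Matrix (Fin 3) (Fin 3) F where
  toFun g := P⁻¹ * ((g : Matrix.SpecialLinearGroup (Fin 3) F) : Matrix (Fin 3) (Fin 3) F) * P
  map_one' := by
    simp [Matrix.nonsing_inv_mul P hP]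
  map_mul' g h := by
    simp only [Subgroup.coe_mul, Matrix.SpecialLinearGroup.coe_mul]
    have h1 : P * P⁻¹ = 1 := Matrix.mul_nonsing_inv P hP
    calc P⁻¹ * (((g : Matrix.SpecialLinearGroup (Fin 3) F) : Matrix (Fin 3) (Fin 3) F) *
          ((h : Matrix.SpecialLinearGroup (Fin 3) F) : Matrix (Fin 3) (Fin 3) F)) * P
        = P⁻¹ * ((g : Matrix.SpecialLinearGroup (Fin 3) F) : Matrix (Fin 3) (Fin 3) F) * (P * P⁻¹) *
          ((h : Matrix.SpecialLinearGroup (Fin 3) F) : Matrix (Fin 3) (Fin 3) F) * P := by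
            rw [h1, mul_one]; simp only [mul_assoc]
      _ = _ := by simp only [mul_assoc]

/-- the element of `SU₃` with a given matrix in the new basis -/
theorem exists_elt {σ : F →+* F} (hσ : ∀ x, σ x = x ^ q) {P M : Matrix (Fin 3) (Fin 3) F} (hP : IsUnit P.det)
    (hG : Pᵀ * P.map σ = mg F) (hM : Mᵀ * mg F * M.map σ = mg F) (hdet : M.det = 1) :
    ∃ g : SU 3 F q, rhoSU q P hP g = M := by
  have h1 : P * P⁻¹ = 1 := Matrix.mul_nonsing_inv P hP
  have h1' : P⁻¹ * P = 1 := Matrix.nonsing_inv_mul P hP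
  have hd : (P * M * P⁻¹).det = 1 := by
    rw [det_mul, det_mul, hdet, mul_one, ← det_mul, h1, det_one]
  refine ⟨⟨⟨P * M * P⁻¹, hd⟩, (H155.Unit.mem_SU_iff_matrix σ hσ _).2 (conj_iso hP hG hM)⟩, ?_⟩
  change P⁻¹ * (P * M * P⁻¹) * P = M
  calc P⁻¹ * (P * M * P⁻¹) * P = (P⁻¹ * P) * M * (P⁻¹ * P) := by simp only [mul_assoc]
    _ = M := by rw [h1', one_mul, mul_one]

theorem kill_PSU (hF : Fintype.card F = q ^ 2) (h3 : 3 ≤ q) : Kill (PSU 3 F q) := by
  obtain ⟨p, k, hp, hch, hqp, hk⟩ := exists_prime_pow hF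
  have hfp : Fact p.Prime := ⟨hp⟩
  set σ : F →+* F := (conj hF : F →+* F) with hσdef
  have hσ : ∀ x, σ x = x ^ q := fun x => conj_apply hF x
  -- the basis
  obtain ⟨s, hs⟩ := exists_trace_eq hF (c := -1) (by rw [neg_pow_q hF, one_pow])
  obtain ⟨t, ht⟩ := exists_norm_eq hF (c := -1) (by rw [neg_pow_q hF, one_pow])
  rw [← hσ] at hs ht
  have ht0 : t ≠ 0 := by
    rintro rfl
    simp at ht
  have hG := gram σ hs ht
  have hP : IsUnit (mp s t).det := by
    rw [det_mp]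
    exact (neg_ne_zero.2 ht0).isUnit
  obtain ⟨e, he0, he⟩ := exists_trace_zero_ne hF
  rw [← hσ] at he
  -- the root of unity
  have hcu := card_units_eq hF
  have hlt : 1 < (q + 1) / Nat.gcd (q + 1) 3 := by
    have h1 : Nat.gcd (q + 1) 3 ∣ 3 := Nat.gcd_dvd_right _ _
    have h2 : Nat.gcd (q + 1) 3 ∣ q + 1 := Nat.gcd_dvd_left _ _
    rcases (Nat.dvd_prime Nat.prime_three).1 h1 with h | h
    · rw [h, Nat.div_one]; omega
    · rw [h] at h2 ⊢; omega
  obtain ⟨r, hr, hrm, y, hy1, hy⟩ := exists_root (F := F) (m := q + 1) (by rw [hcu]; exact dvd_mul_right _ _) hlt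
  have hy0 : y ≠ 0 := by
    rintro rfl
    have := hy.pow_eq_one
    simp [hr.ne_zero] at this
  have hyσ : y * σ y = 1 := by
    rw [hσ, ← hy1, pow_succ, mul_comm]
  have hrp : r ≠ p := by
    rintro rfl
    have h1 : r ∣ q := by rw [hqp]; exact dvd_pow_self r hk.ne'
    exact hr.one_lt.ne' (Nat.dvd_one.1 ((Nat.dvd_add_right h1).1 hrm))
  obtain ⟨z, hz⟩ := exists_elt hσ hP hG (gram_mz σ hy0 hyσ) (det_mz hy0)
  obtain ⟨d, hd⟩ := exists_elt hσ hP hG (gram_md σ he) (det_md e)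
  obtain ⟨w, hw⟩ := exists_elt hσ hP hG (gram_mw σ he0 he) (det_mw he0)
  refine kill_three (rhoSU q (mp s t) hP) ?_ ?_ ?_ hr hrp hy he0 hz hd hw
  · intro g h hgh
    have h1 : mp s t * (mp s t)⁻¹ = 1 := Matrix.mul_nonsing_inv _ hP
    change (mp s t)⁻¹ * ((g : Matrix.SpecialLinearGroup (Fin 3) F) : Matrix (Fin 3) (Fin 3) F) * mp s t =
      (mp s t)⁻¹ * ((h : Matrix.SpecialLinearGroup (Fin 3) F) : Matrix (Fin 3) (Fin 3) F) * mp s t at hgh
    apply Subtype.ext
    apply Subtype.ext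
    have h2 := congrArg (fun X => mp s t * X * (mp s t)⁻¹) hgh
    beta_reduce at h2
    have h3 : ∀ X : Matrix (Fin 3) (Fin 3) F, mp s t * ((mp s t)⁻¹ * X * mp s t) * (mp s t)⁻¹ = X := by
      intro X
      calc mp s t * ((mp s t)⁻¹ * X * mp s t) * (mp s t)⁻¹ = (mp s t * (mp s t)⁻¹) * X * (mp s t * (mp s t)⁻¹) := by
            simp only [mul_assoc]
        _ = X := by rw [h1, one_mul, mul_one]
    rw [h3, h3] at h2
    exact h2
  · intro g
    change ((mp s t)⁻¹ * ((g : Matrix.SpecialLinearGroup (Fin 3) F) : Matrix (Fin 3) (Fin 3) F) * mp s t).det ≠ 0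
    rw [det_mul, det_mul, mul_comm, ← mul_assoc, ← det_mul, Matrix.mul_nonsing_inv _ hP, det_one, one_mul, g.1.2]
    exact one_ne_zero
  · intro g hg
    obtain ⟨c, hcn, hcq, rfl⟩ := (LieClassical.SUBasic.mem_center_SU_iff hF le_rfl g).1 hg
    refine ⟨c, ?_⟩
    change (mp s t)⁻¹ * (((LieClassical.SUBasic.suScalar q c hcn hcq : SU 3 F q) :
      Matrix.SpecialLinearGroup (Fin 3) F) : Matrix (Fin 3) (Fin 3) F) * mp s t = _
    rw [LieClassical.SUBasic.coe_suScalar]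
    have h4 : (Matrix.diagonal fun _ => c : Matrix (Fin 3) (Fin 3) F) = c • 1 := by
      ext i j
      simp [Matrix.diagonal_apply, Matrix.one_apply]
    rw [h4, mul_smul_comm, smul_mul_assoc, mul_one, Matrix.nonsing_inv_mul _ hP]

end Cfsg.Agent.H480.Three
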